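import Cfsg.Agent.Lib.Co2Recog.NA.Orbits

/-!
A linear map of the 1024 functions fixing the first one and preserving the 77 is a word in the nine generators.
-/

set_option autoImplicit false
set_option maxRecDepth 100000

namespace Cfsg.Agent.Co2Recog.NA

open Cfsg.Agent.ThRec.Eight (ap ap_xor ap_zero ap_map)

/-- Pairs in the set whose sum with a function and the first one is in the set. -/
def cnt (x : ℕ) : ℕ := cF s77 sMask (Nat.xor 1 x)

/-- The first functions of the chain. -/
def baseF (l : ℕ) : List ℕ := 1 :: baseY.take l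

/-- A function with the same pattern as the base one with respect to the span of the earlier ones. -/
def like (F : List ℕ) (b y : ℕ) : Bool :=
  (List.range (2 ^ F.length)).all fun m => !(Nat.beq y (ap F m)) &&
    inS (Nat.xor (ap F m) b) == inS (Nat.xor (ap F m) y)

/-- A level of the chain. -/
def levelOK (l : ℕ) : Bool :=
  (s77.all fun y => !(Nat.beq (cnt y) (cnt 513)) || !(like (baseF l) (baseY.getD l 0) y) ||
    (transW.getD l []).any fun w => Nat.beq (wact w (baseY.getD l 0)) y) &&
  ((transW.getD l []).all fun w => (w.all fun k => Nat.blt k 9) &&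
    (baseF l).all fun b => Nat.beq (wact w b) b)

theorem levels_ok : ((List.range 5).all levelOK) = true := by decide +kernel

theorem base_facts : ((List.range 5).all fun l => inS (baseY.getD l 0) &&
    Nat.beq (cnt (baseY.getD l 0)) (cnt 513) && Nat.blt (baseY.getD l 0) 1024 &&
    (List.range (2 ^ (l + 1))).all fun m => !(Nat.beq (baseY.getD l 0) (ap (baseF l) m))) = true ∧
    baseY.length = 5 := by decide +kernel

theorem last_ok : (baseZ.all fun a => inS a && Nat.blt a 1024 &&
    ((List.range 64).all fun m => !(Nat.beq a (ap (baseF 5) m))) &&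
    (s77.all fun z => !(like (baseF 5) a z) || Nat.beq z a)) = true := by decide +kernel

theorem basis_ok : ((List.range 1024).all fun i => (List.range 16).any fun m => (List.range 64).any fun m' =>
    Nat.beq i (Nat.xor (ap baseZ m) (ap (baseF 5) m'))) = true := by decide +kernel

theorem genM_lt (k : ℕ) (hk : k < 9) : ∀ c ∈ genM k, c < 1024 := by
  have h : ((List.range 9).all fun k => (genM k).all fun c => Nat.blt c 1024) = true := by decide +kernel
  intro c hc
  have := List.all_eq_true.1 (List.all_eq_true.1 h k (List.mem_range.2 hk)) c hc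
  simpa [Nat.blt_eq] using this

theorem wact_xor : ∀ (w : List ℕ) (u v : ℕ), wact w (u ^^^ v) = wact w u ^^^ wact w v
  | [], _, _ => rfl
  | k :: w, u, v => by
    show ap (genM k) (wact w (u ^^^ v)) = _
    rw [wact_xor w, ap_xor]; rfl

theorem wact_zero : ∀ w : List ℕ, wact w 0 = 0
  | [] => rfl
  | k :: w => by show ap (genM k) (wact w 0) = 0; rw [wact_zero w, ap_zero]

theorem wact_lt : ∀ {w : List ℕ}, (∀ k ∈ w, k < 9) → ∀ {i}, i < 1024 → wact w i < 1024
  | [], _, _, hi => hi
  | k :: w, hw, _, _ =>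
    Cfsg.Agent.ThRec.Eight.ap_lt (n := 10) (genM_lt k (hw k List.mem_cons_self)) _

theorem wact_append : ∀ (v w : List ℕ) (i : ℕ), wact (v ++ w) i = wact v (wact w i)
  | [], _, _ => rfl
  | k :: v, w, i => by show ap (genM k) (wact (v ++ w) i) = _; rw [wact_append v]; rfl

theorem gen_inv {k : ℕ} (hk : k < 9) {i : ℕ} (hi : i < 1024) : ap (genM k) (ap (genM k) i) = i := by
  have h : ∀ b < 10, ap (genM k) (ap (genM k) (2 ^ b)) = 2 ^ b := fun b hb => by
    have := List.all_eq_true.1 (List.all_eq_true.1 gen_invol k (List.mem_range.2 hk)) b (List.mem_range.2 hb)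
    rw [Bool.and_eq_true] at this
    exact Nat.eq_of_beq_eq_true this.1
  rw [← ap_imgs (f := fun i => ap (genM k) (ap (genM k) i)) (by simp only [ap_zero])
    (fun u v => by simp only [ap_xor]) hi, ← ap_imgs (f := fun i => i) rfl (fun _ _ => rfl) hi]
  simp only [ap_imgs (f := fun i => i) rfl (fun _ _ => rfl) hi]
  conv_rhs => rw [← ap_imgs (f := fun i => i) rfl (fun _ _ => rfl) hi]
  congr 1
  exact List.map_congr_left fun b hb => h b (List.mem_range.1 hb)

theorem wact_reverse : ∀ {w : List ℕ}, (∀ k ∈ w, k < 9) → ∀ {i}, i < 1024 → wact w.reverse (wact w i) = i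
  | [], _, _, _ => rfl
  | k :: w, hw, i, hi => by
    rw [List.reverse_cons, wact_append]
    show wact w.reverse (ap (genM k) (ap (genM k) (wact w i))) = i
    rw [gen_inv (hw k List.mem_cons_self) (wact_lt (fun j hj => hw j (List.mem_cons_of_mem _ hj)) hi)]
    exact wact_reverse (fun j hj => hw j (List.mem_cons_of_mem _ hj)) hi

/-- A linear bijection of the functions fixing the first one and preserving the 77. -/
structure Sym (f : ℕ → ℕ) : Prop where
  lt : ∀ i < 1024, f i < 1024
  xor : ∀ u < 1024, ∀ v < 1024, f (u ^^^ v) = f u ^^^ f v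
  inj : ∀ u < 1024, ∀ v < 1024, f u = f v → u = v
  one : f 1 = 1
  keep : ∀ i < 1024, inS (f i) = inS i

theorem gen_keep : ((List.range 9).all fun k => Nat.beq (ap (genM k) 1) 1 &&
    (s77.all fun x => inS (ap (genM k) x))) = true := by decide +kernel

theorem lt10 {u v : ℕ} (hu : u < 1024) (hv : v < 1024) : u ^^^ v < 1024 :=
  Nat.xor_lt_two_pow (n := 10) hu hv

theorem mem_s77 {x : ℕ} (hx : x < 1024) : x ∈ s77 ↔ inS x = true := by
  constructor
  · intro h
    have := List.all_eq_true.1 opt_66.2.2.2.1 x h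
    rw [Bool.and_eq_true] at this
    exact this.1
  · intro h
    have := List.all_eq_true.1 opt_66.2.2.2.2 x (List.mem_range.2 hx)
    simpa [h] using this

theorem s77_lt {x : ℕ} (h : x ∈ s77) : x < 1024 := by
  have := List.all_eq_true.1 opt_66.2.2.2.1 x h
  rw [Bool.and_eq_true] at this
  simpa [Nat.blt_eq] using this.2

theorem gen_inS {k : ℕ} (hk : k < 9) {i : ℕ} (hi : i < 1024) : inS (ap (genM k) i) = inS i := by
  have hg := List.all_eq_true.1 gen_keep k (List.mem_range.2 hk)
  rw [Bool.and_eq_true] at hg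
  have hlt : ap (genM k) i < 1024 := Cfsg.Agent.ThRec.Eight.ap_lt (n := 10) (genM_lt k hk) _
  have key : ∀ j < 1024, inS j = true → inS (ap (genM k) j) = true := fun j hj h =>
    List.all_eq_true.1 hg.2 j ((mem_s77 hj).2 h)
  cases h : inS i
  · cases h' : inS (ap (genM k) i)
    · rfl
    · have := key _ hlt h'
      rw [gen_inv hk hi, h] at this
      exact this.symm
  · exact key i hi h

theorem Sym.word {w : List ℕ} (hw : ∀ k ∈ w, k < 9) : Sym (wact w) := by
  refine ⟨fun i hi => wact_lt hw hi, fun u _ v _ => wact_xor w u v, fun u hu v hv h => ?_, ?_, ?_⟩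
  · rw [← wact_reverse hw hu, h, wact_reverse hw hv]
  · induction w with
    | nil => rfl
    | cons k w ih =>
      show ap (genM k) (wact w 1) = 1
      rw [ih (fun j hj => hw j (List.mem_cons_of_mem _ hj))]
      have hg := List.all_eq_true.1 gen_keep k (List.mem_range.2 (hw k List.mem_cons_self))
      rw [Bool.and_eq_true] at hg
      exact Nat.eq_of_beq_eq_true hg.1
  · induction w with
    | nil => exact fun i _ => rfl
    | cons k w ih =>
      intro i hi
      have hw' : ∀ j ∈ w, j < 9 := fun j hj => hw j (List.mem_cons_of_mem _ hj)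
      show inS (ap (genM k) (wact w i)) = inS i
      rw [gen_inS (hw k List.mem_cons_self) (wact_lt hw' hi), ih hw' i hi]

theorem Sym.comp {f g : ℕ → ℕ} (hf : Sym f) (hg : Sym g) : Sym fun i => f (g i) :=
  ⟨fun i hi => hf.lt _ (hg.lt i hi),
    fun u hu v hv => by simp only [hg.xor u hu v hv, hf.xor _ (hg.lt u hu) _ (hg.lt v hv)],
    fun u hu v hv h => hg.inj u hu v hv (hf.inj _ (hg.lt u hu) _ (hg.lt v hv) h),
    by simp only [hg.one, hf.one],
    fun i hi => by simp only [hf.keep _ (hg.lt i hi), hg.keep i hi]⟩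

theorem Sym.cnt_eq {f : ℕ → ℕ} (hf : Sym f) {x : ℕ} (hx : x < 1024) : cnt (f x) = cnt x := by
  classical
  have hnd : s77.Nodup := by decide +kernel
  have hsmask : ∀ y, sMask.testBit y = inS y := fun y => rfl
  unfold cnt cF
  simp only [hsmask]
  rw [← List.toFinset_card_of_nodup (hnd.filter _), ← List.toFinset_card_of_nodup (hnd.filter _)]
  have h1x : Nat.xor 1 x < 1024 := lt10 (by norm_num) hx
  have hfx : Nat.xor 1 (f x) = f (Nat.xor 1 x) := by
    show 1 ^^^ f x = f (1 ^^^ x)
    rw [hf.xor 1 (by norm_num) x hx, hf.one]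
  have himg : s77.toFinset.image f = s77.toFinset := by
    refine Finset.eq_of_subset_of_card_le (fun y hy => ?_) ?_
    · obtain ⟨z, hz, rfl⟩ := Finset.mem_image.1 hy
      rw [List.mem_toFinset] at hz ⊢
      rw [mem_s77 (hf.lt z (s77_lt hz)), hf.keep z (s77_lt hz), ← mem_s77 (s77_lt hz)]
      exact hz
    · rw [Finset.card_image_of_injOn fun a ha b hb h =>
        hf.inj a (s77_lt (List.mem_toFinset.1 ha)) b (s77_lt (List.mem_toFinset.1 hb)) h]
  symm
  refine Finset.card_bij (fun b _ => f b) (fun b hb => ?_) (fun a ha b hb h => ?_) (fun c hc => ?_)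
  · rw [List.mem_toFinset, List.mem_filter] at hb ⊢
    have hb' := s77_lt hb.1
    refine ⟨(mem_s77 (hf.lt b hb')).2 (by rw [hf.keep b hb']; exact (mem_s77 hb').1 hb.1), ?_⟩
    rw [hfx, show Nat.xor (f (Nat.xor 1 x)) (f b) = f (Nat.xor (Nat.xor 1 x) b) from
      (hf.xor _ h1x b hb').symm, hf.keep (Nat.xor (Nat.xor 1 x) b) (lt10 h1x hb')]
    exact hb.2
  · rw [List.mem_toFinset, List.mem_filter] at ha hb
    exact hf.inj a (s77_lt ha.1) b (s77_lt hb.1) h
  · rw [List.mem_toFinset, List.mem_filter] at hc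
    obtain ⟨b, hb, rfl⟩ := Finset.mem_image.1 (himg.symm ▸ List.mem_toFinset.2 hc.1 : c ∈ s77.toFinset.image f)
    rw [List.mem_toFinset] at hb
    have hb' := s77_lt hb
    refine ⟨b, List.mem_toFinset.2 (List.mem_filter.2 ⟨hb, ?_⟩), rfl⟩
    have h2 := hc.2
    rw [hfx, show Nat.xor (f (Nat.xor 1 x)) (f b) = f (Nat.xor (Nat.xor 1 x) b) from
      (hf.xor _ h1x b hb').symm, hf.keep (Nat.xor (Nat.xor 1 x) b) (lt10 h1x hb')] at h2
    exact h2

theorem Sym.ap_fix {f : ℕ → ℕ} (hf : Sym f) :
    ∀ (F : List ℕ), (∀ b ∈ F, b < 1024 ∧ f b = b) → ∀ m, f (ap F m) = ap F m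
  | [], _, _ => by
    have h := hf.xor 1 (by norm_num) 1 (by norm_num)
    rw [Nat.xor_self, Nat.xor_self] at h
    exact h
  | c :: F, hF, m => by
    obtain ⟨hc, hfc⟩ := hF c List.mem_cons_self
    have h0 : f 0 = 0 := by
      have h := hf.xor 1 (by norm_num) 1 (by norm_num)
      rwa [Nat.xor_self, Nat.xor_self] at h
    have hl : ap F (m / 2) < 1024 := Cfsg.Agent.ThRec.Eight.ap_lt (n := 10)
      (fun d hd => (hF d (List.mem_cons_of_mem _ hd)).1) _
    rw [Cfsg.Agent.ThRec.Eight.ap_cons, hf.xor _ (by cases Cfsg.Agent.ThRec.Eight.odd m <;> simp [hc]) _ hl,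
      Sym.ap_fix hf F (fun d hd => hF d (List.mem_cons_of_mem _ hd))]
    cases Cfsg.Agent.ThRec.Eight.odd m <;> simp [h0, hfc]

theorem Sym.like_img {f : ℕ → ℕ} (hf : Sym f) {F : List ℕ} (hF : ∀ b ∈ F, b < 1024 ∧ f b = b) {b : ℕ}
    (hb : b < 1024) (hout : ∀ m < 2 ^ F.length, b ≠ ap F m) : like F b (f b) = true := by
  refine List.all_eq_true.2 fun m hm => ?_
  have hl : ap F m < 1024 := Cfsg.Agent.ThRec.Eight.ap_lt (n := 10) (fun d hd => (hF d hd).1) _
  rw [Bool.and_eq_true, Bool.not_eq_true', beq_iff_eq]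
  refine ⟨?_, ?_⟩
  · rw [← Bool.not_eq_true]
    intro h
    have h' := Nat.eq_of_beq_eq_true h
    rw [← hf.ap_fix F hF m] at h'
    exact hout m (List.mem_range.1 hm) (hf.inj b hb _ hl h')
  · show inS (ap F m ^^^ b) = inS (ap F m ^^^ f b)
    conv_rhs => rw [← hf.ap_fix F hF m, ← hf.xor _ hl b hb, hf.keep _ (lt10 hl hb)]

theorem baseF_succ : ∀ l < 5, baseF (l + 1) = baseF l ++ [baseY.getD l 0] := by decide +kernel

theorem baseF_len : ∀ l < 6, (baseF l).length = l + 1 := by decide +kernel

/-- **The stabiliser**: a symmetry is a word in the generators. -/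
theorem exists_word {f : ℕ → ℕ} (hf : Sym f) :
    ∃ w : List ℕ, (∀ k ∈ w, k < 9) ∧ ∀ i < 1024, f i = wact w i := by
  have step : ∀ l ≤ 5, ∃ w : List ℕ, (∀ k ∈ w, k < 9) ∧
      ∀ b ∈ baseF l, b < 1024 ∧ wact w (f b) = b := by
    intro l hl
    induction l with
    | zero =>
      refine ⟨[], fun k hk => (List.not_mem_nil hk).elim, fun b hb => ?_⟩
      have : b = 1 := by simpa [baseF] using hb
      subst this
      exact ⟨by norm_num, hf.one⟩
    | succ l ih =>
      obtain ⟨w, hw, hfix⟩ := ih (Nat.le_of_succ_le hl)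
      have hf' : Sym fun i => wact w (f i) := (Sym.word hw).comp hf
      have hl5 : l < 5 := hl
      have hB := List.all_eq_true.1 base_facts.1 l (List.mem_range.2 hl5)
      simp only [Bool.and_eq_true, Nat.blt_eq] at hB
      obtain ⟨⟨⟨hS, hc⟩, hblt⟩, hout⟩ := hB
      have hL := List.all_eq_true.1 levels_ok l (List.mem_range.2 hl5)
      rw [levelOK, Bool.and_eq_true] at hL
      have hlike : like (baseF l) (baseY.getD l 0) (wact w (f (baseY.getD l 0))) = true :=
        hf'.like_img (fun b hb => ⟨(hfix b hb).1, (hfix b hb).2⟩) hblt (fun m hm => by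
          rw [baseF_len l (by omega)] at hm
          have := List.all_eq_true.1 hout m (List.mem_range.2 hm)
          intro e
          rw [← e, Nat.beq_refl] at this
          exact Bool.noConfusion this)
      have hmem : wact w (f (baseY.getD l 0)) ∈ s77 :=
        (mem_s77 (hf'.lt _ hblt)).2 (by rw [hf'.keep _ hblt]; exact hS)
      have h1 := List.all_eq_true.1 hL.1 _ hmem
      rw [hlike, show Nat.beq (cnt (wact w (f (baseY.getD l 0)))) (cnt 513) = true by
        rw [hf'.cnt_eq hblt]; exact hc] at h1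
      simp only [Bool.not_true, Bool.false_or] at h1
      obtain ⟨v, hv, hvb⟩ := List.any_eq_true.1 h1
      have hv' := List.all_eq_true.1 hL.2 v hv
      rw [Bool.and_eq_true] at hv'
      have hvk : ∀ k ∈ v, k < 9 := fun k hk => by
        simpa [Nat.blt_eq] using List.all_eq_true.1 hv'.1 k hk
      have hvr : ∀ k ∈ v.reverse, k < 9 := fun k hk => hvk k (List.mem_reverse.1 hk)
      refine ⟨v.reverse ++ w, fun k hk => (List.mem_append.1 hk).elim (hvr k) (hw k), fun b hb => ?_⟩
      rw [baseF_succ l hl5, List.mem_append, List.mem_singleton] at hb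
      rcases hb with hb | rfl
      · refine ⟨(hfix b hb).1, ?_⟩
        rw [wact_append, (hfix b hb).2]
        conv_lhs => rw [← Nat.eq_of_beq_eq_true (List.all_eq_true.1 hv'.2 b hb)]
        exact wact_reverse hvk (hfix b hb).1
      · refine ⟨hblt, ?_⟩
        rw [wact_append, ← Nat.eq_of_beq_eq_true hvb]
        exact wact_reverse hvk hblt
  obtain ⟨w, hw, hfix⟩ := step 5 le_rfl
  have hf' : Sym fun i => wact w (f i) := (Sym.word hw).comp hf
  have hZ : ∀ a ∈ baseZ, a < 1024 ∧ wact w (f a) = a := by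
    intro a ha
    have h := List.all_eq_true.1 last_ok a ha
    simp only [Bool.and_eq_true, Nat.blt_eq] at h
    obtain ⟨⟨⟨hS, halt⟩, hout⟩, huniq⟩ := h
    refine ⟨halt, ?_⟩
    have hmem : wact w (f a) ∈ s77 := (mem_s77 (hf'.lt _ halt)).2 (by rw [hf'.keep _ halt]; exact hS)
    have h1 := List.all_eq_true.1 huniq _ hmem
    rw [hf'.like_img (fun b hb => hfix b hb) halt (fun m hm e => by
      have := List.all_eq_true.1 hout m (List.mem_range.2 (by rwa [baseF_len 5 (by norm_num)] at hm))
      rw [← e, Nat.beq_refl] at this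
      exact Bool.noConfusion this)] at h1
    simp only [Bool.not_true, Bool.false_or] at h1
    exact Nat.eq_of_beq_eq_true h1
  refine ⟨w.reverse, fun k hk => hw k (List.mem_reverse.1 hk), fun i hi => ?_⟩
  have hid : wact w (f i) = i := by
    obtain ⟨m, -, h⟩ := List.any_eq_true.1 (List.all_eq_true.1 basis_ok i (List.mem_range.2 hi))
    obtain ⟨m', -, h⟩ := List.any_eq_true.1 h
    rw [Nat.eq_of_beq_eq_true h]
    have e1 := hf'.ap_fix baseZ (fun b hb => hZ b hb) m
    have e2 := hf'.ap_fix (baseF 5) (fun b hb => hfix b hb) m'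
    have := hf'.xor _ (Cfsg.Agent.ThRec.Eight.ap_lt (n := 10) (fun b hb => (hZ b hb).1) m) _
      (Cfsg.Agent.ThRec.Eight.ap_lt (n := 10) (fun b hb => (hfix b hb).1) m')
    simp only [e1, e2] at this
    exact this
  conv_rhs => rw [← hid]
  exact (wact_reverse hw (hf.lt i hi)).symm

end Cfsg.Agent.Co2Recog.NA
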