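import Cfsg.Agent.Lib.Co2Recog.Layers.Dict
import Cfsg.Agent.Lib.Co2Recog.NA.Stab
import Cfsg.Agent.Lib.E8Cent.Co2

/-!
The monomial subgroup of the second Conway group: the words vanishing on the pair are the 1024 functions, and its
permutations give all the symmetries of the 77.
-/

set_option autoImplicit false
set_option maxRecDepth 100000

namespace Cfsg.Agent.Co2Recog.NA

open Cfsg Cfsg.Agent.Golay Cfsg.Agent.Leech Cfsg.Agent.PermCert
open Cfsg.Agent.ThRec.Eight (ap ap_xor ap_zero)
open Cfsg.Agent.Co2Recog.Layers (incl2 incl2_lift incl2_fix N2 liftU uPair vecU_eq)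

/-- The words of the ten basic functions. -/
def cBasis : List ℕ := [8385418, 307594, 2322816, 762504, 1164162, 42232, 36294, 208020, 84464, 114548]

/-- The word of a function. -/
def wordN (n : ℕ) : ℕ := ap cBasis n

/-- The function of a word. -/
def rsM (m : ℕ) : ℕ := coord fun z => m.testBit (pts16.getD z 0)

/-- Eleven permutations: the nine generators and two moving the first function. -/
def modE : List Elt :=
  [(979236149903553240597937305795791488, 979236149903553240597937305795791488),
    (983553042649537266979977019204733184, 983553042649537266979977019204733184),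
    (980747918883362939279568022996060640, 980747918883362939279568022996060640),
    (981940260449521198767676458684353088, 981940260449521198767676458684353088),
    (29427998083924400345892949472119031, 29427998083924400345892949472119031),
    (29151034614893663836938031157839927, 29151034614893663836938031157839927),
    (29427933797253467266725546400418231, 29427933797253467266725546400418231),
    (29249278071948819603796736402893463, 29249278071948819603796736402893463),
    (29435522361036345043725051140222551, 29435522361036345043725051140222551),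
    (977839867786251717525204161457686560, 977839867786251717525204161457686560),
    (980911368942636420361235073644699680, 973134426158660276172290098546904096)]

/-- A coded permutation keeps the pair. -/
def pairOK (e : Elt) : Bool :=
  validElt 5 24 e && isAutB e && allBelow (fun i => uPair.testBit (get 5 e.2 i) == uPair.testBit i) 24

/-- The map of functions of a coded permutation. -/
def modL (e : Elt) : List ℕ := imgs fun n => rsM (imgMask e (wordN n))

theorem basis_code : (cBasis.all fun b => inCode b && !b.testBit 0 && !b.testBit 23) = true := by decide +kernel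

theorem word_back : ((List.range 1024).all fun n => Nat.beq (rsM (wordN n)) n &&
    (inS n == Nat.beq (popCount (wordN n) 24) 16)) = true := by decide +kernel

theorem code_back : (codeList.all fun m => m.testBit 0 || m.testBit 23 || Nat.beq (wordN (rsM m)) m) = true := by
  decide +kernel

theorem cols_sep : ((List.range 24).all fun i => (List.range 24).all fun j => uPair.testBit i || uPair.testBit j ||
    Nat.beq i j || (List.range 10).any fun k =>
      (wordN (2 ^ k)).testBit i != (wordN (2 ^ k)).testBit j) = true := by decide +kernel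

theorem modE_ok : ((List.range 11).all fun k => pairOK (modE.getD k (0, 0))) = true ∧
    ((List.range 9).all fun k => modL (modE.getD k (0, 0)) == genM k) = true ∧
    ap (modL (modE.getD 9 (0, 0))) 1 = 33 ∧ ap (modL (modE.getD 10 (0, 0))) 1 = 513 ∧ inS 1 = true ∧
    (orb 4).1 = 33 ∧ (orb 9).1 = 513 ∧
    (s77.all fun z => Nat.beq z 1 || (mem 4).contains z || (mem 9).contains z) = true := by decide +kernel

theorem swap_facts : inCode 4196943 = true ∧ inCode uPair = false ∧ uPair < 2 ^ 24 ∧
    (4196943 : ℕ).testBit 0 = true ∧ (4196943 : ℕ).testBit 23 = false := by decide +kernel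

theorem pair_pts : ∀ p : GolayPt, uPair.testBit (idx p) = true ↔ p = none ∨ p = some 0 := by decide +kernel

theorem pts16_lt : ∀ z : ℕ, pts16.getD z 0 < 24 := by
  intro z
  rcases Nat.lt_or_ge z 16 with h | h
  · exact (by decide +kernel : ∀ z < 16, pts16.getD z 0 < 24) z h
  · rw [List.getD_eq_default _ _ (by simpa [pts16] using h)]; norm_num

/-- The function of a word on the 24 points. -/
def rsV (c : GolayPt → ZMod 2) : ℕ := coord fun z => decide (c (pt ⟨pts16.getD z 0, pts16_lt z⟩) = 1)

theorem rsV_ofMask (m : ℕ) : rsV (ofMask m) = rsM m := by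
  unfold rsV rsM
  congr 1
  funext z
  simp only [ofMask, idx_pt]
  cases m.testBit (pts16.getD z 0) <;> simp

theorem rsV_add (c d : GolayPt → ZMod 2) : rsV (c + d) = rsV c ^^^ rsV d := by
  rw [rsV, rsV, rsV, ← coord_xor]
  congr 1
  funext z
  exact (by decide : ∀ u v : ZMod 2, decide (u + v = 1) = (decide (u = 1) ^^ decide (v = 1))) _ _

/-- The word of a function on the 24 points. -/
def cvec (n : ℕ) : GolayPt → ZMod 2 := ofMask (wordN n)

/-- A word of the code vanishing on the pair. -/
def Good (c : GolayPt → ZMod 2) : Prop := c ∈ golayCode ∧ c none = 0 ∧ c (some 0) = 0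

theorem cvec_add (u v : ℕ) : cvec (u ^^^ v) = cvec u + cvec v := by
  rw [cvec, wordN, ap_xor, ofMask_xor]; rfl

theorem cvec_good (n : ℕ) : Good (cvec n) := by
  have h : ∀ (L : List ℕ), (∀ b ∈ L, inCode b = true ∧ b.testBit 0 = false ∧ b.testBit 23 = false) → ∀ m,
      Good (ofMask (ap L m)) := by
    intro L
    induction L with
    | nil =>
      intro _ m
      rw [show ap [] m = 0 from rfl, ofMask_zero]
      exact ⟨golayCode.zero_mem, rfl, rfl⟩
    | cons b L ih =>
      intro hL m
      obtain ⟨hb, hb0, hb23⟩ := hL b List.mem_cons_self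
      obtain ⟨h1, h2, h3⟩ := ih (fun x hx => hL x (List.mem_cons_of_mem _ hx)) (m / 2)
      rw [Cfsg.Agent.ThRec.Eight.ap_cons, ofMask_xor]
      cases Cfsg.Agent.ThRec.Eight.odd m
      · rw [cond_false, ofMask_zero, zero_add]; exact ⟨h1, h2, h3⟩
      · rw [cond_true]
        refine ⟨golayCode.add_mem (ofMask_mem_golayCode hb) h1, ?_, ?_⟩
        · rw [Pi.add_apply, h2, add_zero]; simp [ofMask, idx, hb23]
        · rw [Pi.add_apply, h3, add_zero]; simp [ofMask, idx, hb0]
  refine h _ (fun b hb => ?_) n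
  have := List.all_eq_true.1 basis_code b hb
  simpa [and_assoc] using this

theorem rsV_cvec {n : ℕ} (hn : n < 1024) : rsV (cvec n) = n := by
  have := List.all_eq_true.1 word_back n (List.mem_range.2 hn)
  rw [Bool.and_eq_true, Nat.beq_eq] at this
  rw [cvec, rsV_ofMask, this.1]

theorem rsV_lt (c : GolayPt → ZMod 2) : rsV c < 1024 := coord_lt _

theorem cvec_rsV {c : GolayPt → ZMod 2} (hc : Good c) : cvec (rsV c) = c := by
  obtain ⟨m, hm, rfl⟩ := mem_golayCode.1 hc.1
  have h23 : m.testBit 23 = false := by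
    cases h : m.testBit 23
    · rfl
    · exfalso
      have := hc.2.1
      simp [ofMask, idx, h] at this
  have h0 : m.testBit 0 = false := by
    cases h : m.testBit 0
    · rfl
    · exfalso
      have := hc.2.2
      simp [ofMask, idx, h] at this
  have := List.all_eq_true.1 code_back m hm
  rw [h0, h23, Bool.false_or, Bool.false_or, Nat.beq_eq] at this
  rw [cvec, rsV_ofMask, this]

theorem inS_weight {n : ℕ} (hn : n < 1024) : inS n = decide (hammingNorm (cvec n) = 16) := by
  have := List.all_eq_true.1 word_back n (List.mem_range.2 hn)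
  rw [Bool.and_eq_true, beq_iff_eq] at this
  rw [this.2, cvec, hammingNorm_ofMask]
  rw [Bool.eq_iff_iff, decide_eq_true_eq, Nat.beq_eq]

/-! ### The monomial elements -/

/-- The pair of an element. -/
noncomputable def pairX (x : ↥N2) : M24 × golayCode := pairOf ⟨incl2 (x : ↥Spor.Co2), x.2⟩

/-- The permutation. -/
noncomputable def sigX (x : ↥N2) : Equiv.Perm GolayPt := ((pairX x).1 : Equiv.Perm GolayPt)

/-- The signs. -/
noncomputable def cX (x : ↥N2) : GolayPt → ZMod 2 := ((pairX x).2 : GolayPt → ZMod 2)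

theorem mono_pairX (x : ↥N2) : mono (pairX x) = incl2 (x : ↥Spor.Co2) := mono_pairOf _

theorem pairX_eq {x : ↥N2} {a : M24 × golayCode} (h : incl2 (x : ↥Spor.Co2) = mono a) : pairX x = a :=
  mono_injective ((mono_pairX x).trans h)

theorem incl2_injective : Function.Injective incl2 := Subgroup.inclusion_injective _

theorem pairX_mul (x y : ↥N2) : pairX (x * y) = pairMul (pairX x) (pairX y) := by
  refine pairX_eq ?_
  rw [← mono_mul, mono_pairX, mono_pairX, ← map_mul]
  rfl

theorem sigX_mul (x y : ↥N2) : sigX (x * y) = sigX x * sigX y := by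
  rw [sigX, pairX_mul]; rfl

theorem cX_mul (x y : ↥N2) : cX (x * y) = cX x + fun p => cX y ((sigX x).symm p) := by
  rw [cX, pairX_mul]; rfl

theorem sigX_one : sigX 1 = 1 := by
  have h := sigX_mul 1 1
  rw [one_mul] at h
  exact mul_eq_left.1 h.symm

theorem pair_keep (x : ↥N2) (p : GolayPt) :
    (uPair.testBit (idx ((sigX x).symm p)) = uPair.testBit (idx p)) ∧ (uPair.testBit (idx p) = true → cX x p = 0) := by
  have h := congrArg (fun v : leechLattice => (v : GolayPt → ℤ) p) (incl2_fix (x : ↥Spor.Co2))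
  simp only [← mono_pairX x, mono_smul] at h
  change sgn (cX x) p * Spor.vecU ((sigX x).symm p) = Spor.vecU p at h
  rw [vecU_eq, vecU_eq] at h
  rcases sgn_cases (cX x) p with hs | hs <;> rw [hs] at h
  · refine ⟨?_, fun _ => ?_⟩
    · revert h
      cases uPair.testBit (idx ((sigX x).symm p)) <;> cases uPair.testBit (idx p) <;> simp
    · rcases zmod2_cases (cX x p) with e | e
      · exact e
      · simp [sgn, e] at hs
  · constructor
    · revert h
      cases uPair.testBit (idx ((sigX x).symm p)) <;> cases uPair.testBit (idx p) <;> simp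
    · intro hp
      rw [hp] at h
      revert h
      cases uPair.testBit (idx ((sigX x).symm p)) <;> simp

theorem cX_good (x : ↥N2) : Good (cX x) :=
  ⟨(pairX x).2.2, (pair_keep x none).2 ((pair_pts none).2 (Or.inl rfl)),
    (pair_keep x (some 0)).2 ((pair_pts (some 0)).2 (Or.inr rfl))⟩

theorem moved_good (x : ↥N2) {c : GolayPt → ZMod 2} (hc : Good c) :
    Good (fun p => c ((sigX x).symm p)) := by
  have hz : ∀ p, uPair.testBit (idx p) = true → c ((sigX x).symm p) = 0 := by
    intro p hp
    rw [← (pair_keep x p).1] at hp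
    rcases (pair_pts _).1 hp with e | e <;> rw [e]
    exacts [hc.2.1, hc.2.2]
  exact ⟨code_perm (pairX x).1.2 hc.1, hz none ((pair_pts none).2 (Or.inl rfl)),
    hz (some 0) ((pair_pts (some 0)).2 (Or.inr rfl))⟩

/-- The map of functions of an element. -/
noncomputable def Lx (x : ↥N2) (n : ℕ) : ℕ := rsV fun p => cvec n ((sigX x).symm p)

/-- The function of the signs. -/
noncomputable def rX (x : ↥N2) : ℕ := rsV (cX x)

theorem Lx_lt (x : ↥N2) (n : ℕ) : Lx x n < 1024 := rsV_lt _

theorem Lx_xor (x : ↥N2) (u v : ℕ) : Lx x (u ^^^ v) = Lx x u ^^^ Lx x v := by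
  rw [Lx, Lx, Lx, ← rsV_add, cvec_add]; rfl

theorem Lx_mul (x y : ↥N2) (n : ℕ) : Lx (x * y) n = Lx x (Lx y n) := by
  rw [Lx, Lx, Lx, cvec_rsV (moved_good y (cvec_good n)), sigX_mul]
  rfl

theorem Lx_one {n : ℕ} (hn : n < 1024) : Lx 1 n = n := by
  rw [Lx, sigX_one]; exact rsV_cvec hn

theorem rX_mul (x y : ↥N2) : rX (x * y) = rX x ^^^ Lx x (rX y) := by
  rw [rX, cX_mul, rsV_add, Lx, rX, rX, cvec_rsV (cX_good y)]

theorem Lx_inj (x : ↥N2) {u v : ℕ} (hu : u < 1024) (hv : v < 1024) (h : Lx x u = Lx x v) : u = v := by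
  rw [← Lx_one hu, ← Lx_one hv, ← inv_mul_cancel x, Lx_mul, Lx_mul, h]

theorem Lx_keep (x : ↥N2) {n : ℕ} (hn : n < 1024) : inS (Lx x n) = inS n := by
  classical
  rw [inS_weight (Lx_lt x n), inS_weight hn, Lx, cvec_rsV (moved_good x (cvec_good n))]
  congr 2
  simp only [hammingNorm]
  refine Finset.card_bij (fun p _ => (sigX x).symm p) (fun p hp => by simpa using hp)
    (fun a _ b _ e => (sigX x).symm.injective e) fun q hq => ⟨sigX x q, by simpa using hq, by simp⟩

/-- An element with trivial map has trivial permutation. -/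
theorem sigX_of_trivial (x : ↥N2) (h : ∀ n < 1024, Lx x n = n) : sigX x = 1 := by
  have hval : ∀ k < 10, ∀ p, cvec (2 ^ k) ((sigX x).symm p) = cvec (2 ^ k) p := fun k hk p => by
    have e := congrArg cvec (h (2 ^ k) (Nat.pow_lt_pow_right (a := 2) (m := k) (n := 10) (by norm_num) hk))
    rw [Lx, cvec_rsV (moved_good x (cvec_good _))] at e
    exact congrFun e p
  have hout : ∀ p, uPair.testBit (idx p) = false → (sigX x).symm p = p := by
    intro p hp
    have hp' : uPair.testBit (idx ((sigX x).symm p)) = false := (pair_keep x p).1.trans hp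
    have := List.all_eq_true.1 (List.all_eq_true.1 cols_sep _ (List.mem_range.2 (idx_lt ((sigX x).symm p)))) _
      (List.mem_range.2 (idx_lt p))
    rw [hp, hp', Bool.false_or, Bool.false_or, Bool.or_eq_true, Nat.beq_eq, List.any_eq_true] at this
    rcases this with e | ⟨k, hk, e⟩
    · exact idx_injective e
    · exfalso
      have e' := hval k (List.mem_range.1 hk) p
      simp only [cvec, ofMask] at e'
      revert e e'
      cases (wordN (2 ^ k)).testBit (idx ((sigX x).symm p)) <;> cases (wordN (2 ^ k)).testBit (idx p) <;> simp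
  suffices hn : (sigX x).symm none = none by
    refine Equiv.ext fun q => ?_
    obtain ⟨p, rfl⟩ := (sigX x).symm.surjective q
    rw [Equiv.apply_symm_apply, Equiv.Perm.one_apply]
    cases hp : uPair.testBit (idx p)
    · exact (hout p hp).symm
    · rcases (pair_pts p).1 hp with rfl | rfl
      · exact hn.symm
      · rcases (pair_pts _).1 ((pair_keep x (some 0)).1.trans ((pair_pts (some 0)).2 (Or.inr rfl))) with e | e
        · exact absurd ((sigX x).symm.injective (e.trans hn.symm)) (by simp)
        · exact e.symm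
  by_contra hn
  have hs0 : (sigX x).symm none = some 0 :=
    ((pair_pts _).1 ((pair_keep x none).1.trans ((pair_pts none).2 (Or.inl rfl)))).resolve_left hn
  have hs1 : (sigX x).symm (some 0) = none := by
    rcases (pair_pts _).1 ((pair_keep x (some 0)).1.trans ((pair_pts (some 0)).2 (Or.inr rfl))) with e | e
    · exact e
    · exact absurd ((sigX x).symm.injective (e.trans hs0.symm)) (by simp)
  obtain ⟨hB, hU, hlt, hb0, hb23⟩ := swap_facts
  have hmem := golayCode.add_mem (code_perm (pairX x).1.2 (ofMask_mem_golayCode hB)) (ofMask_mem_golayCode hB)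
  have heq : ((fun p => ofMask 4196943 ((sigX x).symm p)) + ofMask 4196943) = ofMask uPair := by
    funext p
    simp only [Pi.add_apply]
    cases hp : uPair.testBit (idx p)
    · rw [hout p hp]
      simp [ofMask, hp, CharTwo.add_self_eq_zero]
    · rcases (pair_pts p).1 hp with rfl | rfl
      · rw [hs0]; simp only [ofMask, idx] at hp ⊢; simp [hb0, hb23, hp]
      · rw [hs1]; simp only [ofMask, idx] at hp ⊢; simp at hp; simp [hb0, hb23, hp]
  have : ofMask uPair ∈ golayCode := heq ▸ hmem
  rw [ofMask_mem_iff hlt, hU] at this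
  exact Bool.noConfusion this

theorem ext_of {x y : ↥N2} (hs : sigX x = sigX y) (hr : rX x = rX y) : x = y := by
  have hc : cX x = cX y := by rw [← cvec_rsV (cX_good x), ← cvec_rsV (cX_good y)]; exact congrArg cvec hr
  have : pairX x = pairX y := Prod.ext (Subtype.ext hs) (Subtype.ext hc)
  exact Subtype.ext (incl2_injective (by rw [← mono_pairX, ← mono_pairX, this]))

theorem rsV_zero : rsV 0 = 0 := by
  rw [show (0 : GolayPt → ZMod 2) = ofMask 0 from ofMask_zero.symm, rsV_ofMask]; decide +kernel

theorem diag_fix {c : GolayPt → ZMod 2} (hc : Good c) :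
    Leech.diag ⟨c, hc.1⟩ • Spor.leechU = Spor.leechU := by
  refine Subtype.ext (funext fun p => ?_)
  rw [mono_smul]
  show sgn c p * Spor.vecU ((1 : Equiv.Perm GolayPt).symm p) = Spor.vecU p
  show sgn c p * Spor.vecU p = Spor.vecU p
  cases hp : uPair.testBit (idx p)
  · rw [vecU_eq, hp]; simp
  · rcases (pair_pts p).1 hp with rfl | rfl <;> simp [sgn, hc.2.1, hc.2.2]

/-- Every function is the signs of a sign change. -/
theorem exists_diag {n : ℕ} (hn : n < 1024) : ∃ x : ↥N2, sigX x = 1 ∧ rX x = n := by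
  refine ⟨⟨liftU _ (diag_fix (cvec_good n)), mono_mem _⟩, ?_⟩
  have h := pairX_eq (x := ⟨liftU _ (diag_fix (cvec_good n)), mono_mem _⟩) (a := (1, ⟨cvec n, (cvec_good n).1⟩)) rfl
  constructor
  · rw [sigX, h]; rfl
  · rw [rX, cX, h]; exact rsV_cvec hn

theorem sig_one_iff (x : ↥N2) : sigX x = 1 ↔ ∃ c, incl2 (x : ↥Spor.Co2) = Leech.diag c := by
  refine ⟨fun h => ⟨(pairX x).2, ?_⟩, fun ⟨c, h⟩ => ?_⟩
  · rw [← mono_pairX, Leech.diag]
    exact congrArg mono (Prod.ext (Subtype.ext h) rfl)
  · rw [sigX, pairX_eq h]; rfl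

theorem t2_facts (x : ↥N2) (hx : (x : ↥Spor.Co2) = E8Cent.t2) : sigX x = 1 ∧ rX x = 1 := by
  have h := pairX_eq (x := x) (a := (1, E8Cent.xWord)) (by rw [hx]; rfl)
  constructor
  · rw [sigX, h]; rfl
  · rw [rX, cX, h]
    show rsV (ofMask E8Cent.xMask) = 1
    rw [rsV_ofMask]
    decide +kernel

theorem exists_coded {e : Elt} (he : pairOK e = true) :
    ∃ x : ↥N2, ∀ n < 1024, Lx x n = ap (modL e) n := by
  simp only [pairOK, Bool.and_eq_true] at he
  obtain ⟨⟨hv, ha⟩, hp⟩ := he
  let a : M24 × golayCode := (⟨permOf e, permOf_mem_M24 hv ha⟩, 0)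
  have hfix : mono a • Spor.leechU = Spor.leechU := by
    refine Subtype.ext (funext fun p => ?_)
    rw [mono_smul]
    show sgn (0 : GolayPt → ZMod 2) p * Spor.vecU ((permOf e).symm p) = Spor.vecU p
    have := allBelow_spec _ _ hp (idx p) (idx_lt p)
    rw [beq_iff_eq] at this
    rw [vecU_eq, vecU_eq, idx_permOf_symm hv, this]
    simp [sgn]
  refine ⟨⟨liftU _ hfix, mono_mem _⟩, fun n hn => ?_⟩
  have h := pairX_eq (x := ⟨liftU _ hfix, mono_mem _⟩) (a := a) rfl
  have key : ∀ n, Lx ⟨liftU _ hfix, mono_mem _⟩ n = rsM (imgMask e (wordN n)) := fun n => by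
    rw [Lx, sigX, h, ← rsV_ofMask]
    congr 1
    funext p
    simp only [cvec, ofMask, imgMask, testBit_mkMask, idx_lt, decide_true, Bool.true_and]
    rw [show (((a.1 : Equiv.Perm GolayPt).symm) p) = (permOf e).symm p from rfl, idx_permOf_symm hv]
  rw [key, modL, ap_imgs (f := fun n => rsM (imgMask e (wordN n))) ?_ ?_ hn]
  · show rsM (imgMask e (wordN 0)) = 0
    rw [wordN, ap_zero, imgMask_zero]; decide +kernel
  · intro u v
    simp only [← key]
    exact Lx_xor _ u v

/-- The symmetries of the 77. -/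
structure Sym77 (f : ℕ → ℕ) : Prop where
  lt : ∀ i < 1024, f i < 1024
  xor : ∀ u < 1024, ∀ v < 1024, f (u ^^^ v) = f u ^^^ f v
  inj : ∀ u < 1024, ∀ v < 1024, f u = f v → u = v
  keep : ∀ i < 1024, inS (f i) = inS i

theorem Lx_sym (x : ↥N2) : Sym77 (Lx x) :=
  ⟨fun i _ => Lx_lt x i, fun u _ v _ => Lx_xor x u v, fun _ hu _ hv h => Lx_inj x hu hv h,
    fun _ hi => Lx_keep x hi⟩

theorem exists_wordX : ∀ w : List ℕ, (∀ k ∈ w, k < 9) → ∃ x : ↥N2, ∀ n < 1024, Lx x n = wact w n
  | [], _ => ⟨1, fun n hn => Lx_one hn⟩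
  | k :: w, hw => by
    obtain ⟨x, hx⟩ := exists_wordX w fun j hj => hw j (List.mem_cons_of_mem _ hj)
    have hk := hw k List.mem_cons_self
    obtain ⟨u, hu⟩ := exists_coded (List.all_eq_true.1 modE_ok.1 k (List.mem_range.2 (by omega)))
    refine ⟨u * x, fun n hn => ?_⟩
    rw [Lx_mul, hx n hn, hu _ (wact_lt (fun j hj => hw j (List.mem_cons_of_mem _ hj)) hn),
      beq_iff_eq.1 (List.all_eq_true.1 modE_ok.2.1 k (List.mem_range.2 hk))]
    rfl

/-- **Every symmetry comes from a monomial element.** -/
theorem exists_x {f : ℕ → ℕ} (hf : Sym77 f) : ∃ x : ↥N2, ∀ n < 1024, Lx x n = f n := by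
  obtain ⟨hok, hgen, h33, h513, h1, o4, o9, hcov⟩ := modE_ok
  have h1lt : f 1 < 1024 := hf.lt 1 (by norm_num)
  have horb : ∀ o < 10, (∃ x : ↥N2, Lx x 1 = (orb o).1) → ∀ z ∈ mem o, ∃ x : ↥N2, Lx x 1 = z := by
    intro o ho h
    refine orb_prop (fun k hk z hz => ?_) ho h
    obtain ⟨x, rfl⟩ := hz
    obtain ⟨u, hu⟩ := exists_coded (List.all_eq_true.1 hok k (List.mem_range.2 (by omega)))
    refine ⟨u * x, ?_⟩
    rw [Lx_mul, hu _ (Lx_lt x 1), beq_iff_eq.1 (List.all_eq_true.1 hgen k (List.mem_range.2 hk))]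
  have hz : ∃ x : ↥N2, Lx x 1 = f 1 := by
    have := List.all_eq_true.1 hcov (f 1) ((mem_s77 h1lt).2 (by rw [hf.keep 1 (by norm_num), h1]))
    simp only [Bool.or_eq_true, Nat.beq_eq, List.contains_iff_mem] at this
    rcases this with (e | e) | e
    · exact ⟨1, by rw [Lx_one (by norm_num), e]⟩
    · obtain ⟨u, hu⟩ := exists_coded (List.all_eq_true.1 hok 9 (List.mem_range.2 (by norm_num)))
      exact horb 4 (by norm_num) ⟨u, by rw [hu 1 (by norm_num), h33, o4]⟩ _ e
    · obtain ⟨u, hu⟩ := exists_coded (List.all_eq_true.1 hok 10 (List.mem_range.2 (by norm_num)))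
      exact horb 9 (by norm_num) ⟨u, by rw [hu 1 (by norm_num), h513, o9]⟩ _ e
  obtain ⟨x0, hx0⟩ := hz
  obtain ⟨w, hw, hwf⟩ := exists_word (f := fun n => Lx x0⁻¹ (f n))
    ⟨fun i _ => Lx_lt _ _, fun u hu v hv => by simp only [hf.xor u hu v hv, Lx_xor],
      fun u hu v hv h => hf.inj u hu v hv (Lx_inj _ (hf.lt u hu) (hf.lt v hv) h),
      by rw [← hx0, ← Lx_mul, inv_mul_cancel, Lx_one (by norm_num)],
      fun i hi => by rw [Lx_keep _ (hf.lt i hi), hf.keep i hi]⟩
  obtain ⟨x1, hx1⟩ := exists_wordX w hw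
  refine ⟨x0 * x1, fun n hn => ?_⟩
  rw [Lx_mul, hx1 n hn, ← hwf n hn, ← Lx_mul, mul_inv_cancel, Lx_one (hf.lt n hn)]

end Cfsg.Agent.Co2Recog.NA
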