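import Cfsg.Agent.Lib.Co2Recog.NA.Split
import Cfsg.Agent.Lib.Co2Recog.NA.Words22

/-!
The monomial subgroup of the second Conway group maps isomorphically onto the normaliser of `A`.
-/

set_option autoImplicit false
set_option maxRecDepth 100000

namespace Cfsg.Agent.Co2Recog.NA

open Cfsg Cfsg.Agent.Leech
open Cfsg.Agent.ThRec.Eight (ap ap_xor ap_zero)
open Cfsg.Agent.Co2Recog.Layers (incl2 N2)

/-- Words moving the first letter to each letter. -/
def letterC : List (List ℕ) :=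
  [[], [0, 1], [1, 2, 0, 1], [2, 3, 1, 2, 0, 1], [3, 4, 2, 3, 1, 2, 0, 1], [4, 5, 3, 4, 2, 3, 1, 2, 0, 1],
    [2, 6, 1, 2, 0, 1]]

theorem letterC_ok : ∀ k < 7, key (eW (letterC.getD k [] ++ 0 :: (letterC.getD k []).reverse)) = key (eW [k]) := by
  decide +kernel

variable {G : Type*} [Group G] {t : G} {Q : Subgroup G} {K : Coords t Q} {y : G} {idx : G → ℕ}

/-- An involution over the first transvection exists. -/
theorem exists_pair [Finite G] (S : Setup t Q) (K : Coords t Q) (hnf : ¬ Fused t Q) (hroot : RootConj t Q K) :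
    ∃ y, Pair t Q K y := by
  obtain ⟨g, h, k, p, hp, hπ⟩ := hroot
  set w := letterC.getD (k % 7) [] with hw
  have hk : tv k = permW w * tv 0 * (permW w)⁻¹ := by
    have h7 : k % 7 < 7 := Nat.mod_lt _ (by norm_num)
    have e := permW_eq_iff.2 (letterC_ok _ h7)
    rw [permW_append, show permW (0 :: (letterC.getD (k % 7) []).reverse) =
      tv 0 * permW (letterC.getD (k % 7) []).reverse from rfl, permW_reverse, ← mul_assoc] at e
    rw [hw, e, show permW [k % 7] = tv (k % 7) from mul_one _]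
    exact Equiv.ext fun i => by
      show tvStep (tvC k) i = tvStep (tvC (k % 7)) i
      simp [tvC, Nat.mod_mod]
  obtain ⟨⟨c, hc⟩, hcπ⟩ := MonoidHom.mem_range.1
    (show (p * permW w)⁻¹ ∈ K.π.range by rw [K.range]; exact inv_mem (mul_mem hp (Cfsg.Agent.Co2Recog.permW_mem w)))
  refine ⟨c * (g * t * g⁻¹) * c⁻¹, S, fun q hq => Cfsg.Agent.Co2Recog.exists_word hq, hnf,
    isConj_iff.2 ⟨c * g, by group⟩, mul_mem (mul_mem hc h) (inv_mem hc), fun hm => ?_⟩
  rw [show (⟨c * (g * t * g⁻¹) * c⁻¹, hm⟩ : ↥(Subgroup.centralizer ({t} : Set G))) =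
    ⟨c, hc⟩ * ⟨g * t * g⁻¹, h⟩ * ⟨c, hc⟩⁻¹ from rfl, map_mul, map_mul, map_inv, hcπ, hπ, hk]
  group

/-- Every symmetry of the 77 is realised in a complement. -/
theorem exists_real [Finite G] (P : Pair t Q K y) (F : Frame t Q K idx) {H : Subgroup G}
    (hH : ∀ n ∈ Subgroup.normalizer (AA K : Set G), ∃ h ∈ H, n * h⁻¹ ∈ AA K) {f : ℕ → ℕ} (hf : Sym77 f) :
    ∃ h ∈ H, ∃ M, Acts t Q K idx h M ∧ ∀ n < 1024, ap M n = f n := by
  have I := F.idx_ok
  have hf1 := hf.lt 1 (by norm_num)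
  obtain ⟨g0, hg0, e0⟩ := (inOrb_iff P F hf1).2 (by rw [hf.keep 1 (by norm_num)]; exact modE_ok.2.2.2.2.1)
  obtain ⟨M0, A0⟩ := exists_mat P I tv_mem hg0
  obtain ⟨M1, A1⟩ := exists_mat P I tv_mem (inv_mem hg0)
  have hback : ∀ v < 1024, ap M1 (ap M0 v) = v ∧ ap M0 (ap M1 v) = v := by
    intro v hv
    obtain ⟨a, ha, rfl⟩ := I.surj v hv
    constructor
    · rw [← A0.eq a ha, ← A1.eq _ (A0.mem ha)]; congr 1; group
    · rw [← A1.eq a ha, ← A0.eq _ (A1.mem ha)]; congr 1; group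
  have hM01 : ap M0 1 = f 1 := by rw [← e0, ← I.one_t, ← A0.eq t (t_mem P)]
  obtain ⟨w, hw, hwf⟩ := exists_word (f := fun n => ap M1 (f n))
    ⟨fun i hi => A1.lt I (hf.lt i hi), fun u hu v hv => by simp only [hf.xor u hu v hv, ap_xor],
      fun u hu v hv e => hf.inj u hu v hv (acts_bij P I A1 (hf.lt u hu) (hf.lt v hv) e),
      by rw [← hM01]; exact (hback 1 (by norm_num)).1,
      fun i hi => by rw [acts_keep P F A1 (hf.lt i hi), hf.keep i hi]⟩
  have key : ∀ w : List ℕ, (∀ k ∈ w, k < 9) → ∃ g M, Acts t Q K idx g M ∧ ∀ v < 1024, ap M v = wact w v := by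
    intro w
    induction w with
    | nil => exact fun _ => ⟨1, idM, I.acts_one, fun v hv => idM_fix hv⟩
    | cons k w ih =>
      intro hw
      obtain ⟨g, M, A, hM⟩ := ih fun i hi => hw i (List.mem_cons_of_mem _ hi)
      obtain ⟨h, -, Ah⟩ := exists_gen P F (hw k List.mem_cons_self)
      exact ⟨h * g, _, Ah.mul A, fun v hv => by rw [ap_comp, hM v hv]; rfl⟩
  obtain ⟨g1, Mw, Aw, hMw⟩ := key w hw
  obtain ⟨h, hh, ha⟩ := hH _ (A0.mul Aw).norm
  obtain ⟨M, A⟩ := exists_mat P I tv_mem (show h ∈ Subgroup.normalizer (AA K : Set G) by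
    have := mul_mem (inv_mem (Subgroup.le_normalizer ha)) (A0.mul Aw).norm
    rwa [show (g0 * g1 * h⁻¹)⁻¹ * (g0 * g1) = h by group] at this)
  refine ⟨h, hh, M, A, fun n hn => ?_⟩
  obtain ⟨b, hb, rfl⟩ := I.surj n hn
  have e1 := (A0.mul Aw).eq b hb
  rw [show g0 * g1 * b * (g0 * g1)⁻¹ = (g0 * g1 * h⁻¹) * (h * b * h⁻¹) * (g0 * g1 * h⁻¹)⁻¹ by group,
    P.AA_comm tv_mem ha (A.mem hb), mul_inv_cancel_right, A.eq b hb, ap_comp, hMw _ (I.lt b hb),
    ← hwf _ (I.lt b hb), (hback _ (hf.lt _ (I.lt b hb))).2] at e1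
  exact e1

theorem rX_one : rX (1 : ↥N2) = 0 := by
  have h := rX_mul (1 : ↥N2) 1
  rw [one_mul, Lx_one (show rX (1 : ↥N2) < 1024 from rsV_lt _), Nat.xor_self] at h
  exact h

theorem Lx_of_sig {x : ↥N2} (h : sigX x = 1) {n : ℕ} (hn : n < 1024) : Lx x n = n := by
  rw [Lx, h]; exact rsV_cvec hn

/-- **The map of the monomial subgroup.** -/
theorem exists_fN [Finite G] (S : Setup t Q) (K : Coords t Q) (hnf : ¬ Fused t Q) (hroot : RootConj t Q K) :
    ∃ fN : ↥N2 →* G, Function.Injective fN ∧ fN.range = Subgroup.normalizer (AA K : Set G) ∧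
      (∀ h : E8Cent.t2 ∈ N2, fN ⟨E8Cent.t2, h⟩ = t) ∧
      ∀ x : ↥N2, fN x ∈ AA K ↔ ∃ c, incl2 (x : ↥Spor.Co2) = Leech.diag c := by
  classical
  obtain ⟨y, P⟩ := exists_pair S K hnf hroot
  obtain ⟨idx, F⟩ := exists_frame P
  have I := F.idx_ok
  obtain ⟨H, hHN, hH1, hH2⟩ := exists_split P F
  choose kap hkH Mk hkA hkM using fun x : ↥N2 => exists_real P F hH2 (Lx_sym x)
  choose al hal hali using fun x : ↥N2 => I.surj (rX x) (rsV_lt _)
  have huniq : ∀ h ∈ H, ∀ x : ↥N2, (∀ a ∈ AA K, idx (h * a * h⁻¹) = Lx x (idx a)) → h = kap x := by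
    intro h hh x hx
    have hn : (kap x)⁻¹ * h ∈ Subgroup.normalizer (AA K : Set G) := mul_mem (inv_mem (hkA x).norm) (hHN hh)
    obtain ⟨M, A⟩ := exists_mat P I tv_mem hn
    have htriv : (kap x)⁻¹ * h ∈ AA K := by
      refine mem_AA_of_trivial P I A fun v hv => ?_
      obtain ⟨a, ha, rfl⟩ := I.surj v hv
      rw [← A.eq a ha]
      congr 1
      have hm : h * a * h⁻¹ ∈ AA K := (Subgroup.mem_normalizer_iff.1 (hHN hh) a).1 ha
      have e := I.eq_of P tv_mem hm ((hkA x).mem ha) (by rw [hx a ha, (hkA x).eq a ha, hkM x _ (I.lt a ha)])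
      rw [show (kap x)⁻¹ * h * a * ((kap x)⁻¹ * h)⁻¹ = (kap x)⁻¹ * (h * a * h⁻¹) * kap x by group, e]
      group
    exact (inv_mul_eq_one.1 (hH1 _ (H.mul_mem (H.inv_mem (hkH x)) hh) htriv)).symm
  have hk_mul : ∀ x z : ↥N2, kap x * kap z = kap (x * z) := fun x z =>
    huniq _ (H.mul_mem (hkH x) (hkH z)) _ fun a ha => by
      rw [((hkA x).mul (hkA z)).eq a ha, ap_comp, hkM z _ (I.lt a ha), hkM x _ (Lx_lt _ _), Lx_mul]
  have ha_mul : ∀ x z : ↥N2, al x * (kap x * al z * (kap x)⁻¹) = al (x * z) := fun x z =>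
    I.eq_of P tv_mem (mul_mem (hal x) ((hkA x).mem (hal z))) (hal _) (by
      rw [I.mul _ (hal x) _ ((hkA x).mem (hal z)), (hkA x).eq _ (hal z), hali, hali, hali,
        hkM x (rX z) (rsV_lt _), rX_mul])
  let fN : ↥N2 →* G := MonoidHom.mk' (fun x => al x * kap x) fun x z => by
    show al (x * z) * kap (x * z) = al x * kap x * (al z * kap z)
    rw [← ha_mul, ← hk_mul]
    group
  have hfN : ∀ x, fN x = al x * kap x := fun x => rfl
  have hsig : ∀ x : ↥N2, sigX x = 1 → kap x = 1 := fun x hx =>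
    (huniq 1 H.one_mem x fun a ha => by rw [one_mul, inv_one, mul_one, Lx_of_sig hx (I.lt a ha)]).symm
  have hmem : ∀ x : ↥N2, fN x ∈ AA K ↔ sigX x = 1 := by
    intro x
    refine ⟨fun h => ?_, fun h => by rw [hfN, hsig x h, mul_one]; exact hal x⟩
    have hk : kap x ∈ AA K := by
      have := mul_mem (inv_mem (hal x)) h
      rwa [hfN, inv_mul_cancel_left] at this
    have h1 := hH1 _ (hkH x) hk
    refine sigX_of_trivial x fun n hn => ?_
    obtain ⟨a, ha, rfl⟩ := I.surj n hn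
    rw [← hkM x _ (I.lt a ha), ← (hkA x).eq a ha, h1, one_mul, inv_one, mul_one]
  have hdiag : ∀ x : ↥N2, sigX x = 1 → fN x = al x := fun x hx => by rw [hfN, hsig x hx, mul_one]
  refine ⟨fN, (injective_iff_map_eq_one fN).2 fun x hx => ?_, le_antisymm ?_ ?_, fun h => ?_,
    fun x => (hmem x).trans (sig_one_iff x)⟩
  · have hs := (hmem x).1 (by rw [hx]; exact one_mem _)
    have e := hdiag x hs
    rw [hx] at e
    refine ext_of (hs.trans sigX_one.symm) ?_
    rw [rX_one, ← hali x, ← e, I.one]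
  · rintro _ ⟨x, rfl⟩
    exact mul_mem (Subgroup.le_normalizer (hal x)) (hkA x).norm
  · intro n hn
    obtain ⟨h, hh, hnh⟩ := hH2 n hn
    obtain ⟨M, A⟩ := exists_mat P I tv_mem (hHN hh)
    obtain ⟨x, hx⟩ := exists_x (f := ap M) ⟨fun i hi => A.lt I hi, fun u _ v _ => ap_xor M u v,
      fun u hu v hv e => acts_bij P I A hu hv e, fun i hi => acts_keep P F A hi⟩
    have hk : h = kap x := huniq h hh x fun a ha => by rw [A.eq a ha, hx _ (I.lt a ha)]
    have hr : n * (fN x)⁻¹ ∈ AA K := by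
      rw [hfN, _root_.mul_inv_rev, ← hk, ← mul_assoc]
      exact mul_mem hnh (inv_mem (hal x))
    obtain ⟨d, hds, hdr⟩ := exists_diag (I.lt _ hr)
    refine ⟨d * x, ?_⟩
    have e := I.eq_of P tv_mem (hal d) hr (by rw [hali, hdr])
    rw [map_mul, hdiag d hds, e, inv_mul_cancel_right]
  · obtain ⟨hs, hr⟩ := t2_facts (⟨E8Cent.t2, h⟩ : ↥N2) rfl
    rw [hdiag _ hs]
    exact I.eq_of P tv_mem (hal _) (t_mem P) (by rw [hali, hr, I.one_t])

end Cfsg.Agent.Co2Recog.NA
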