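import Cfsg.Agent.Lib.Co2Recog.NA.Forms

/-!
The centraliser of the elementary subgroup of order 32 is elementary abelian.
-/

set_option autoImplicit false
set_option maxRecDepth 100000

namespace Cfsg.Agent.Co2Recog.NA

open Cfsg.Agent.ThRec.Eight (act ap ap_xor ap_zero act_xor)

/-- Every permutation of the quotient is a word. -/
def Wordy : Prop := ∀ p ∈ Sp63, ∃ w : List ℕ, permW w = p

/-- The permutation of a Levi transvection. -/
def cw (j : ℕ) : List ℕ := coxW.getD j []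

theorem cox_facts : ((List.range 5).all fun j => (List.range 16).all fun i =>
    inW (act sX (cw j) (ew i))) = true ∧
    ((List.range 5).all fun j => (List.range 63).all fun p =>
      (permW (cw j) (tv 0 (Fin.ofNat 63 p))).val == (tv 0 (permW (cw j) (Fin.ofNat 63 p))).val) = true := by
  decide +kernel

theorem cox_noinv : ∀ l < 16, (∀ j < 5, ∀ i < 16, ∀ i' < 16, act sX (cw j) (ew i) = ew i' →
    par (Nat.land l i) = par (Nat.land l i')) → l = 0 := by decide +kernel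

theorem cox_form : ((List.range 5).all fun j => (List.range 64).all fun b => !validF b ||
    (List.range 64).any fun b' => validF b' && (List.range 8).all fun k =>
      Nat.beq (act sX (cw j) (ap (alphaM b) (act sX (cw j).reverse (2 ^ k)))) (ap (alphaM b') (2 ^ k))) = true := by
  decide +kernel

/-- The image of a form under a Levi transvection, by table. -/
def cmapOK (x j y : ℕ) : Bool := (List.range 8).all fun k =>
  Nat.beq (act sX (cw j) (ap (alphaM x) (act sX (cw j).reverse (2 ^ k)))) (ap (alphaM y) (2 ^ k))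

/-- The two orbits of the nonzero forms other than the one of the transvection. -/
def orbU : List (ℕ × List (ℕ × ℕ × ℕ)) :=
  [(1, [(1, 3, 57), (57, 2, 10), (57, 4, 8), (10, 1, 62), (10, 4, 59), (62, 0, 12), (62, 4, 15), (59, 3, 3),
    (12, 4, 61), (15, 3, 55), (61, 3, 5), (55, 2, 4), (5, 2, 54), (54, 1, 2)]),
   (6, [(6, 0, 52), (6, 1, 50), (6, 2, 53), (52, 2, 7), (53, 3, 13), (7, 1, 51), (7, 3, 63), (13, 4, 60),
    (51, 3, 11), (63, 4, 14), (11, 2, 56), (11, 4, 58), (56, 4, 9), (9, 3, 49)])]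

theorem orbU_ok : (orbU.all fun o => o.2.all fun e =>
    Nat.blt e.1 64 && Nat.blt e.2.1 5 && Nat.blt e.2.2 64 && validF e.1 && validF e.2.2 &&
      cmapOK e.1 e.2.1 e.2.2) = true := by decide +kernel

/-- The images of the five basic forms. -/
def formB (m : ℕ) : ℕ := ap [48, 56, 51, 52, 50] m

theorem form_span : ∀ b < 64, validF b = true → ∃ m < 32, formB m = b := by decide +kernel

theorem formW_ok : ∀ i < 5, (∀ k < 8, act sX (formW.getD i ([], 0)).1 (2 ^ k) =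
    ap (alphaM (formW.getD i ([], 0)).2) (2 ^ k)) ∧ (formW.getD i ([], 0)).2 = formB (2 ^ i) ∧
    formB (2 ^ i) < 64 ∧ (∀ u < 16, act sX (formW.getD i ([], 0)).1 (ew u) = ew u) := by decide +kernel

variable {G : Type*} [Group G] {t : G} {Q : Subgroup G}

/-- An involution conjugate to `t` over the first transvection. -/
structure Pair (t : G) (Q : Subgroup G) (K : Coords t Q) (y : G) : Prop where
  S : Setup t Q
  words : Wordy
  nf : ¬ Fused t Q
  conj : IsConj t y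
  mem : y ∈ Subgroup.centralizer {t}
  img : ∀ h : y ∈ Subgroup.centralizer {t}, K.π ⟨y, h⟩ = tv 0

variable {K : Coords t Q} {y : G}

theorem permW_mem : ∀ w : List ℕ, (∀ k, tv k ∈ Sp63) → permW w ∈ Sp63
  | [], _ => one_mem _
  | k :: w, h => mul_mem (h k) (permW_mem w h)

theorem exists_lift (K : Coords t Q) (hw : ∀ k, tv k ∈ Sp63) (w : List ℕ) :
    ∃ x : ↥(Subgroup.centralizer ({t} : Set G)), K.π x = permW w :=
  MonoidHom.mem_range.1 (by rw [K.range]; exact permW_mem w hw)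

namespace Pair

variable (P : Pair t Q K y)
include P

theorem ysq : y * y = 1 := by
  obtain ⟨g, hg⟩ := isConj_iff.1 P.conj
  rw [← hg, show g * t * g⁻¹ * (g * t * g⁻¹) = g * (t * t) * g⁻¹ by group, Setup.na_sq P.S]
  group

theorem yact {x : G} (hx : x ∈ Q) : K.c (y * x * y⁻¹) = ap sg0 (K.c x) := by
  have := K.act ⟨y, P.mem⟩ [0] (by rw [P.img]; exact mul_one _) x hx
  rw [this]
  rfl

/-- Another involution over the first transvection differs by the elementary subgroup. -/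
theorem twist {h : G} (hh : h ∈ Subgroup.centralizer {t})
    (hc : K.π ⟨h, hh⟩ * tv 0 = tv 0 * K.π ⟨h, hh⟩) :
    ∃ x ∈ Q, inW (K.c x) = true ∧ h * y * h⁻¹ = y * x := by
  have hy' : h * y * h⁻¹ ∈ Subgroup.centralizer {t} := mul_mem (mul_mem hh P.mem) (inv_mem hh)
  have hπ : K.π ⟨h * y * h⁻¹, hy'⟩ = tv 0 := by
    rw [show (⟨h * y * h⁻¹, hy'⟩ : ↥(Subgroup.centralizer ({t} : Set G))) =
      ⟨h, hh⟩ * ⟨y, P.mem⟩ * ⟨h, hh⟩⁻¹ from rfl, map_mul, map_mul, map_inv, P.img, hc, mul_inv_cancel_right]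
  have hx : y⁻¹ * (h * y * h⁻¹) ∈ Q := by
    refine (K.ker ⟨_, mul_mem (inv_mem P.mem) hy'⟩).1 ?_
    rw [show (⟨y⁻¹ * (h * y * h⁻¹), mul_mem (inv_mem P.mem) hy'⟩ : ↥(Subgroup.centralizer ({t} : Set G))) =
      ⟨y, P.mem⟩⁻¹ * ⟨h * y * h⁻¹, hy'⟩ from rfl, map_mul, map_inv, P.img, hπ, inv_mul_cancel]
  refine ⟨_, hx, ?_, (mul_inv_cancel_left y _).symm⟩
  have hyi : y⁻¹ = y := inv_eq_of_mul_eq_one_right P.ysq
  have h2 : h * y * h⁻¹ * (h * y * h⁻¹) = 1 := by
    rw [show h * y * h⁻¹ * (h * y * h⁻¹) = h * (y * y) * h⁻¹ by group, P.ysq]; group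
  set x := y⁻¹ * (h * y * h⁻¹) with hxdef
  have hyx : y * x * y⁻¹ = x⁻¹ := by
    refine eq_inv_of_mul_eq_one_left ?_
    calc y * x * y⁻¹ * x = (y * x) * (y⁻¹ * x) := by group
      _ = h * y * h⁻¹ * (h * y * h⁻¹) := by
        rw [hyi, show y * x = h * y * h⁻¹ by rw [hxdef]; group]
      _ = 1 := h2
  refine sg0_twist _ (K.c_lt x hx) ?_
  rw [← P.yact hx, hyx, Coord.c_inv P.S K hx, Nat.beq_refl]

theorem exists_cox (hw : ∀ k, tv k ∈ Sp63) {j : ℕ} (hj : j < 5) :
    ∃ h : G, ∃ hh : h ∈ Subgroup.centralizer {t}, K.π ⟨h, hh⟩ = permW (cw j) ∧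
      K.π ⟨h, hh⟩ * tv 0 = tv 0 * K.π ⟨h, hh⟩ := by
  obtain ⟨⟨h, hh⟩, e⟩ := exists_lift K hw (cw j)
  refine ⟨h, hh, e, ?_⟩
  rw [e]
  refine Equiv.ext fun p => ?_
  have := List.all_eq_true.1 (List.all_eq_true.1 cox_facts.2 j (List.mem_range.2 hj)) p.val
    (List.mem_range.2 p.isLt)
  rw [show (Fin.ofNat 63 p.val) = p from Fin.ext (Nat.mod_eq_of_lt p.isLt)] at this
  exact Fin.ext (eq_of_beq this)

/-- The conjugate `y` centralises the elementary subgroup. -/
theorem y_mem (hw : ∀ k, tv k ∈ Sp63) : y ∈ AA K := by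
  classical
  have hrel : ∀ e ∈ Q, inW (K.c e) = true → ∃ b, y * e * y⁻¹ = e * tw t b := fun e he hW =>
    Coord.eq_of_c P.S K (Setup.na_conj P.S P.mem he) he (by
      rw [P.yact he]; exact Nat.eq_of_beq_eq_true ((w_fix _ (K.c_lt e he)).symm.trans hW))
  choose! f hf using hrel
  have hadd : ∀ e ∈ Q, ∀ d ∈ Q, inW (K.c e) = true → inW (K.c d) = true → f (e * d) = (f e ^^ f d) := by
    intro e he d hd hWe hWd
    apply Setup.tw_inj P.S
    have hW : inW (K.c (e * d)) = true := by rw [K.c_mul e he d hd]; exact inW_xor hWe hWd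
    have h1 : y * (e * d) * y⁻¹ = e * d * tw t (f e ^^ f d) := by
      calc y * (e * d) * y⁻¹ = (y * e * y⁻¹) * (y * d * y⁻¹) := by group
        _ = e * (tw t (f e) * d) * tw t (f d) := by rw [hf e he hWe, hf d hd hWd]; group
        _ = _ := by rw [← Setup.tw_comm P.S (Setup.na_comm P.S hd), ← Setup.tw_mul P.S]; group
    exact mul_left_cancel ((hf _ (Q.mul_mem he hd) hW).symm.trans h1)
  have hft : ∀ b, f (tw t b) = false := fun b => by
    apply Setup.tw_inj P.S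
    have h1 := hf _ (Setup.tw_mem P.S b) (by rw [Coord.c_tw P.S K]; decide)
    rw [Setup.conj_tw P.S (Subgroup.mem_centralizer_singleton_iff.1 P.mem)] at h1
    exact ((left_eq_mul.1 h1).trans (tw_false t).symm)
  have hco : ∀ e ∈ Q, ∀ d ∈ Q, inW (K.c e) = true → K.c e = K.c d → f e = f d := by
    intro e he d hd hW e1
    obtain ⟨b, rfl⟩ := Coord.eq_of_c P.S K he hd e1
    rw [hadd d hd _ (Setup.tw_mem P.S b) (e1 ▸ hW) (by rw [Coord.c_tw P.S K]; decide), hft, Bool.xor_false]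
  choose! rep hrep hrepc hrepW using fun i hi => ew_coord (K := K) P.S (i := i) hi
  let l := bn (f (rep 1)) 1 ^^^ bn (f (rep 2)) 2 ^^^ bn (f (rep 4)) 4 ^^^ bn (f (rep 8)) 8
  have hl : l < 16 ∧ ∀ k < 4, par (Nat.land l (2 ^ k)) = f (rep (2 ^ k)) := by
    have key : ∀ a b c d : Bool, let v := bn a 1 ^^^ bn b 2 ^^^ bn c 4 ^^^ bn d 8
        v < 16 ∧ par (Nat.land v (2 ^ 0)) = a ∧ par (Nat.land v (2 ^ 1)) = b ∧ par (Nat.land v (2 ^ 2)) = c ∧
          par (Nat.land v (2 ^ 3)) = d := by decide +kernel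
    obtain ⟨hv, h0, h1, h2, h3⟩ := key (f (rep 1)) (f (rep 2)) (f (rep 4)) (f (rep 8))
    refine ⟨hv, fun k hk => ?_⟩
    interval_cases k
    exacts [h0, h1, h2, h3]
  have hval : ∀ i < 16, f (rep i) = par (Nat.land l i) := by
    intro i
    induction i using Nat.strong_induction_on with
    | _ i ih =>
      intro hi
      have key : ∀ i < 16, i = 0 ∨ ∃ k < 4, ∃ r < i, r < 16 ∧ i = Nat.xor (2 ^ k) r := by decide +kernel
      rcases key i hi with rfl | ⟨k, hk, r, hri, hr, e⟩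
      · rw [hco _ (hrep 0 hi) _ (Setup.tw_mem P.S false) (hrepW 0 hi)
          (by rw [hrepc 0 hi, Coord.c_tw P.S K]; rfl), hft]
        cases l.testBit 0 <;> simp [par]
      · have hk16 : 2 ^ k < 16 := Nat.pow_lt_pow_right (m := k) (n := 4) (by norm_num) hk
        subst e
        rw [hco _ (hrep _ hi) _ (Q.mul_mem (hrep _ hk16) (hrep r hr)) (hrepW _ hi)
          (by rw [hrepc _ hi, K.c_mul _ (hrep _ hk16) _ (hrep r hr), hrepc _ hk16, hrepc r hr]
              exact ew_xor _ _), hadd _ (hrep _ hk16) _ (hrep r hr) (hrepW _ hk16) (hrepW r hr),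
          ih r hri hr, ← hl.2 k hk, ← par_xor]
        exact congrArg par Nat.and_xor_distrib_left.symm
  have hl0 : l = 0 := by
    refine cox_noinv l hl.1 fun j hj i hi i' hi' e => ?_
    obtain ⟨h, hh, hπ, hc⟩ := P.exists_cox hw hj
    obtain ⟨x, hx, hxW, hxy⟩ := P.twist hh hc
    have hm := Setup.na_conj P.S hh (hrep i hi)
    have hce : K.c (h * rep i * h⁻¹) = ew i' := by
      rw [K.act ⟨h, hh⟩ (cw j) hπ.symm _ (hrep i hi), hrepc i hi, e]
    have hW' : inW (K.c (h * rep i * h⁻¹)) = true := by rw [hce]; exact (ew_mem i' hi').1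
    rw [← hval i hi, ← hval i' hi', hco _ (hrep i' hi') _ hm (hrepW i' hi') (by rw [hrepc i' hi', hce])]
    apply Setup.tw_inj P.S
    have h1 : (h * y * h⁻¹) * (h * rep i * h⁻¹) * (h * y * h⁻¹)⁻¹ = h * rep i * h⁻¹ * tw t (f (rep i)) := by
      calc _ = h * (y * rep i * y⁻¹) * h⁻¹ := by group
        _ = h * rep i * h⁻¹ * (h * tw t (f (rep i)) * h⁻¹) := by rw [hf _ (hrep i hi) (hrepW i hi)]; group
        _ = _ := by rw [Setup.conj_tw P.S (Subgroup.mem_centralizer_singleton_iff.1 hh)]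
    rw [hxy, show y * x * (h * rep i * h⁻¹) * (y * x)⁻¹ = y * (x * (h * rep i * h⁻¹) * x⁻¹) * y⁻¹ by group,
      W_bil P.S hx hm hxW hW', mul_inv_cancel_right, hf _ hm hW'] at h1
    exact (mul_left_cancel h1).symm
  refine mem_AA.2 ⟨Subgroup.mem_centralizer_singleton_iff.1 P.mem, fun e he hW => ?_⟩
  obtain ⟨i, hi, ei⟩ := w_enum _ (K.c_lt e he) hW
  have hfe : f e = false := by
    rw [hco e he _ (hrep i hi) hW (by rw [hrepc i hi, ei]), hval i hi, hl0,
      show Nat.land 0 i = 0 from Nat.zero_and i]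
    rfl
  have := hf e he hW
  rw [hfe, tw_false, mul_one] at this
  exact mul_inv_eq_iff_eq_mul.1 this

theorem y_frm : Frm K y 48 := by
  refine ⟨by norm_num, fun x hx => ?_⟩
  rw [P.yact hx]
  exact ext8 (fun u _ v _ => ap_xor _ u v) (fun u _ v _ => ap_xor _ u v)
    (by decide +kernel : ∀ k < 8, ap sg0 (2 ^ k) = ap (alphaM 48) (2 ^ k)) (K.c_lt x hx)

end Pair

theorem frm_conj (S : Setup t Q) {h a : G} {b b' j : ℕ} (hh : h ∈ Subgroup.centralizer {t})
    (hπ : K.π ⟨h, hh⟩ = permW (cw j)) (hb' : b' < 64) (hc : cmapOK b j b' = true)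
    (ha : a ∈ Subgroup.centralizer {t}) (hf : Frm K a b) : Frm K (h * a * h⁻¹) b' := by
  refine ⟨hb', fun x hx => ?_⟩
  have hy : h⁻¹ * x * h ∈ Q := by
    have := Setup.na_conj S (inv_mem hh) hx
    rwa [inv_inv] at this
  have e1 : K.c x = act sX (cw j) (K.c (h⁻¹ * x * h)) := by
    rw [← K.act ⟨h, hh⟩ (cw j) hπ.symm _ hy]
    congr 1
    show x = h * (h⁻¹ * x * h) * h⁻¹
    group
  have e2 : K.c (h⁻¹ * x * h) = act sX (cw j).reverse (K.c x) := by
    rw [e1, act_reverse _ (K.c_lt _ hy)]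
  rw [show h * a * h⁻¹ * x * (h * a * h⁻¹)⁻¹ = h * (a * (h⁻¹ * x * h) * a⁻¹) * h⁻¹ by group,
    K.act ⟨h, hh⟩ (cw j) hπ.symm _ (Setup.na_conj S ha hy), hf.2 _ hy, e2]
  exact ext8 (f := fun v => act sX (cw j) (ap (alphaM b) (act sX (cw j).reverse v)))
    (fun u _ v _ => by simp only [act_xor, ap_xor]) (fun u _ v _ => ap_xor _ u v)
    (fun k hk => Nat.eq_of_beq_eq_true (List.all_eq_true.1 hc k (List.mem_range.2 hk))) (K.c_lt x hx)

/-- Each element of the centraliser realising a functional on the fixed space. -/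
theorem exists_fix (S : Setup t Q) (K : Coords t Q) {h : G} (hh : h ∈ Subgroup.centralizer {t})
    (hfix : ∀ e ∈ Q, inW (K.c e) = true → K.c (h * e * h⁻¹) = K.c e) : ∃ q ∈ Q, q * h ∈ AA K := by
  classical
  choose! rep hrep hrepc hrepW using fun i hi => ew_coord (K := K) S (i := i) hi
  have hrel : ∀ e ∈ Q, inW (K.c e) = true → ∃ b, h * e * h⁻¹ = e * tw t b := fun e he hW =>
    Coord.eq_of_c S K (Setup.na_conj S hh he) he (hfix e he hW)
  choose! f hf using hrel
  let l := bn (f (rep 1)) 1 ^^^ bn (f (rep 2)) 2 ^^^ bn (f (rep 4)) 4 ^^^ bn (f (rep 8)) 8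
  have key : ∀ a b c d : Bool, let v := bn a 1 ^^^ bn b 2 ^^^ bn c 4 ^^^ bn d 8
      v < 16 ∧ par (Nat.land v 1) = a ∧ par (Nat.land v 2) = b ∧ par (Nat.land v 4) = c ∧
        par (Nat.land v 8) = d := by decide +kernel
  obtain ⟨hl, h1, h2, h4, h8⟩ := key (f (rep 1)) (f (rep 2)) (f (rep 4)) (f (rep 8))
  obtain ⟨u, hu, hub⟩ := dual_vec l hl
  obtain ⟨q, hq, hqc⟩ := K.c_surj u hu
  refine ⟨q, hq, ?_⟩
  have hm : q * h ∈ Subgroup.centralizer {t} := mul_mem (S.le hq) hh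
  -- the set of centralised elements
  have hgen : ∀ i, (i = 1 ∨ i = 2 ∨ i = 4 ∨ i = 8) → q * h * rep i * (q * h)⁻¹ = rep i := by
    intro i hi
    have hi16 : i < 16 := by rcases hi with rfl | rfl | rfl | rfl <;> norm_num
    have hb : Bv u (ew i) = f (rep i) := by
      rw [hub i hi16]
      rcases hi with rfl | rfl | rfl | rfl
      exacts [h1, h2, h4, h8]
    calc q * h * rep i * (q * h)⁻¹ = q * (h * rep i * h⁻¹) * q⁻¹ := by group
      _ = (q * rep i * q⁻¹) * (q * tw t (f (rep i)) * q⁻¹) := by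
        rw [hf _ (hrep i hi16) (hrepW i hi16)]; group
      _ = rep i := by
        rw [Coord.rule S K hq (hrep i hi16), Setup.conj_tw S (Setup.na_comm S hq), hqc, hrepc i hi16, hb,
          mul_assoc, Setup.tw_mul S, Bool.xor_self, tw_false, mul_one]
  refine mem_AA.2 ⟨Subgroup.mem_centralizer_singleton_iff.1 hm, fun e he hW => ?_⟩
  have ht : q * h * t = t * (q * h) := Subgroup.mem_centralizer_singleton_iff.1 hm
  let C := Subgroup.centralizer ({q * h} : Set G)
  have hC : ∀ i, (i = 1 ∨ i = 2 ∨ i = 4 ∨ i = 8) → rep i ∈ C := fun i hi =>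
    Subgroup.mem_centralizer_singleton_iff.2 (mul_inv_eq_iff_eq_mul.1 (hgen i hi)).symm
  obtain ⟨i, hi, ei⟩ := w_enum _ (K.c_lt e he) hW
  have hdec : ∀ i < 16, i = Nat.xor (Nat.xor (Nat.xor (bn (i.testBit 0) 1) (bn (i.testBit 1) 2))
      (bn (i.testBit 2) 4)) (bn (i.testBit 3) 8) := by decide +kernel
  let pk : ℕ → Bool → G := fun j b => if b then rep j else 1
  let p := pk 1 (i.testBit 0) * pk 2 (i.testBit 1) * pk 4 (i.testBit 2) * pk 8 (i.testBit 3)
  have hpk : ∀ j, (j = 1 ∨ j = 2 ∨ j = 4 ∨ j = 8) → ∀ b, pk j b ∈ C ∧ pk j b ∈ Q ∧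
      K.c (pk j b) = ew (bn b j) := by
    intro j hj b
    have hj16 : j < 16 := by rcases hj with rfl | rfl | rfl | rfl <;> norm_num
    cases b
    · exact ⟨one_mem _, Q.one_mem, (Coord.c_one S K).trans (ap_zero _).symm⟩
    · exact ⟨hC j hj, hrep j hj16, hrepc j hj16⟩
  obtain ⟨a1, b1, c1⟩ := hpk 1 (by omega) (i.testBit 0)
  obtain ⟨a2, b2, c2⟩ := hpk 2 (by omega) (i.testBit 1)
  obtain ⟨a4, b4, c4⟩ := hpk 4 (by omega) (i.testBit 2)
  obtain ⟨a8, b8, c8⟩ := hpk 8 (by omega) (i.testBit 3)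
  have hpc : K.c p = K.c e := by
    rw [K.c_mul _ (Q.mul_mem (Q.mul_mem b1 b2) b4) _ b8, K.c_mul _ (Q.mul_mem b1 b2) _ b4,
      K.c_mul _ b1 _ b2, c1, c2, c4, c8, ← ew_xor, ← ew_xor, ← ew_xor, ← ei]
    exact congrArg ew (hdec i hi).symm
  have hpQ : p ∈ Q := Q.mul_mem (Q.mul_mem (Q.mul_mem b1 b2) b4) b8
  obtain ⟨b, rfl⟩ := Coord.eq_of_c S K he hpQ hpc.symm
  have hpC : p ∈ C := mul_mem (mul_mem (mul_mem a1 a2) a4) a8
  have htC : tw t b ∈ C := Subgroup.mem_centralizer_singleton_iff.2 (Setup.tw_comm S ht b).symm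
  exact (Subgroup.mem_centralizer_singleton_iff.1 (C.mul_mem hpC htC)).symm

namespace Pair

variable (P : Pair t Q K y) (hw : ∀ k, tv k ∈ Sp63)
include P hw

/-- Every valid form is realised. -/
theorem exists_form {b : ℕ} (hb : b < 64) (hv : validF b = true) : ∃ a ∈ AA K, Frm K a b := by
  have hbase : ∀ i < 5, ∃ a ∈ AA K, Frm K a (formB (2 ^ i)) := by
    intro i hi
    obtain ⟨h1, h2, h3, h4⟩ := formW_ok i hi
    obtain ⟨⟨h, hh⟩, eπ⟩ := exists_lift K hw (formW.getD i ([], 0)).1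
    obtain ⟨q, hq, hqA⟩ := exists_fix P.S K hh fun e he hW => by
      obtain ⟨u, hu, eu⟩ := w_enum _ (K.c_lt e he) hW
      rw [K.act ⟨h, hh⟩ _ eπ.symm e he, ← eu, h4 u hu]
    refine ⟨q * h, hqA, h3, fun x hx => ?_⟩
    have := K.act ⟨h, hh⟩ _ eπ.symm x hx
    rw [show q * h * x * (q * h)⁻¹ = q * (h * x * h⁻¹) * q⁻¹ by group,
      Coord.rule P.S K hq (Setup.na_conj P.S hh hx), K.c_mul _ (Setup.na_conj P.S hh hx) _
      (Setup.tw_mem P.S _), Coord.c_tw P.S K, Nat.xor_zero, this, ← h2]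
    exact ext8 (fun u _ v _ => act_xor sX _ u v) (fun u _ v _ => ap_xor _ u v) h1 (K.c_lt x hx)
  obtain ⟨m, hm, rfl⟩ := form_span b hb hv
  have : ∀ m < 32, ∃ a ∈ AA K, Frm K a (formB m) := by
    intro m
    induction m using Nat.strong_induction_on with
    | _ m ih =>
      intro hm
      have key : ∀ m < 32, m = 0 ∨ ∃ k < 5, ∃ r < m, r < 32 ∧ m = Nat.xor (2 ^ k) r := by decide +kernel
      rcases key m hm with rfl | ⟨k, hk, r, hrm, hr, e⟩
      · exact ⟨1, one_mem _, frm_Q P.S Q.one_mem⟩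
      · obtain ⟨a, ha, hfa⟩ := hbase k hk
        obtain ⟨c, hc, hfc⟩ := ih r hrm hr
        refine ⟨a * c, mul_mem ha hc, ?_⟩
        have := hfa.mul P.S (AA_cent hc) hfc
        subst e
        rwa [show formB (Nat.xor (2 ^ k) r) = formB (2 ^ k) ^^^ formB r from ap_xor _ _ _]
  exact this m hm

/-- Two elements with one form differ by the elementary subgroup. -/
theorem same_form {a a' : G} {b : ℕ} (ha : a ∈ AA K) (ha' : a' ∈ AA K) (h : Frm K a b) (h' : Frm K a' b) :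
    a⁻¹ * a' ∈ Q ∧ inW (K.c (a⁻¹ * a')) = true := by
  have hm : a⁻¹ * a' ∈ AA K := mul_mem (inv_mem ha) ha'
  have hQ : a⁻¹ * a' ∈ Q := by
    refine mem_Q_of_frm (K := K) P.S (AA_cent hm) (show Frm K (a⁻¹ * a') 0 from ⟨by norm_num, fun x hx => ?_⟩)
    have hy : a⁻¹ * a' * x * (a⁻¹ * a')⁻¹ ∈ Q := Setup.na_conj P.S (AA_cent hm) hx
    have e := h.2 _ hy
    rw [show a * (a⁻¹ * a' * x * (a⁻¹ * a')⁻¹) * a⁻¹ = a' * x * a'⁻¹ by group, h'.2 x hx] at e
    have inj : ∀ v < 256, ap (alphaM b) (ap (alphaM b) v) = v := fun v hv =>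
      (ext8 (f := fun v => ap (alphaM b) (ap (alphaM b) v)) (g := fun v => v)
        (fun u _ v _ => by simp only [ap_xor]) (fun _ _ _ _ => rfl) (fun k hk => by
          rw [alpha_mul b h.1 b h.1 k hk, show Nat.xor b b = 0 from Nat.xor_self b]
          exact alpha_id _ (Nat.pow_lt_pow_right (m := k) (n := 8) (by norm_num) hk)) hv)
    rw [alpha_id _ (K.c_lt x hx), ← inj _ (K.c_lt x hx), e, inj _ (K.c_lt _ hy)]
  exact ⟨hQ, AA_inter P.S hQ hm⟩

theorem frm_ok {a : G} (ha : a ∈ AA K) : ∃ b, Frm K a b ∧ validF b = true := by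
  obtain ⟨w, hww⟩ := P.words (K.π ⟨a, AA_cent ha⟩) (by rw [← K.range]; exact ⟨_, rfl⟩)
  exact exists_frm P.S ha hww

/-- **Every element is an involution.** -/
theorem AA_sq {a : G} (ha : a ∈ AA K) : a * a = 1 := by
  classical
  have hcen : ∀ {g : G}, g ∈ AA K → ∀ b, g * tw t b = tw t b * g := fun hg b =>
    Setup.tw_comm P.S (mem_AA.1 hg).1 b
  have hsq : ∀ g ∈ AA K, ∃ b, g * g = tw t b := by
    intro g hg
    rcases AA_sq_mem P.S hg with e | e
    · exact ⟨false, e⟩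
    · exact ⟨true, e⟩
  have hcm : ∀ g ∈ AA K, ∀ g' ∈ AA K, ∃ b, g * g' = g' * g * tw t b := by
    intro g hg g' hg'
    rcases AA_comm_mem P.S hg hg' with e | e
    · exact ⟨false, by rw [tw_false, mul_one]; exact mul_inv_eq_one.1 (by rw [mul_inv_rev, ← e]; group)⟩
    · refine ⟨true, ?_⟩
      rw [tw_true, Subgroup.mem_centralizer_singleton_iff.1 (mul_mem (AA_cent hg') (AA_cent hg))]
      calc g * g' = g * g' * g⁻¹ * g'⁻¹ * (g' * g) := by group
        _ = t * (g' * g) := by rw [e]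
  choose! θ hθ using hsq
  choose! γ hγ using hcm
  have hmul : ∀ g ∈ AA K, ∀ g' ∈ AA K, θ (g * g') = ((θ g ^^ θ g') ^^ γ g' g) := by
    intro g hg g' hg'
    apply Setup.tw_inj P.S
    rw [← hθ _ (mul_mem hg hg')]
    calc g * g' * (g * g') = g * (g' * g) * g' := by group
      _ = g * (g * g' * tw t (γ g' g)) * g' := by rw [hγ g' hg' g hg]
      _ = g * g * g' * (tw t (γ g' g) * g') := by group
      _ = tw t (θ g) * (g' * g') * tw t (γ g' g) := by rw [← hcen hg', hθ g hg]; group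
      _ = _ := by rw [hθ g' hg', Setup.tw_mul P.S, Setup.tw_mul P.S]
  have hγl : ∀ g ∈ AA K, ∀ g' ∈ AA K, ∀ d ∈ AA K, γ d (g * g') = (γ d g ^^ γ d g') := by
    intro g hg g' hg' d hd
    apply Setup.tw_inj P.S
    have h1 : d * (g * g') = g * g' * d * tw t (γ d g ^^ γ d g') := by
      calc d * (g * g') = g * (d * (tw t (γ d g) * g')) := by rw [← mul_assoc, hγ d hd g hg]; group
        _ = g * (d * g') * tw t (γ d g) := by rw [← hcen hg']; group
        _ = g * (g' * d) * (tw t (γ d g') * tw t (γ d g)) := by rw [hγ d hd g' hg']; group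
        _ = _ := by rw [Setup.tw_mul P.S, Bool.xor_comm]; group
    exact mul_left_cancel ((hγ d hd _ (mul_mem hg hg')).symm.trans h1)
  have hE : ∀ g ∈ AA K, ∀ g' ∈ AA K, g⁻¹ * g' ∈ Q → inW (K.c (g⁻¹ * g')) = true → θ g = θ g' := by
    intro g hg g' hg' hQ hW
    apply Setup.tw_inj P.S
    rw [← hθ g hg, ← hθ g' hg']
    symm
    have hc := (mem_AA.1 hg).2 _ hQ hW
    calc g' * g' = g * ((g⁻¹ * g') * g) * (g⁻¹ * g') := by group
      _ = g * g * ((g⁻¹ * g') * (g⁻¹ * g')) := by rw [← hc]; group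
      _ = g * g := by rw [W_sq P.S hQ hW, mul_one]
  choose! lift hliftA hliftF using fun b (h : b < 64 ∧ validF b = true) => P.exists_form hw h.1 h.2
  let T : ℕ → Bool := fun b => θ (lift b)
  have hT : ∀ g ∈ AA K, ∀ b, Frm K g b → validF b = true → θ g = T b := fun g hg b hf hv => by
    obtain ⟨hQ, hW⟩ := P.same_form hw hg (hliftA b ⟨hf.1, hv⟩) hf (hliftF b ⟨hf.1, hv⟩)
    exact hE g hg _ (hliftA b ⟨hf.1, hv⟩) hQ hW
  have h48 : T 48 = false := by
    rw [← hT y (P.y_mem hw) 48 P.y_frm (by decide)]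
    apply Setup.tw_inj P.S
    rw [← hθ y (P.y_mem hw), P.ysq, tw_false]
  have hchain : ∀ x j x', x < 64 → x' < 64 → j < 5 → validF x = true → validF x' = true →
      cmapOK x j x' = true → T x' = T x := by
    intro x j x' hx hx' hj hvx hvx' hc
    obtain ⟨h, hh, hπ, -⟩ := P.exists_cox hw hj
    have hA := hliftA x ⟨hx, hvx⟩
    have hf := hliftF x ⟨hx, hvx⟩
    have hA' : h * lift x * h⁻¹ ∈ AA K := by
      refine mem_AA.2 ⟨Subgroup.mem_centralizer_singleton_iff.1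
        (mul_mem (mul_mem hh (AA_cent hA)) (inv_mem hh)), fun e he hW => ?_⟩
      have he' : h⁻¹ * e * h ∈ Q := by
        have := Setup.na_conj P.S (inv_mem hh) he
        rwa [inv_inv] at this
      have hW' : inW (K.c (h⁻¹ * e * h)) = true := by
        have e1 := K.act ⟨h, hh⟩ (cw j) hπ.symm _ he'
        simp only at e1
        rw [show h * (h⁻¹ * e * h) * h⁻¹ = e by group] at e1
        obtain ⟨i, hi, ei⟩ := w_enum _ (K.c_lt e he) hW
        have key : ∀ j < 5, ∀ i < 16, inW (act sX (cw j).reverse (ew i)) = true := by decide +kernel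
        have := key j hj i hi
        rwa [ei, e1, act_reverse _ (K.c_lt _ he')] at this
      calc h * lift x * h⁻¹ * e = h * (lift x * (h⁻¹ * e * h)) * h⁻¹ := by group
        _ = h * ((h⁻¹ * e * h) * lift x) * h⁻¹ := by rw [(mem_AA.1 hA).2 _ he' hW']
        _ = e * (h * lift x * h⁻¹) := by group
    rw [← hT _ hA' x' (frm_conj P.S hh hπ hx' hc (AA_cent hA) hf) hvx']
    apply Setup.tw_inj P.S
    rw [← hθ _ hA', show h * lift x * h⁻¹ * (h * lift x * h⁻¹) = h * (lift x * lift x) * h⁻¹ by group,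
      hθ _ hA, Setup.conj_tw P.S (Subgroup.mem_centralizer_singleton_iff.1 hh)]
  have htri : ∀ p q r : ℕ, p < 64 → q < 64 → r < 64 → validF p = true → validF q = true → validF r = true →
      validF (p ^^^ q) = true → validF (p ^^^ r) = true → validF (q ^^^ r) = true →
      validF (p ^^^ q ^^^ r) = true →
      T (p ^^^ q ^^^ r) = ((((((T (p ^^^ q) ^^ T (p ^^^ r)) ^^ T (q ^^^ r)) ^^ T p) ^^ T q) ^^ T r)) := by
    intro p q r hp hq hr vp vq vr vpq vpr vqr vpqr
    have A1 := hliftA p ⟨hp, vp⟩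
    have A2 := hliftA q ⟨hq, vq⟩
    have A3 := hliftA r ⟨hr, vr⟩
    have F1 := hliftF p ⟨hp, vp⟩
    have F2 := hliftF q ⟨hq, vq⟩
    have F3 := hliftF r ⟨hr, vr⟩
    rw [← hT _ (mul_mem (mul_mem A1 A2) A3) _ ((F1.mul P.S (AA_cent A2) F2).mul P.S (AA_cent A3) F3) vpqr,
      ← hT _ (mul_mem A1 A2) _ (F1.mul P.S (AA_cent A2) F2) vpq,
      ← hT _ (mul_mem A1 A3) _ (F1.mul P.S (AA_cent A3) F3) vpr,
      ← hT _ (mul_mem A2 A3) _ (F2.mul P.S (AA_cent A3) F3) vqr,
      hmul _ (mul_mem A1 A2) _ A3, hmul _ A1 _ A2, hmul _ A1 _ A3, hmul _ A2 _ A3,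
      hγl _ A1 _ A2 _ A3]
    simp only [T]
    cases θ (lift p) <;> cases θ (lift q) <;> cases θ (lift r) <;> cases γ (lift q) (lift p) <;>
      cases γ (lift r) (lift p) <;> cases γ (lift r) (lift q) <;> rfl
  have hstep : ∀ (L : List (ℕ × ℕ × ℕ)) (e : ℕ × ℕ × ℕ), e ∈ L →
      (L.all fun e => Nat.blt e.1 64 && Nat.blt e.2.1 5 && Nat.blt e.2.2 64 && validF e.1 && validF e.2.2 &&
        cmapOK e.1 e.2.1 e.2.2) = true → T e.2.2 = T e.1 := by
    intro L e he h
    have := List.all_eq_true.1 h e he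
    simp only [Bool.and_eq_true, Nat.blt_eq] at this
    obtain ⟨⟨⟨⟨⟨a1, a2⟩, a3⟩, a4⟩, a5⟩, a6⟩ := this
    exact hchain _ _ _ a1 a3 a2 a4 a5 a6
  have hall := List.all_eq_true.1 orbU_ok
  have g0 := fun e he => hstep _ e he (hall (orbU.getD 0 (0, [])) (by simp [orbU]))
  have g1 := fun e he => hstep _ e he (hall (orbU.getD 1 (0, [])) (by simp [orbU]))
  simp only [orbU, List.getD_cons_zero, List.getD_cons_succ, List.forall_mem_cons] at g0 g1
  obtain ⟨p57, p10, p8, p62, p59, p12, p15, p3, p61, p55, p5, p4, p54, p2, -⟩ := g0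
  obtain ⟨r52, r50, r53, r7, r13, r51, r63, r60, r11, r14, r56, r58, r9, r49, -⟩ := g1
  have t1 := htri 1 2 4 (by norm_num) (by norm_num) (by norm_num) (by decide) (by decide) (by decide)
    (by decide) (by decide) (by decide) (by decide)
  have t2 := htri 1 2 48 (by norm_num) (by norm_num) (by norm_num) (by decide) (by decide) (by decide)
    (by decide) (by decide) (by decide) (by decide)
  simp only [show (1 : ℕ) ^^^ 2 = 3 from rfl, show (1 : ℕ) ^^^ 4 = 5 from rfl, show (2 : ℕ) ^^^ 4 = 6 from rfl,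
    show (3 : ℕ) ^^^ 4 = 7 from rfl] at t1
  simp only [show (1 : ℕ) ^^^ 2 = 3 from rfl, show (1 : ℕ) ^^^ 48 = 49 from rfl,
    show (2 : ℕ) ^^^ 48 = 50 from rfl, show (3 : ℕ) ^^^ 48 = 51 from rfl, h48] at t2
  have e3 : T 3 = T 1 := by rw [p3, p59, p10, p57]
  have e5 : T 5 = T 1 := by rw [p5, p61, p12, p62, p10, p57]
  have e4 : T 4 = T 1 := by rw [p4, p55, p15, p62, p10, p57]
  have e2 : T 2 = T 1 := by rw [p2, p54, p5, p61, p12, p62, p10, p57]
  have e7 : T 7 = T 6 := by rw [r7, r52]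
  have e49 : T 49 = T 6 := by rw [r49, r9, r56, r11, r51, r7, r52]
  have e50 : T 50 = T 6 := r50
  have e51 : T 51 = T 6 := by rw [r51, r7, r52]
  rw [e7, e3, e5, e4, e2] at t1
  rw [e51, e3, e49, e50, e2] at t2
  obtain ⟨hT1, hT6⟩ : T 1 = false ∧ T 6 = false := by
    revert t1 t2
    cases T 1 <;> cases T 6 <;> decide
  have hzero : ∀ b < 64, validF b = true → T b = false := by
    have hT0 : T 0 = false := by
      rw [← hT 1 (one_mem _) 0 (frm_Q P.S Q.one_mem) (by decide)]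
      apply Setup.tw_inj P.S
      rw [← hθ 1 (one_mem _), one_mul, tw_false]
    intro b hb hv
    interval_cases b <;> first
      | exact absurd hv (by decide)
      | (simp only [hT0, h48, hT1, hT6, p57, p10, p8, p62, p59, p12, p15, p3, p61, p55, p5, p4, p54, p2,
          r52, r50, r53, r7, r13, r51, r63, r60, r11, r14, r56, r58, r9, r49])
  obtain ⟨b, hf, hv⟩ := P.frm_ok hw ha
  rw [hθ a ha, hT a ha b hf hv, hzero b hf.1 hv, tw_false]

theorem AA_comm {a a' : G} (ha : a ∈ AA K) (ha' : a' ∈ AA K) : a * a' = a' * a := by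
  have h1 := P.AA_sq hw (mul_mem ha ha')
  have h2 := P.AA_sq hw ha
  have h3 := P.AA_sq hw ha'
  calc a * a' = a * a' * (a * a' * (a * a'))⁻¹ := by rw [h1, inv_one, mul_one]
    _ = a'⁻¹ * a⁻¹ := by group
    _ = a' * a := by rw [inv_eq_of_mul_eq_one_right h2, inv_eq_of_mul_eq_one_right h3]

end Pair

end Cfsg.Agent.Co2Recog.NA
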