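import Cfsg.Agent.Lib.Co2Recog.NA.Spin

/-!
The involution over a transvection, the elementary subgroup of order 32 which it centralises, and the centraliser
of that subgroup.
-/

set_option autoImplicit false
set_option maxRecDepth 100000

namespace Cfsg.Agent.Co2Recog.NA

open Cfsg.Agent.ThRec.Eight (act ap ap_xor ap_zero)

variable {G : Type*} [Group G] {t : G} {Q : Subgroup G}

theorem eq_of_xor {u v : ℕ} (h : u ^^^ v = 0) : u = v := by
  calc u = u ^^^ (v ^^^ v) := by simp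
    _ = v := by rw [← Nat.xor_assoc, h, Nat.zero_xor]

/-- The first power of two not below a bound. -/
theorem lt8 {u v : ℕ} (hu : u < 256) (hv : v < 256) : u ^^^ v < 256 := Nat.xor_lt_two_pow (n := 8) hu hv

theorem lt4 {u v : ℕ} (hu : u < 16) (hv : v < 16) : u ^^^ v < 16 := Nat.xor_lt_two_pow (n := 4) hu hv

theorem inW_xor {u v : ℕ} (hu : inW u = true) (hv : inW v = true) : inW (u ^^^ v) = true := by
  simp only [inW, Nat.beq_eq] at hu hv ⊢
  show (u ^^^ v) &&& 85 = 0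
  rw [Nat.and_xor_distrib_right, show u &&& 85 = 0 from hu, show v &&& 85 = 0 from hv, Nat.xor_self]

theorem fz_xor (x z : ℕ) : fz (x ^^^ z) = fz x ^^^ fz z := ap_xor _ x z

theorem ew_xor (x z : ℕ) : ew (x ^^^ z) = ew x ^^^ ew z := ap_xor _ x z

theorem xc_xor (u v : ℕ) : xc (u ^^^ v) = xc u ^^^ xc v := by
  simp only [xc, Nat.testBit_xor, bn_xor]
  ac_rfl

theorem tw_false (t : G) : tw t false = 1 := rfl

theorem tw_true (t : G) : tw t true = t := rfl

namespace Setup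

variable (S : Setup t Q)
include S

theorem na_sq : t * t = 1 := by rw [← pow_two, ← S.ht, pow_orderOf_eq_one]

theorem na_ne : t ≠ 1 := fun e => by
  have := S.ht
  rw [e, orderOf_one] at this
  omega

theorem na_comm {q : G} (hq : q ∈ Q) : q * t = t * q :=
  Subgroup.mem_centralizer_singleton_iff.1 (S.le hq)

theorem na_mem : t ∈ Q :=
  S.self t (Subgroup.mem_centralizer_singleton_iff.2 rfl) fun _ hq => (na_comm S hq).symm

theorem tw_mem (e : Bool) : tw t e ∈ Q := by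
  cases e
  · exact Q.one_mem
  · exact na_mem S

theorem tw_mul (e f : Bool) : tw t e * tw t f = tw t (e ^^ f) := by
  cases e <;> cases f <;> simp [tw, na_sq S]

theorem tw_inv (e : Bool) : (tw t e)⁻¹ = tw t e := by
  refine inv_eq_of_mul_eq_one_right ?_
  rw [tw_mul S, Bool.xor_self, tw_false]

theorem tw_inj {e f : Bool} (h : tw t e = tw t f) : e = f := by
  cases e <;> cases f <;> first | rfl | exact (na_ne S h.symm).elim | exact (na_ne S h).elim

theorem tw_comm {g : G} (hg : g * t = t * g) (e : Bool) : g * tw t e = tw t e * g := by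
  cases e
  · simp [tw]
  · exact hg

theorem conj_tw {g : G} (hg : g * t = t * g) (e : Bool) : g * tw t e * g⁻¹ = tw t e := by
  rw [tw_comm S hg, mul_inv_cancel_right]

theorem na_conj {h q : G} (hh : h ∈ Subgroup.centralizer {t}) (hq : q ∈ Q) : h * q * h⁻¹ ∈ Q :=
  S.norm h hh q hq

end Setup

namespace Coord

variable (S : Setup t Q) (K : Coords t Q)
include S K

theorem c_one : K.c 1 = 0 := (K.c_ker 1 Q.one_mem).2 (Or.inl rfl)

theorem c_t : K.c t = 0 := (K.c_ker t (Setup.na_mem S)).2 (Or.inr rfl)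

theorem c_tw (e : Bool) : K.c (tw t e) = 0 := by
  cases e
  · exact c_one S K
  · exact c_t S K

theorem c_inv {q : G} (hq : q ∈ Q) : K.c q⁻¹ = K.c q := by
  have h := K.c_mul q hq q⁻¹ (Q.inv_mem hq)
  rw [mul_inv_cancel, c_one S K] at h
  exact (eq_of_xor h.symm).symm

theorem eq_of_c {q r : G} (hq : q ∈ Q) (hr : r ∈ Q) (h : K.c q = K.c r) :
    ∃ e, q = r * tw t e := by
  have h0 : K.c (r⁻¹ * q) = 0 := by rw [K.c_mul _ (Q.inv_mem hr) q hq, c_inv S K hr, h, Nat.xor_self]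
  rcases (K.c_ker _ (Q.mul_mem (Q.inv_mem hr) hq)).1 h0 with e | e
  · exact ⟨false, by rw [tw_false, mul_one]; exact (inv_mul_eq_one.1 e).symm⟩
  · exact ⟨true, by rw [tw_true]; exact eq_mul_of_inv_mul_eq e⟩

theorem rule {q r : G} (hq : q ∈ Q) (hr : r ∈ Q) : q * r * q⁻¹ = r * tw t (Bv (K.c q) (K.c r)) := by
  have h := K.sq (q * r) (Q.mul_mem hq hr)
  rw [K.c_mul q hq r hr] at h
  have hr2 := K.sq r hr
  have hq2 := K.sq q hq
  have e1 : ∀ x ∈ Q, ∀ b, x * tw t b = tw t b * x := fun x hx b => Setup.tw_comm S (Setup.na_comm S hx) b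
  have key : q * r * q⁻¹ = (q * r * (q * r)) * (r * (r * r)⁻¹) * (q * q)⁻¹ := by group
  rw [key, h, hr2, hq2, Setup.tw_inv S, Setup.tw_inv S,
    show ∀ a b c, tw t a * (r * tw t b) * tw t c = r * (tw t a * tw t b * tw t c) from fun a b c => by
      rw [← mul_assoc, ← e1 r hr a, mul_assoc r, mul_assoc r],
    Setup.tw_mul S, Setup.tw_mul S]
  congr 2
  show ((qv (K.c q ^^^ K.c r) ^^ qv (K.c r)) ^^ qv (K.c q)) = Bv (K.c q) (K.c r)
  show _ = ((qv (K.c q ^^^ K.c r) ^^ qv (K.c q)) ^^ qv (K.c r))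
  cases qv (K.c q ^^^ K.c r) <;> cases qv (K.c q) <;> cases qv (K.c r) <;> rfl

theorem comm_of {q r : G} (hq : q ∈ Q) (hr : r ∈ Q) (h : Bv (K.c q) (K.c r) = false) : q * r = r * q := by
  have h1 := rule S K hq hr
  rw [h, tw_false, mul_one] at h1
  exact mul_inv_eq_iff_eq_mul.1 h1

theorem bil_of {q r : G} (hq : q ∈ Q) (hr : r ∈ Q) (h : q * r = r * q) : Bv (K.c q) (K.c r) = false := by
  have h1 := rule S K hq hr
  rw [h, mul_inv_cancel_right] at h1
  exact Setup.tw_inj S ((left_eq_mul.1 h1).trans (tw_false t).symm)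

theorem Bv_add {u u' v : ℕ} (hu : u < 256) (hu' : u' < 256) (hv : v < 256) :
    Bv (u ^^^ u') v = (Bv u v ^^ Bv u' v) := by
  obtain ⟨a, ha, rfl⟩ := K.c_surj u hu
  obtain ⟨b, hb, rfl⟩ := K.c_surj u' hu'
  obtain ⟨r, hr, rfl⟩ := K.c_surj v hv
  apply Setup.tw_inj S
  have h := rule S K (Q.mul_mem ha hb) hr
  rw [K.c_mul a ha b hb] at h
  have h2 : a * b * r * (a * b)⁻¹ = r * tw t (Bv (K.c a) (K.c r) ^^ Bv (K.c b) (K.c r)) := by
    calc a * b * r * (a * b)⁻¹ = a * (b * r * b⁻¹) * a⁻¹ := by group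
      _ = (a * r * a⁻¹) * (a * tw t (Bv (K.c b) (K.c r)) * a⁻¹) := by rw [rule S K hb hr]; group
      _ = _ := by
        rw [rule S K ha hr, Setup.conj_tw S (Setup.na_comm S ha), mul_assoc, Setup.tw_mul S]
  exact mul_left_cancel (h.symm.trans h2)

theorem conj_bil {h q r : G} (hh : h ∈ Subgroup.centralizer {t}) (hq : q ∈ Q) (hr : r ∈ Q) :
    Bv (K.c (h * q * h⁻¹)) (K.c (h * r * h⁻¹)) = Bv (K.c q) (K.c r) := by
  apply Setup.tw_inj S
  have h1 := rule S K (Setup.na_conj S hh hq) (Setup.na_conj S hh hr)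
  have h2 : h * q * h⁻¹ * (h * r * h⁻¹) * (h * q * h⁻¹)⁻¹ =
      h * r * h⁻¹ * tw t (Bv (K.c q) (K.c r)) := by
    calc _ = h * (q * r * q⁻¹) * h⁻¹ := by group
      _ = h * r * h⁻¹ * (h * tw t (Bv (K.c q) (K.c r)) * h⁻¹) := by rw [rule S K hq hr]; group
      _ = _ := by rw [Setup.conj_tw S (Subgroup.mem_centralizer_singleton_iff.1 hh)]
  exact mul_left_cancel (h1.symm.trans h2)

end Coord

/-! ### The elementary subgroup over the fixed space -/

/-- The preimage in `Q` of the fixed space of the first transvection. -/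
def ESet (K : Coords t Q) : Set G := {q | q ∈ Q ∧ inW (K.c q) = true}

/-- The centraliser of that preimage. -/
abbrev AA (K : Coords t Q) : Subgroup G := Subgroup.centralizer (insert t (ESet K))

variable {K : Coords t Q}

theorem mem_AA {a : G} : a ∈ AA K ↔ a * t = t * a ∧ ∀ q ∈ Q, inW (K.c q) = true → a * q = q * a := by
  rw [AA, Subgroup.mem_centralizer_iff]
  constructor
  · intro h
    exact ⟨(h t (Set.mem_insert _ _)).symm, fun q hq hW => (h q (Set.mem_insert_of_mem _ ⟨hq, hW⟩)).symm⟩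
  · rintro ⟨h1, h2⟩ x (rfl | ⟨hq, hW⟩)
    · exact h1.symm
    · exact (h2 x hq hW).symm

theorem AA_cent {a : G} (ha : a ∈ AA K) : a ∈ Subgroup.centralizer {t} :=
  Subgroup.mem_centralizer_singleton_iff.2 (mem_AA.1 ha).1

theorem ew_coord (S : Setup t Q) {i : ℕ} (hi : i < 16) : ∃ q ∈ Q, K.c q = ew i ∧ inW (K.c q) = true := by
  obtain ⟨q, hq, e⟩ := K.c_surj _ (ew_mem i hi).2
  exact ⟨q, hq, e, e.symm ▸ (ew_mem i hi).1⟩

theorem W_bil (S : Setup t Q) {q r : G} (hq : q ∈ Q) (hr : r ∈ Q) (h1 : inW (K.c q) = true)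
    (h2 : inW (K.c r) = true) : q * r = r * q := by
  obtain ⟨i, hi, e⟩ := w_enum _ (K.c_lt q hq) h1
  obtain ⟨j, hj, e'⟩ := w_enum _ (K.c_lt r hr) h2
  exact Coord.comm_of S K hq hr (by rw [← e, ← e']; exact (w_sing i hi j hj).2)

theorem W_sq (S : Setup t Q) {q : G} (hq : q ∈ Q) (h1 : inW (K.c q) = true) : q * q = 1 := by
  obtain ⟨i, hi, e⟩ := w_enum _ (K.c_lt q hq) h1
  rw [K.sq q hq, ← e, (w_sing i hi i hi).1, tw_false]

theorem E_le_AA (S : Setup t Q) {q : G} (hq : q ∈ Q) (h : inW (K.c q) = true) : q ∈ AA K :=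
  mem_AA.2 ⟨Setup.na_comm S hq, fun _ hr hW => W_bil S hq hr h hW⟩

theorem AA_inter (S : Setup t Q) {q : G} (hq : q ∈ Q) (ha : q ∈ AA K) : inW (K.c q) = true := by
  refine w_perp _ (K.c_lt q hq) fun i hi => ?_
  obtain ⟨e, he, hc, hW⟩ := ew_coord (K := K) S (i := 2 ^ i)
    (Nat.pow_lt_pow_right (m := i) (n := 4) (by norm_num) hi)
  rw [← hc]
  exact Coord.bil_of S K hq he ((mem_AA.1 ha).2 e he hW)

/-- An element of the centraliser of `t` centralising the elementary subgroup moves `Q` only inside it. -/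
theorem AA_move (S : Setup t Q) {a x : G} (ha : a ∈ AA K) (hx : x ∈ Q) :
    inW (K.c (a * x * a⁻¹ * x⁻¹)) = true := by
  have hac := AA_cent ha
  have hm := Setup.na_conj S hac hx
  rw [K.c_mul _ hm _ (Q.inv_mem hx), Coord.c_inv S K hx]
  refine w_perp _ (lt8 (K.c_lt _ hm) (K.c_lt x hx)) fun i hi => ?_
  obtain ⟨e, he, hc, hW⟩ := ew_coord (K := K) S (i := 2 ^ i)
    (Nat.pow_lt_pow_right (m := i) (n := 4) (by norm_num) hi)
  have hfix : a * e * a⁻¹ = e := by rw [(mem_AA.1 ha).2 e he hW, mul_inv_cancel_right]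
  have := Coord.conj_bil S K hac hx he
  rw [hfix] at this
  rw [← hc, Coord.Bv_add S K (K.c_lt _ hm) (K.c_lt x hx) (K.c_lt e he), this, Bool.xor_self]

/-- An element of the centraliser of `t` centralising `Q` is `1` or `t`. -/
theorem cent_Q (S : Setup t Q) (K : Coords t Q) {a : G} (ha : a ∈ Subgroup.centralizer {t})
    (h : ∀ q ∈ Q, a * q = q * a) : a = 1 ∨ a = t := by
  have haQ := S.self a ha h
  refine (K.c_ker a haQ).1 (nondeg _ (K.c_lt a haQ) fun k hk => ?_)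
  obtain ⟨r, hr, e⟩ := K.c_surj (2 ^ k) (Nat.pow_lt_pow_right (m := k) (n := 8) (by norm_num) hk)
  rw [← e]
  exact Coord.bil_of S K haQ hr (h r hr)

/-- An element centralising the elementary subgroup has square in the centre. -/
theorem AA_sq_mem (S : Setup t Q) {a : G} (ha : a ∈ AA K) : a * a = 1 ∨ a * a = t := by
  refine cent_Q S K (mul_mem (AA_cent ha) (AA_cent ha)) fun x hx => ?_
  set e := a * x * a⁻¹ * x⁻¹ with hedef
  have hW := AA_move S ha hx
  have he : e ∈ Q := Q.mul_mem (Setup.na_conj S (AA_cent ha) hx) (Q.inv_mem hx)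
  have hfix : a * e * a⁻¹ = e := by rw [(mem_AA.1 ha).2 e he hW, mul_inv_cancel_right]
  have h2 : e * e = 1 := W_sq S he hW
  calc a * a * x = a * (e * x) * a := by rw [hedef]; group
    _ = (a * e * a⁻¹) * (a * x * a⁻¹) * (a * a) := by group
    _ = e * (e * x) * (a * a) := by rw [hfix, hedef]; group
    _ = x * (a * a) := by rw [← mul_assoc e e x, h2, one_mul]

/-- Two such elements commute up to the centre. -/
theorem AA_comm_mem (S : Setup t Q) {a b : G} (ha : a ∈ AA K) (hb : b ∈ AA K) :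
    a * b * a⁻¹ * b⁻¹ = 1 ∨ a * b * a⁻¹ * b⁻¹ = t := by
  refine cent_Q S K (mul_mem (mul_mem (mul_mem (AA_cent ha) (AA_cent hb)) (inv_mem (AA_cent ha)))
    (inv_mem (AA_cent hb))) fun x hx => ?_
  have step : ∀ {c d : G}, c ∈ AA K → d ∈ AA K → ∀ {x : G}, x ∈ Q →
      c * d * x * (c * d)⁻¹ = (d * x * d⁻¹ * x⁻¹) * (c * x * c⁻¹ * x⁻¹) * x := by
    intro c d hc hd x hx
    have he : d * x * d⁻¹ * x⁻¹ ∈ Q := Q.mul_mem (Setup.na_conj S (AA_cent hd) hx) (Q.inv_mem hx)
    have hfix := (mem_AA.1 hc).2 _ he (AA_move S hd hx)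
    calc c * d * x * (c * d)⁻¹ = (c * (d * x * d⁻¹ * x⁻¹)) * c⁻¹ * (c * x * c⁻¹ * x⁻¹) * x := by group
      _ = _ := by rw [hfix]; group
  have hc : a * b * x * (a * b)⁻¹ = b * a * x * (b * a)⁻¹ := by
    rw [step ha hb hx, step hb ha hx]
    congr 1
    exact W_bil S (Q.mul_mem (Setup.na_conj S (AA_cent hb) hx) (Q.inv_mem hx))
      (Q.mul_mem (Setup.na_conj S (AA_cent ha) hx) (Q.inv_mem hx)) (AA_move S hb hx) (AA_move S ha hx)
  -- move the commutator across
  have h3 : ∀ y ∈ Q, (b * a)⁻¹ * (a * b) * y = y * ((b * a)⁻¹ * (a * b)) := by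
    intro y hy
    have := congrArg (fun g => (b * a)⁻¹ * g * (a * b)) (hc)
    calc (b * a)⁻¹ * (a * b) * y = (b * a)⁻¹ * (a * b * y * (a * b)⁻¹) * (a * b) := by group
      _ = (b * a)⁻¹ * (b * a * y * (b * a)⁻¹) * (a * b) := by
        rw [show a * b * y * (a * b)⁻¹ = b * a * y * (b * a)⁻¹ from by
          rw [step ha hb hy, step hb ha hy]
          congr 1
          exact W_bil S (Q.mul_mem (Setup.na_conj S (AA_cent hb) hy) (Q.inv_mem hy))
            (Q.mul_mem (Setup.na_conj S (AA_cent ha) hy) (Q.inv_mem hy)) (AA_move S hb hy) (AA_move S ha hy)]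
      _ = _ := by group
  have hba : b * a ∈ Subgroup.centralizer {t} := mul_mem (AA_cent hb) (AA_cent ha)
  have hy : (b * a)⁻¹ * x * (b * a) ∈ Q := by
    have := Setup.na_conj S (inv_mem hba) hx
    rwa [inv_inv] at this
  have := h3 _ hy
  calc a * b * a⁻¹ * b⁻¹ * x = b * a * ((b * a)⁻¹ * (a * b) * ((b * a)⁻¹ * x * (b * a))) * (b * a)⁻¹ := by group
    _ = b * a * ((b * a)⁻¹ * x * (b * a) * ((b * a)⁻¹ * (a * b))) * (b * a)⁻¹ := by rw [this]
    _ = x * (a * b * a⁻¹ * b⁻¹) := by group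

end Cfsg.Agent.Co2Recog.NA
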