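import Cfsg.Agent.Lib.Co2Recog.NA.Space
import Mathlib

/-!
Every choice of constants for the five Levi maps satisfying the Coxeter relations comes from one change of
coordinates.
-/

set_option autoImplicit false
set_option maxRecDepth 100000

namespace Cfsg.Agent.Co2Recog.NA

open Cfsg.Agent.ThRec.Eight (ap ap_map ap_xor ap_zero ap_lt)

/-- The composite of two maps given by images. -/
def comp (M N : List ℕ) : List ℕ := N.map (ap M)

/-- The relation between two letters of the Coxeter diagram of type A5. -/
def relOK (j i : ℕ) (M N : List ℕ) : Bool :=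
  cond (Nat.beq (i + 1) j) (comp M (comp N M) == comp N (comp M N)) (comp M N == comp N M)

/-- The basic functions as images. -/
def idM : List ℕ := (List.range 10).map fun k => 2 ^ k

/-- The constants for the first letters compatible with the relations, latest first. -/
def sols : ℕ → List (List ℕ)
  | 0 => [[]]
  | j + 1 => (sols j).flatMap fun s => ((List.range 32).filter fun g =>
      (comp (levM j g) (levM j g) == idM) &&
        (List.range j).all fun i => relOK j i (levM j g) (levM i (s.getD (j - 1 - i) 0))).map (· :: s)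

/-- The change of coordinates by a functional on the polar forms. -/
def shiftM (g : ℕ) : List ℕ := imgs fun i => Nat.xor i (bn (eta g i) 1)

theorem sols_shift : ((sols 5).all fun s => (List.range 32).any fun g0 => (List.range 5).all fun j =>
    comp (shiftM g0) (comp (levM j (s.getD (4 - j) 0)) (shiftM g0)) == levM j 0) = true := by
  decide +kernel

theorem sols_complete (g : ℕ → ℕ) (hg : ∀ j, g j < 32)
    (h2 : ∀ j < 5, comp (levM j (g j)) (levM j (g j)) = idM)
    (hr : ∀ j < 5, ∀ i < j, relOK j i (levM j (g j)) (levM i (g i)) = true) :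
    ∀ j ≤ 5, ∃ s ∈ sols j, s.length = j ∧ ∀ i < j, s.getD (j - 1 - i) 0 = g i := by
  intro j hj
  induction j with
  | zero => exact ⟨[], List.mem_singleton_self _, rfl, fun i hi => absurd hi (Nat.not_lt_zero i)⟩
  | succ j ih =>
    obtain ⟨s, hs, hl, hv⟩ := ih (Nat.le_of_succ_le hj)
    refine ⟨g j :: s, ?_, by rw [List.length_cons, hl], fun i hi => ?_⟩
    · show _ ∈ List.flatMap _ (sols j)
      refine List.mem_flatMap.2 ⟨s, hs, List.mem_map.2 ⟨g j, List.mem_filter.2 ⟨List.mem_range.2 (hg j), ?_⟩, rfl⟩⟩
      rw [Bool.and_eq_true]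
      refine ⟨beq_iff_eq.2 (h2 j (by omega)), List.all_eq_true.2 fun i hi => ?_⟩
      rw [hv i (List.mem_range.1 hi)]
      exact hr j (by omega) i (List.mem_range.1 hi)
    · rcases Nat.lt_succ_iff_lt_or_eq.1 hi with hi | rfl
      · rw [show j + 1 - 1 - i = (j - 1 - i) + 1 from by omega, List.getD_cons_succ]
        exact hv i hi
      · rw [show i + 1 - 1 - i = 0 from by omega, List.getD_cons_zero]

/-- The constants vanish after one change of coordinates. -/
theorem exists_shift (g : ℕ → ℕ) (hg : ∀ j, g j < 32)
    (h2 : ∀ j < 5, comp (levM j (g j)) (levM j (g j)) = idM)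
    (hr : ∀ j < 5, ∀ i < j, relOK j i (levM j (g j)) (levM i (g i)) = true) :
    ∃ g0 < 32, ∀ j < 5, comp (shiftM g0) (comp (levM j (g j)) (shiftM g0)) = levM j 0 := by
  obtain ⟨s, hs, -, hv⟩ := sols_complete g hg h2 hr 5 le_rfl
  obtain ⟨g0, hg0, h⟩ := List.any_eq_true.1 (List.all_eq_true.1 sols_shift s hs)
  refine ⟨g0, List.mem_range.1 hg0, fun j hj => ?_⟩
  have := List.all_eq_true.1 h j (List.mem_range.2 hj)
  rw [show 4 - j = 5 - 1 - j from by omega, hv j hj] at this
  exact beq_iff_eq.1 this

end Cfsg.Agent.Co2Recog.NA
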