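import Mathlib.Data.List.Basic

/-!
Tables on the spin module: the 63 transvections, words for five basic polar forms and for the five Levi
transvections.
-/

set_option autoImplicit false
set_option maxRecDepth 100000

namespace Cfsg.Agent.Co2Recog.NA

/-- The 63 transvections on the spin module. -/
def spinT : List (List ℕ) :=
    [[3, 2, 12, 8, 48, 32, 192, 128], [5, 10, 4, 8, 80, 160, 64, 128], [7, 10, 12, 8, 112, 160, 192,
    128], [17, 34, 68, 136, 16, 32, 64, 128], [19, 34, 76, 136, 48, 32, 192, 128], [21, 42, 68, 136, 80,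
    160, 64, 128], [23, 42, 76, 136, 112, 160, 192, 128], [1, 3, 4, 12, 16, 48, 64, 192], [2, 1, 8, 4,
    32, 16, 128, 64], [5, 11, 4, 12, 80, 176, 64, 192], [6, 9, 8, 4, 96, 144, 128, 64], [17, 35, 68, 140,
    16, 48, 64, 192], [18, 33, 72, 132, 32, 16, 128, 64], [21, 43, 68, 140, 80, 176, 64, 192], [22, 41,
    72, 132, 96, 144, 128, 64], [1, 2, 5, 10, 16, 32, 80, 160], [3, 2, 13, 10, 48, 32, 208, 160], [4, 8,
    1, 2, 64, 128, 16, 32], [6, 8, 9, 2, 96, 128, 144, 32], [17, 34, 69, 138, 16, 32, 80, 160], [19, 34,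
    77, 138, 48, 32, 208, 160], [20, 40, 65, 130, 64, 128, 16, 32], [22, 40, 73, 130, 96, 128, 144, 32],
    [1, 3, 5, 14, 16, 48, 80, 224], [2, 1, 9, 6, 32, 16, 144, 96], [4, 9, 1, 6, 64, 144, 16, 96], [7, 11,
    13, 14, 112, 176, 208, 224], [17, 35, 69, 142, 16, 48, 80, 224], [18, 33, 73, 134, 32, 16, 144, 96],
    [20, 41, 65, 134, 64, 144, 16, 96], [23, 43, 77, 142, 112, 176, 208, 224], [1, 2, 4, 8, 17, 34, 68,
    136], [3, 2, 12, 8, 49, 34, 196, 136], [5, 10, 4, 8, 81, 162, 68, 136], [7, 10, 12, 8, 113, 162, 196,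
    136], [16, 32, 64, 128, 1, 2, 4, 8], [18, 32, 72, 128, 33, 2, 132, 8], [20, 40, 64, 128, 65, 130, 4,
    8], [22, 40, 72, 128, 97, 130, 132, 8], [1, 3, 4, 12, 17, 50, 68, 200], [2, 1, 8, 4, 33, 18, 132,
    72], [5, 11, 4, 12, 81, 178, 68, 200], [6, 9, 8, 4, 97, 146, 132, 72], [16, 33, 64, 132, 1, 18, 4,
    72], [19, 35, 76, 140, 49, 50, 196, 200], [20, 41, 64, 132, 65, 146, 4, 72], [23, 43, 76, 140, 113,
    178, 196, 200], [1, 2, 5, 10, 17, 34, 84, 168], [3, 2, 13, 10, 49, 34, 212, 168], [4, 8, 1, 2, 65,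
    130, 20, 40], [6, 8, 9, 2, 97, 130, 148, 40], [16, 32, 65, 130, 1, 2, 20, 40], [18, 32, 73, 130, 33,
    2, 148, 40], [21, 42, 69, 138, 81, 162, 84, 168], [23, 42, 77, 138, 113, 162, 212, 168], [1, 3, 5,
    14, 17, 50, 84, 232], [2, 1, 9, 6, 33, 18, 148, 104], [4, 9, 1, 6, 65, 146, 20, 104], [7, 11, 13, 14,
    113, 178, 212, 232], [16, 33, 65, 134, 1, 18, 20, 104], [19, 35, 77, 142, 49, 50, 212, 232], [21, 43,
    69, 142, 81, 178, 84, 232], [22, 41, 73, 134, 97, 146, 148, 104]]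

/-- Words with a basis of the polar forms, with their forms. -/
def formW : List (List ℕ × ℕ) :=
    [([0], 48), ([5, 1, 2, 6, 3, 2, 1, 0, 1, 2, 3, 6, 2, 1], 56), ([4, 1, 2, 6, 5, 4, 3, 2, 1, 0, 1, 2,
    3, 4, 5, 6, 2, 1], 51), ([3, 4, 3, 1, 2, 6, 5, 4, 3, 2, 1, 0, 1, 2, 3, 4, 5, 6, 2, 1, 3, 4], 52),
    ([3, 4, 2, 3, 1, 2, 6, 5, 4, 3, 2, 1, 0, 1, 2, 3, 4, 5, 6, 2, 1, 3, 2, 4, 3, 2], 50)]

/-- Words of the five Levi transvections. -/
def coxW : List (List ℕ) :=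
    [[3, 4, 2, 3, 1, 2, 6, 5, 4, 3, 2, 1, 0, 1, 2, 3, 4, 5, 6, 2, 1, 3, 2, 4, 3], [3], [4], [5], [6, 2,
    3, 1, 2, 6, 4, 3, 2, 1, 0, 1, 2, 3, 4, 6, 2, 1, 3, 2, 6]]

end Cfsg.Agent.Co2Recog.NA
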