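import Cfsg.Agent.Lib.Co2Recog.Elt
import Cfsg.Agent.Lib.Co2Recog.NA.SpinData
import Mathlib.GroupTheory.Sylow

/-!
An involution of the symplectic group in six dimensions over the field of two elements which commutes with an
element of order five is a transvection.
-/

set_option autoImplicit false
set_option maxRecDepth 100000

namespace Cfsg.Agent.Co2Recog.NA

open Equiv
open Cfsg.Agent.ThRec.Eight (ap ap_xor ap_zero mulM ap_mulM)

/-- A word of order five. -/
def fiveW : List ℕ := coxW.getD 0 [] ++ coxW.getD 1 [] ++ coxW.getD 2 [] ++ coxW.getD 3 []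

/-- Its matrix on the six-bit vectors. -/
def fiveM : List ℕ := (eW fiveW).1

/-- A map commuting with it, from three images, in unit vectors. -/
def fiveC (a b c : ℕ) : List ℕ :=
  [16, 1, 5, 32, 2, 8].map fun m => ap [a, ap fiveM a, ap fiveM (ap fiveM a), ap fiveM (ap fiveM (ap fiveM a)), b, c] m

/-- Six images are those of a word which is trivial or conjugate to the first letter by one of three words. -/
def fiveOK (M : List ℕ) : Bool :=
  (M == id6) || [[], [0, 1], [1]].any fun w => M == (eW (w ++ 0 :: w.reverse)).1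

theorem five_basis : ∀ i < 6, ap [2, ap fiveM 2, ap fiveM (ap fiveM 2), ap fiveM (ap fiveM (ap fiveM 2)), 1, 8]
    ([16, 1, 5, 32, 2, 8].getD i 0) = 2 ^ i := by decide +kernel

theorem five_fix : ∀ v < 64, ap fiveM v = v → v ∈ [0, 1, 8, 9] := by decide +kernel

theorem five_table : ((List.range 64).all fun a => [0, 1, 8, 9].all fun b => [0, 1, 8, 9].all fun c =>
    (fiveOK (fiveC a b c) ||
      !(((List.range 6).all fun i => Nat.beq (ap (fiveC a b c) (ap (fiveC a b c) (2 ^ i))) (2 ^ i)) &&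
        ((List.range 6).all fun i => (List.range 6).all fun j =>
          bil6 (ap (fiveC a b c) (2 ^ i)) (ap (fiveC a b c) (2 ^ j)) == bil6 (2 ^ i) (2 ^ j))))) = true := by
  decide +kernel

theorem bil6_gen : ∀ k : Fin 7, ∀ x < 64, ∀ v < 64,
    bil6 (ap (g6 k) x) (ap (g6 k) v) = bil6 x v := by decide +kernel

theorem bil6_word : ∀ (w : List ℕ) {x v : ℕ}, x < 64 → v < 64 →
    bil6 (ap (eW w).1 x) (ap (eW w).1 v) = bil6 x v
  | [], x, v, hx, hv => by show bil6 (ap id6 x) (ap id6 v) = _; rw [ap_id6 x hx, ap_id6 v hv]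
  | k :: w, x, v, hx, hv => by
    show bil6 (ap (mulM (g6 k) (eW w).1) x) (ap (mulM (g6 k) (eW w).1) v) = _
    rw [ap_mulM, ap_mulM]
    have hl : ∀ u, ap (eW w).1 u < 64 := fun u => ThRec.Eight.ap_lt (n := 6) (eW_lt w).1 u
    have hg : g6 k = g6 (k % 7) := by simp [g6, tvC, Nat.mod_mod]
    rw [hg]
    exact (bil6_gen ⟨k % 7, Nat.mod_lt _ (by norm_num)⟩ _ (hl x) _ (hl v)).trans (bil6_word w hx hv)

theorem five_pow : key (eW fiveW) ≠ key eId ∧
    key (eW (fiveW ++ (fiveW ++ (fiveW ++ (fiveW ++ fiveW))))) = key eId := by decide +kernel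

theorem five_order : orderOf (permW fiveW) = 5 := by
  haveI : Fact (Nat.Prime 5) := ⟨by norm_num⟩
  refine orderOf_eq_prime ?_ fun h => five_pow.1 (permW_eq_one_iff.1 h)
  rw [show (permW fiveW) ^ 5 = permW fiveW * (permW fiveW * (permW fiveW * (permW fiveW * permW fiveW))) by
    simp [pow_succ, mul_assoc], ← permW_append, ← permW_append, ← permW_append, ← permW_append]
  exact permW_eq_one_iff.2 five_pow.2

/-- Subgroups of order five are conjugate. -/
theorem five_conj {r : Perm (Fin 63)} (hr : r ∈ Sp63) (h5 : orderOf r = 5) :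
    ∃ c ∈ Sp63, permW fiveW ∈ Subgroup.zpowers (c * r * c⁻¹) := by
  haveI : Fact (Nat.Prime 5) := ⟨by norm_num⟩
  have hf : permW fiveW ∈ Sp63 := permW_mem _
  have hfac : 5 ^ (Nat.card ↥Sp63).factorization 5 = 5 := by
    rw [card_Sp63]
    have : Nat.factorization 1451520 5 = 1 := by
      rw [show (1451520 : ℕ) = 5 ^ 1 * 290304 by norm_num,
        Nat.factorization_mul (by norm_num) (by norm_num), Finsupp.add_apply,
        Nat.Prime.factorization_pow (by norm_num), Finsupp.single_eq_same,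
        Nat.factorization_eq_zero_of_not_dvd (by norm_num)]
    rw [this, pow_one]
  have hcard : ∀ x : ↥Sp63, orderOf x = 5 →
      Nat.card ↥(Subgroup.zpowers x) = 5 ^ (Nat.card ↥Sp63).factorization 5 := fun x hx => by
    rw [hfac, Nat.card_zpowers, hx]
  let P : Sylow 5 ↥Sp63 := Sylow.ofCard (Subgroup.zpowers ⟨r, hr⟩) (hcard _ (by rw [← h5, Subgroup.orderOf_mk]))
  let R : Sylow 5 ↥Sp63 := Sylow.ofCard (Subgroup.zpowers ⟨permW fiveW, hf⟩)
    (hcard _ (by rw [← five_order, Subgroup.orderOf_mk]))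
  obtain ⟨c, hc⟩ := MulAction.exists_smul_eq ↥Sp63 P R
  refine ⟨c, c.2, ?_⟩
  have hm : (⟨permW fiveW, hf⟩ : ↥Sp63) ∈ (c • P : Sylow 5 ↥Sp63) := by
    rw [hc]
    show _ ∈ (R : Subgroup ↥Sp63)
    exact Subgroup.mem_zpowers _
  rw [Sylow.smul_def] at hm
  obtain ⟨x, hx, e⟩ := Subgroup.mem_map.1 hm
  obtain ⟨n, rfl⟩ := Subgroup.mem_zpowers_iff.1 hx
  refine Subgroup.mem_zpowers_iff.2 ⟨n, ?_⟩
  have e' := congrArg Subtype.val e
  simp only [MulDistribMulAction.toMonoidEnd_apply, MulDistribMulAction.toMonoidHom_apply, MulAut.smul_def,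
    MulAut.conj_apply, Subgroup.coe_mul, Subgroup.coe_inv, SubgroupClass.coe_zpow] at e'
  rw [conj_zpow]
  exact e'

/-- **The lemma**: such an involution is conjugate to the first letter. -/
theorem five_transvection {p r : Perm (Fin 63)} (hp : p ∈ Sp63) (hr : r ∈ Sp63) (h5 : orderOf r = 5)
    (hc : p * r = r * p) (h2 : p * p = 1) (h1 : p ≠ 1) : ∃ c ∈ Sp63, c * p * c⁻¹ = tv 0 := by
  obtain ⟨d, hd, hm⟩ := five_conj hr h5
  set p' := d * p * d⁻¹ with hp'
  have hcomm : p' * permW fiveW = permW fiveW * p' := by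
    obtain ⟨n, hn⟩ := Subgroup.mem_zpowers_iff.1 hm
    rw [← hn]
    have hb : Commute p' (d * r * d⁻¹) := by
      show _ = _
      rw [hp', show d * p * d⁻¹ * (d * r * d⁻¹) = d * (p * r) * d⁻¹ by group,
        show d * r * d⁻¹ * (d * p * d⁻¹) = d * (r * p) * d⁻¹ by group, hc]
    exact (hb.zpow_right n).eq
  obtain ⟨w, hw⟩ := exists_word (show p' ∈ Sp63 from mul_mem (mul_mem hd hp) (inv_mem hd))
  set M := (eW w).1 with hM
  have hlt : ∀ u, ap M u < 64 := fun u => ThRec.Eight.ap_lt (n := 6) (eW_lt w).1 u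
  have hflt : ∀ u, ap fiveM u < 64 := fun u => ThRec.Eight.ap_lt (n := 6) (eW_lt fiveW).1 u
  have hmc : ∀ i : Fin 63, ap M (ap fiveM (i.val + 1)) = ap fiveM (ap M (i.val + 1)) := by
    intro i
    have e := congrArg (fun q : Perm (Fin 63) => (q i).val + 1) hcomm
    simp only [Perm.mul_apply, ← hw] at e
    rwa [permW_apply, permW_apply, permW_apply, permW_apply] at e
  have hmc' : ∀ v, 0 < v → v < 64 → ap M (ap fiveM v) = ap fiveM (ap M v) := fun v hv hv' => by
    have := hmc ⟨v - 1, by omega⟩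
    simpa [Nat.sub_add_cancel hv] using this
  have hfl : ∀ v, 0 < v → v < 64 → 0 < ap fiveM v := by
    have : ∀ v < 64, 0 < v → 0 < ap fiveM v := by decide +kernel
    exact fun v h1 h2 => this v h2 h1
  have hb : ap M 1 ∈ [0, 1, 8, 9] ∧ ap M 8 ∈ [0, 1, 8, 9] := by
    constructor <;> refine five_fix _ (hlt _) ?_
    · rw [← hmc' 1 (by norm_num) (by norm_num)]
      congr 1
    · rw [← hmc' 8 (by norm_num) (by norm_num)]
      congr 1
  have h2p : ap M 2 < 64 := hlt 2
  have hC : fiveC (ap M 2) (ap M 1) (ap M 8) = M := by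
    have e : ∀ i < 6, ap [ap M 2, ap fiveM (ap M 2), ap fiveM (ap fiveM (ap M 2)),
        ap fiveM (ap fiveM (ap fiveM (ap M 2))), ap M 1, ap M 8] ([16, 1, 5, 32, 2, 8].getD i 0) = ap M (2 ^ i) := by
      intro i hi
      rw [← five_basis i hi, ← hmc' 2 (by norm_num) (by norm_num),
        ← hmc' _ (hfl 2 (by norm_num) (by norm_num)) (hflt _),
        ← hmc' _ (hfl _ (hfl 2 (by norm_num) (by norm_num)) (hflt _)) (hflt _)]
      exact (ThRec.Eight.ap_map (ap_zero M) (ap_xor M)
        [2, ap fiveM 2, ap fiveM (ap fiveM 2), ap fiveM (ap fiveM (ap fiveM 2)), 1, 8] _).trans rfl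
    refine List.ext_getElem (by rw [hM, eW_length]; simp [fiveC]) fun i i1 i2 => ?_
    have hi : i < 6 := by simpa [fiveC] using i1
    rw [← List.getD_eq_getElem _ 0 i1, ← List.getD_eq_getElem _ 0 i2, ← ap_unit M, ← e i hi]
    interval_cases i <;> rfl
  have htab := List.all_eq_true.1 (List.all_eq_true.1 (List.all_eq_true.1 five_table (ap M 2)
    (List.mem_range.2 h2p)) _ hb.1) _ hb.2
  rw [hC] at htab
  have hcond : (((List.range 6).all fun i => Nat.beq (ap M (ap M (2 ^ i))) (2 ^ i)) &&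
      ((List.range 6).all fun i => (List.range 6).all fun j =>
        bil6 (ap M (2 ^ i)) (ap M (2 ^ j)) == bil6 (2 ^ i) (2 ^ j))) = true := by
    have hp6 : ∀ i < 6, 2 ^ i < 64 := fun i hi => Nat.pow_lt_pow_right (m := i) (n := 6) (by norm_num) hi
    rw [Bool.and_eq_true]
    refine ⟨List.all_eq_true.2 fun i hi => ?_, List.all_eq_true.2 fun i hi => List.all_eq_true.2 fun j hj =>
      beq_iff_eq.2 (bil6_word w (hp6 i (List.mem_range.1 hi)) (hp6 j (List.mem_range.1 hj)))⟩
    have h2' : p' * p' = 1 := by rw [hp', show d * p * d⁻¹ * (d * p * d⁻¹) = d * (p * p) * d⁻¹ by group, h2]; group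
    have hp6' := hp6 i (List.mem_range.1 hi)
    have h1i := Nat.one_le_two_pow (n := i)
    have e := congrArg (fun q : Perm (Fin 63) => (q ⟨2 ^ i - 1, by omega⟩).val + 1) h2'
    simp only [Perm.mul_apply, ← hw, Perm.one_apply] at e
    rw [permW_apply, permW_apply] at e
    simp only [show 2 ^ i - 1 + 1 = 2 ^ i by omega] at e
    exact Nat.beq_eq ▸ e
  rw [hcond, Bool.not_true, Bool.or_false, fiveOK, Bool.or_eq_true, List.any_eq_true, beq_iff_eq] at htab
  rcases htab with h | ⟨v, -, hv⟩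
  · refine absurd ?_ h1
    have : p' = 1 := by
      rw [← hw]
      exact permW_eq_one_iff.2 (by show key6 M = key6 id6; rw [h])
    calc p = d⁻¹ * p' * d := by rw [hp']; group
      _ = 1 := by rw [this]; group
  · have e : permW w = permW (v ++ 0 :: v.reverse) := permW_eq_iff.2 (by
      show key6 M = key6 _
      rw [beq_iff_eq.1 hv])
    rw [permW_append, show permW (0 :: v.reverse) = tv 0 * permW v.reverse from rfl, permW_reverse, hw,
      ← mul_assoc] at e
    refine ⟨(permW v)⁻¹ * d, mul_mem (inv_mem (permW_mem v)) hd, ?_⟩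
    calc (permW v)⁻¹ * d * p * ((permW v)⁻¹ * d)⁻¹ = (permW v)⁻¹ * p' * permW v := by rw [hp']; group
      _ = tv 0 := by rw [e]; group

end Cfsg.Agent.Co2Recog.NA
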