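import Cfsg.Agent.Lib.Co2Recog.NA.Basic
import Cfsg.Agent.Lib.Co2Recog.NA.SpinData

/-!
The polar form of an element centralising the elementary subgroup: six bits, with one linear condition.
-/

set_option autoImplicit false
set_option maxRecDepth 100000

namespace Cfsg.Agent.Co2Recog.NA

open Cfsg.Agent.ThRec.Eight (act ap ap_xor ap_zero act_xor act_zero act_append gen)

/-- The row of a point in a form. -/
def frow : ℕ → ℕ → ℕ
  | b, 0 => bn (b.testBit 4) 2 ^^^ bn (b.testBit 0) 4 ^^^ bn (b.testBit 1) 8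
  | b, 1 => bn (b.testBit 4) 1 ^^^ bn (b.testBit 2) 4 ^^^ bn (b.testBit 3) 8
  | b, 2 => bn (b.testBit 0) 1 ^^^ bn (b.testBit 2) 2 ^^^ bn (b.testBit 5) 8
  | b, 3 => bn (b.testBit 1) 1 ^^^ bn (b.testBit 3) 2 ^^^ bn (b.testBit 5) 4
  | _, _ => 0

/-- The map of the spin module belonging to a form. -/
def alphaM (b : ℕ) : List ℕ :=
  [Nat.xor 1 (ew (frow b 0)), 2, Nat.xor 4 (ew (frow b 2)), 8, Nat.xor 16 (ew (frow b 3)), 32,
    Nat.xor 64 (ew (frow b 1)), 128]

/-- The linear condition on forms. -/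
def validF (b : ℕ) : Bool := b.testBit 4 == b.testBit 5

theorem alpha_id : ∀ v < 256, ap (alphaM 0) v = v := by decide +kernel

theorem alpha_mul : ∀ a < 64, ∀ b < 64, ∀ k < 8,
    ap (alphaM a) (ap (alphaM b) (2 ^ k)) = ap (alphaM (Nat.xor a b)) (2 ^ k) := by decide +kernel

theorem alpha_lt : ∀ b < 64, ∀ k < 8, ap (alphaM b) (2 ^ k) < 256 := by decide +kernel

theorem alpha_read : ∀ b < 64, ∀ i < 4, Nat.xor (ap (alphaM b) (fz (2 ^ i))) (fz (2 ^ i)) = ew (frow b i) ∧
    frow b i < 16 := by decide +kernel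

theorem frow_inj : ∀ a < 64, ∀ b < 64, (∀ i < 4, frow a i = frow b i) → a = b := by decide +kernel

theorem alpha_W : ∀ b < 64, ∀ k < 8, inW (2 ^ k) = true → ap (alphaM b) (2 ^ k) = 2 ^ k := by decide +kernel

theorem basis_cases : ∀ k < 8, inW (2 ^ k) = true ∨ ∃ i < 4, 2 ^ k = fz (2 ^ i) := by decide +kernel

theorem ew_inj : ∀ i < 16, ∀ j < 16, ew i = ew j → i = j := by decide +kernel

theorem sX_invol : ∀ k < 7, ∀ i < 8, ap (gen sX k) (ap (gen sX k) (2 ^ i)) = 2 ^ i ∧
    ap (gen sX k) (2 ^ i) < 256 := by decide +kernel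

theorem spinT_closed : ((List.range 7).all fun k => spinT.all fun M =>
    spinT.contains ((List.range 8).map fun i => ap (gen sX k) (ap M (ap (gen sX k) (2 ^ i))))) = true ∧
    spinT.contains (gen sX 1) = true := by decide +kernel

theorem alpha_bad : ((List.range 64).all fun b => validF b ||
    !spinT.contains ((List.range 8).map fun i => ap (alphaM b) (ap (gen sX 1) (ap (alphaM b) (2 ^ i))))) = true := by
  decide +kernel

/-- Two linear maps of the spin module agreeing on the basis agree. -/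
theorem ext8 {f g : ℕ → ℕ} (hf : ∀ u < 256, ∀ v < 256, f (u ^^^ v) = f u ^^^ f v)
    (hg : ∀ u < 256, ∀ v < 256, g (u ^^^ v) = g u ^^^ g v) (h : ∀ k < 8, f (2 ^ k) = g (2 ^ k))
    {v : ℕ} (hv : v < 256) : f v = g v := by
  have z : ∀ {p : ℕ → ℕ}, (∀ u < 256, ∀ v < 256, p (u ^^^ v) = p u ^^^ p v) → p 0 = 0 := by
    intro p hp
    have := hp 0 (by norm_num) 0 (by norm_num)
    rwa [Nat.xor_self, Nat.xor_self] at this
  suffices key : ∀ n ≤ 8, ∀ v < 2 ^ n, f v = g v from key 8 le_rfl v hv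
  intro n
  induction n with
  | zero =>
    intro _ v hv
    have : v = 0 := by simpa using hv
    rw [this, z hf, z hg]
  | succ n ih =>
    intro hn v hv
    by_cases hlt : v < 2 ^ n
    · exact ih (by omega) v hlt
    · have h2 : v ^^^ 2 ^ n < 2 ^ n := by
        refine Nat.lt_pow_two_of_testBit _ fun i hi => ?_
        rw [Nat.testBit_xor, Nat.testBit_two_pow]
        rcases Nat.eq_or_lt_of_le hi with rfl | hi'
        · have : v.testBit n = true := by
            rw [Nat.testBit_eq_decide_div_mod_eq, decide_eq_true_eq]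
            have h1 : v / 2 ^ n = 1 := Nat.div_eq_of_lt_le (by omega) (by rw [pow_succ] at hv; omega)
            rw [h1]
          simp [this]
        · rw [Nat.testBit_lt_two_pow (lt_of_lt_of_le hv (Nat.pow_le_pow_right two_pos hi'))]
          simp [Nat.ne_of_lt hi']
      have h2' : v ^^^ 2 ^ n < 256 := lt_of_lt_of_le h2 (Nat.pow_le_pow_right two_pos (by omega) : 2 ^ n ≤ 2 ^ 8)
      have hn' : 2 ^ n < 256 := Nat.pow_lt_pow_right (m := n) (n := 8) (by norm_num) (by omega)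
      have e : v = (v ^^^ 2 ^ n) ^^^ 2 ^ n := by simp
      rw [e, hf _ h2' _ hn', hg _ h2' _ hn', ih (by omega) _ h2, h n (by omega)]

theorem act_lt (w : List ℕ) : ∀ {v : ℕ}, v < 256 → act sX w v < 256 := by
  induction w with
  | nil => exact fun h => h
  | cons k w ih =>
    intro v _
    show ap (gen sX k) (act sX w v) < 256
    refine Cfsg.Agent.ThRec.Eight.ap_lt (n := 8) ?_ _
    have h : ∀ j < 7, ∀ c ∈ gen sX j, c < 256 := by decide +kernel
    intro c hc
    have := h (k % 7) (Nat.mod_lt _ (by norm_num)) c (by simpa [gen, Nat.mod_mod] using hc)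
    simpa using this

theorem gen_gen (k : ℕ) {v : ℕ} (hv : v < 256) : ap (gen sX k) (ap (gen sX k) v) = v := by
  have h : gen sX k = gen sX (k % 7) := by simp [gen]
  rw [h]
  exact ext8 (f := fun v => ap (gen sX (k % 7)) (ap (gen sX (k % 7)) v)) (g := fun v => v)
    (fun u _ v _ => by simp only [ap_xor]) (fun _ _ _ _ => rfl)
    (fun i hi => (sX_invol _ (Nat.mod_lt _ (by norm_num)) i hi).1) hv

theorem act_reverse : ∀ (w : List ℕ) {v : ℕ}, v < 256 → act sX w.reverse (act sX w v) = v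
  | [], _, _ => rfl
  | k :: w, v, hv => by
    rw [List.reverse_cons, act_append]
    show act sX w.reverse (ap (gen sX k) (ap (gen sX k) (act sX w v))) = v
    rw [gen_gen k (act_lt w hv)]
    exact act_reverse w hv

/-- A conjugate of the second transvection is one of the 63. -/
theorem conj_spinT : ∀ w : List ℕ, ∃ M, spinT.contains M = true ∧
    ∀ v < 256, ap M v = act sX w (ap (gen sX 1) (act sX w.reverse v))
  | [] => ⟨gen sX 1, spinT_closed.2, fun _ _ => rfl⟩
  | k :: w => by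
    obtain ⟨M, hM, h⟩ := conj_spinT w
    have hk : gen sX k = gen sX (k % 7) := by simp [gen]
    refine ⟨(List.range 8).map fun i => ap (gen sX k) (ap M (ap (gen sX k) (2 ^ i))), ?_, fun v hv => ?_⟩
    · rw [hk]
      exact List.all_eq_true.1 (List.all_eq_true.1 spinT_closed.1 _
        (List.mem_range.2 (Nat.mod_lt k (by norm_num)))) M (List.contains_iff_mem.1 hM)
    · have hid : ∀ i < 8, ap ((List.range 8).map fun j => ap (gen sX k) (ap M (ap (gen sX k) (2 ^ j)))) (2 ^ i) =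
          ap (gen sX k) (ap M (ap (gen sX k) (2 ^ i))) := by
        intro i hi
        have h8 : ∀ i < 8, ap ((List.range 8).map fun j => 2 ^ j) (2 ^ i) = 2 ^ i := by decide +kernel
        rw [show ((List.range 8).map fun j => ap (gen sX k) (ap M (ap (gen sX k) (2 ^ j)))) =
          ((List.range 8).map fun j => 2 ^ j).map fun u => ap (gen sX k) (ap M (ap (gen sX k) u)) from
          by rw [List.map_map]; rfl, Cfsg.Agent.ThRec.Eight.ap_map (by simp only [ap_zero])
          (fun u v => by simp only [ap_xor]), h8 i hi]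
      rw [ext8 (fun u _ v _ => ap_xor _ u v)
        (g := fun v => ap (gen sX k) (ap M (ap (gen sX k) v))) (fun u _ v _ => by simp only [ap_xor]) hid hv]
      have hlt : ap (gen sX k) v < 256 := act_lt [k] hv
      rw [h _ hlt]
      show ap (gen sX k) (act sX w (ap (gen sX 1) (act sX w.reverse (ap (gen sX k) v)))) =
        act sX (k :: w) (ap (gen sX 1) (act sX (k :: w).reverse v))
      rw [List.reverse_cons, act_append]
      rfl

variable {G : Type*} [Group G] {t : G} {Q : Subgroup G}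

/-- An element acts on `Q` modulo `t` by the map of a form. -/
def Frm (K : Coords t Q) (a : G) (b : ℕ) : Prop :=
  b < 64 ∧ ∀ x ∈ Q, K.c (a * x * a⁻¹) = ap (alphaM b) (K.c x)

variable {K : Coords t Q}

theorem Frm.unique {a : G} {b b' : ℕ} (h : Frm K a b) (h' : Frm K a b') : b = b' := by
  refine frow_inj b h.1 b' h'.1 fun i hi => ?_
  obtain ⟨x, hx, e⟩ := K.c_surj (fz (2 ^ i)) (fz_facts _ (Nat.pow_lt_pow_right (m := i) (n := 4) (by norm_num) hi)).1
  have h1 := h.2 x hx
  rw [h'.2 x hx, e] at h1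
  have r := alpha_read b h.1 i hi
  have r' := alpha_read b' h'.1 i hi
  exact ew_inj _ r.2 _ r'.2 (by rw [← r.1, ← r'.1, h1])

theorem Frm.mul (S : Setup t Q) {a a' : G} {b b' : ℕ} (ha : a' ∈ Subgroup.centralizer {t}) (h : Frm K a b)
    (h' : Frm K a' b') : Frm K (a * a') (b ^^^ b') := by
  refine ⟨Nat.xor_lt_two_pow (n := 6) h.1 h'.1, fun x hx => ?_⟩
  rw [show a * a' * x * (a * a')⁻¹ = a * (a' * x * a'⁻¹) * a⁻¹ by group,
    h.2 _ (Setup.na_conj S ha hx), h'.2 x hx]
  exact ext8 (f := fun v => ap (alphaM b) (ap (alphaM b') v)) (fun u _ v _ => by simp only [ap_xor])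
    (fun u _ v _ => ap_xor _ u v) (fun k hk => alpha_mul b h.1 b' h'.1 k hk) (K.c_lt x hx)

theorem frm_Q (S : Setup t Q) {a : G} (ha : a ∈ Q) : Frm K a 0 := by
  refine ⟨by norm_num, fun x hx => ?_⟩
  rw [alpha_id _ (K.c_lt x hx), Coord.rule S K ha hx, K.c_mul x hx _ (Setup.tw_mem S _), Coord.c_tw S K,
    Nat.xor_zero]

theorem dual8 : ∀ l < 256, ∃ u < 256, ∀ k < 8, Bv u (2 ^ k) = l.testBit k := by decide +kernel

/-- An element acting trivially on `Q` modulo `t` lies in `Q`. -/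
theorem mem_Q_of_frm (S : Setup t Q) {a : G} (ha : a ∈ Subgroup.centralizer {t}) (h : Frm K a 0) :
    a ∈ Q := by
  classical
  have hrel : ∀ x ∈ Q, ∃ e, a * x * a⁻¹ = x * tw t e := fun x hx =>
    Coord.eq_of_c S K (Setup.na_conj S ha hx) hx (by rw [h.2 x hx, alpha_id _ (K.c_lt x hx)])
  choose! fe hfe using hrel
  choose! rep hrep hrepc using K.c_surj
  let l := (List.range 8).foldr (fun k m => Nat.xor (bn (fe (rep (2 ^ k))) (2 ^ k)) m) 0
  have hl : ∀ b : ℕ → Bool, (List.range 8).foldr (fun k m => Nat.xor (bn (b k) (2 ^ k)) m) 0 < 256 ∧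
      ∀ k < 8, ((List.range 8).foldr (fun k m => Nat.xor (bn (b k) (2 ^ k)) m) 0).testBit k = b k := by
    intro b
    have key : ∀ b0 b1 b2 b3 b4 b5 b6 b7 : Bool,
        let v := Nat.xor (bn b0 1) (Nat.xor (bn b1 2) (Nat.xor (bn b2 4) (Nat.xor (bn b3 8) (Nat.xor (bn b4 16)
          (Nat.xor (bn b5 32) (Nat.xor (bn b6 64) (Nat.xor (bn b7 128) 0)))))))
        v < 256 ∧ v.testBit 0 = b0 ∧ v.testBit 1 = b1 ∧ v.testBit 2 = b2 ∧ v.testBit 3 = b3 ∧
          v.testBit 4 = b4 ∧ v.testBit 5 = b5 ∧ v.testBit 6 = b6 ∧ v.testBit 7 = b7 := by decide +kernel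
    obtain ⟨hv, h0, h1, h2, h3, h4, h5, h6, h7⟩ := key (b 0) (b 1) (b 2) (b 3) (b 4) (b 5) (b 6) (b 7)
    refine ⟨hv, fun k hk => ?_⟩
    interval_cases k
    exacts [h0, h1, h2, h3, h4, h5, h6, h7]
  obtain ⟨u, hu, hub⟩ := dual8 l (hl _).1
  obtain ⟨q, hq, hqc⟩ := K.c_surj u hu
  have hgen : ∀ x ∈ Q, a * x * a⁻¹ = q * x * q⁻¹ := by
    intro x hx
    have hadd : ∀ y ∈ Q, ∀ y' ∈ Q, fe (y * y') = (fe y ^^ fe y') := by
      intro y hy y' hy'
      apply Setup.tw_inj S
      have h1 : a * (y * y') * a⁻¹ = y * y' * tw t (fe y ^^ fe y') := by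
        calc a * (y * y') * a⁻¹ = (a * y * a⁻¹) * (a * y' * a⁻¹) := by group
          _ = y * (tw t (fe y) * y') * tw t (fe y') := by rw [hfe y hy, hfe y' hy']; group
          _ = _ := by
            rw [← Setup.tw_comm S (Setup.na_comm S hy'), ← Setup.tw_mul S]; group
      exact mul_left_cancel ((hfe _ (Q.mul_mem hy hy')).symm.trans h1)
    have hco : ∀ y ∈ Q, ∀ y' ∈ Q, K.c y = K.c y' → fe y = fe y' := by
      intro y hy y' hy' e
      obtain ⟨d, rfl⟩ := Coord.eq_of_c S K hy hy' e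
      have hd : fe (tw t d) = false := by
        apply Setup.tw_inj S
        have h1 := hfe _ (Setup.tw_mem S d)
        rw [Setup.conj_tw S (Subgroup.mem_centralizer_singleton_iff.1 ha)] at h1
        exact ((left_eq_mul.1 h1).trans (tw_false t).symm)
      rw [hadd y' hy' _ (Setup.tw_mem S d), hd, Bool.xor_false]
    have key : ∀ v < 256, bn (fe (rep v)) 1 = bn (Bv u v) 1 := by
      intro v hv
      refine ext8 (f := fun v => bn (fe (rep v)) 1) (g := fun v => bn (Bv u v) 1) ?_ ?_ (fun k hk => ?_) hv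
      · intro y hy y' hy'
        show bn _ 1 = bn _ 1 ^^^ bn _ 1
        rw [← bn_xor, ← hadd _ (hrep y hy) _ (hrep y' hy')]
        congr 1
        exact hco _ (hrep _ (lt8 hy hy')) _ (Q.mul_mem (hrep y hy) (hrep y' hy'))
          (by rw [hrepc _ (lt8 hy hy'), K.c_mul _ (hrep y hy) _ (hrep y' hy'), hrepc y hy, hrepc y' hy'])
      · intro y hy y' hy'
        show bn _ 1 = bn _ 1 ^^^ bn _ 1
        rw [← bn_xor]
        congr 1
        obtain ⟨z, hz, ez⟩ := K.c_surj _ (lt8 hy hy')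
        have sym : ∀ p < 256, Bv u p = Bv p u := by
          intro p _
          simp only [Bv, show Nat.xor u p = Nat.xor p u from Nat.xor_comm u p]
          cases qv (Nat.xor p u) <;> cases qv u <;> cases qv p <;> rfl
        rw [sym _ (lt8 hy hy'), sym y hy, sym y' hy', Coord.Bv_add S K hy hy' hu]
      · show bn (fe (rep (2 ^ k))) 1 = bn (Bv u (2 ^ k)) 1
        rw [hub k hk, (hl fun k => fe (rep (2 ^ k))).2 k hk]
    have hx8 := K.c_lt x hx
    have e1 : fe x = fe (rep (K.c x)) := hco x hx _ (hrep _ hx8) (hrepc _ hx8).symm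
    rw [hfe x hx, Coord.rule S K hq hx, hqc, e1]
    congr 2
    have := key _ hx8
    cases h1 : fe (rep (K.c x)) <;> cases h2 : Bv u (K.c x) <;>
      first | rfl | (rw [h1, h2] at this; simp [bn] at this)
  have hmem : q⁻¹ * a ∈ Q := by
    refine S.self _ (mul_mem (inv_mem (S.le hq)) ha) fun x hx => ?_
    have := hgen x hx
    calc q⁻¹ * a * x = q⁻¹ * (a * x * a⁻¹) * a := by group
      _ = x * (q⁻¹ * a) := by rw [this]; group
  have := Q.mul_mem hq hmem
  rwa [mul_inv_cancel_left] at this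

/-- **The polar form**: an element centralising the elementary subgroup acts by a valid form. -/
theorem exists_frm (S : Setup t Q) {a : G} (ha : a ∈ AA K) {w : List ℕ}
    (hw : permW w = K.π ⟨a, AA_cent ha⟩) : ∃ b, Frm K a b ∧ validF b = true := by
  classical
  have hact : ∀ x ∈ Q, K.c (a * x * a⁻¹) = act sX w (K.c x) := fun x hx => K.act ⟨a, AA_cent ha⟩ w hw x hx
  choose! rep hrep hrepc using K.c_surj
  let D : ℕ → ℕ := fun i => Nat.xor (act sX w (fz (2 ^ i))) (fz (2 ^ i))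
  have hp4 : ∀ i < 4, 2 ^ i < 16 := fun i hi => Nat.pow_lt_pow_right (m := i) (n := 4) (by norm_num) hi
  have hD : ∀ i < 4, inW (D i) = true ∧ D i < 256 := by
    intro i hi
    have h1 := (fz_facts _ (hp4 i hi)).1
    have hx := hrep _ h1
    have := AA_move S ha hx
    rw [K.c_mul _ (Setup.na_conj S (AA_cent ha) hx) _ (Q.inv_mem hx), Coord.c_inv S K hx, hact _ hx,
      hrepc _ h1] at this
    exact ⟨this, lt8 (act_lt w h1) h1⟩
  have hB : ∀ i < 4, ∀ j < 4, Bv (D i) (fz (2 ^ j)) = Bv (D j) (fz (2 ^ i)) ∧ Bv (D i) (fz (2 ^ i)) = false := by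
    intro i hi j hj
    have h1 := (fz_facts _ (hp4 i hi)).1
    have h2 := (fz_facts _ (hp4 j hj)).1
    have sym : ∀ p r : ℕ, Bv p r = Bv r p := by
      intro p r
      simp only [Bv, show Nat.xor p r = Nat.xor r p from Nat.xor_comm p r]
      cases qv (Nat.xor r p) <;> cases qv r <;> cases qv p <;> rfl
    have inv : Bv (act sX w (fz (2 ^ i))) (act sX w (fz (2 ^ j))) = Bv (fz (2 ^ i)) (fz (2 ^ j)) := by
      have := Coord.conj_bil S K (AA_cent ha) (hrep _ h1) (hrep _ h2)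
      rwa [hact _ (hrep _ h1), hact _ (hrep _ h2), hrepc _ h1, hrepc _ h2] at this
    have e1 : act sX w (fz (2 ^ i)) = D i ^^^ fz (2 ^ i) := by simp [D]
    have e2 : act sX w (fz (2 ^ j)) = D j ^^^ fz (2 ^ j) := by simp [D]
    have hWW : Bv (D i) (D j) = false := by
      obtain ⟨u, hu, eu⟩ := w_enum _ (hD i hi).2 (hD i hi).1
      obtain ⟨v, hv, ev⟩ := w_enum _ (hD j hj).2 (hD j hj).1
      rw [← eu, ← ev]; exact (w_sing u hu v hv).2
    refine ⟨?_, ?_⟩
    · rw [e1, e2, Coord.Bv_add S K (hD i hi).2 h1 (lt8 (hD j hj).2 h2), sym (D i), sym (fz (2 ^ i)),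
        Coord.Bv_add S K (hD j hj).2 h2 (hD i hi).2, Coord.Bv_add S K (hD j hj).2 h2 h1,
        sym (fz (2 ^ j)) (D i), sym (D j) (D i), hWW, sym (fz (2 ^ j)) (fz (2 ^ i))] at inv
      revert inv
      cases Bv (D i) (fz (2 ^ j)) <;> cases Bv (D j) (fz (2 ^ i)) <;> cases Bv (fz (2 ^ i)) (fz (2 ^ j)) <;> simp
    · have hsq : qv (act sX w (fz (2 ^ i))) = qv (fz (2 ^ i)) := by
        apply Setup.tw_inj S
        have hx := hrep _ h1
        have hq := K.sq _ (Setup.na_conj S (AA_cent ha) hx)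
        rw [hact _ hx, hrepc _ h1] at hq
        have h2 := K.sq _ hx
        rw [hrepc _ h1] at h2
        rw [← hq]
        calc a * rep (fz (2 ^ i)) * a⁻¹ * (a * rep (fz (2 ^ i)) * a⁻¹)
            = a * (rep (fz (2 ^ i)) * rep (fz (2 ^ i))) * a⁻¹ := by group
          _ = tw t (qv (fz (2 ^ i))) := by
            rw [h2, Setup.conj_tw S (Subgroup.mem_centralizer_singleton_iff.1 (AA_cent ha))]
      obtain ⟨u, hu, eu⟩ := w_enum _ (hD i hi).2 (hD i hi).1
      have hqD : qv (D i) = false := by rw [← eu]; exact (w_sing u hu u hu).1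
      have hqf : qv (fz (2 ^ i)) = false := (comp_sing _ (hp4 i hi) _ (hp4 i hi)).1
      rw [e1, hqf] at hsq
      show ((qv (Nat.xor (D i) (fz (2 ^ i))) ^^ qv (D i)) ^^ qv (fz (2 ^ i))) = false
      rw [show qv (Nat.xor (D i) (fz (2 ^ i))) = false from hsq, hqD, hqf]; rfl
  let bb : ℕ → ℕ → Bool := fun i j => Bv (D i) (fz (2 ^ j))
  let b := bn (bb 0 2) 1 ^^^ bn (bb 0 3) 2 ^^^ bn (bb 1 2) 4 ^^^ bn (bb 1 3) 8 ^^^ bn (bb 0 1) 16 ^^^
    bn (bb 2 3) 32
  have hb : b < 64 ∧ ∀ i < 4, frow b i < 16 ∧ ∀ j < 4, (frow b i).testBit j = bb i j := by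
    have key : ∀ c0 c1 c2 c3 c4 c5 : Bool,
        let v := bn c0 1 ^^^ bn c1 2 ^^^ bn c2 4 ^^^ bn c3 8 ^^^ bn c4 16 ^^^ bn c5 32
        v < 64 ∧ (frow v 0 = bn c4 2 ^^^ bn c0 4 ^^^ bn c1 8) ∧ (frow v 1 = bn c4 1 ^^^ bn c2 4 ^^^ bn c3 8) ∧
          (frow v 2 = bn c0 1 ^^^ bn c2 2 ^^^ bn c5 8) ∧ (frow v 3 = bn c1 1 ^^^ bn c3 2 ^^^ bn c5 4) := by
      decide +kernel
    have bits : ∀ d0 d1 d2 : Bool, (bn d0 2 ^^^ bn d1 4 ^^^ bn d2 8 < 16 ∧
        (∀ j < 4, (bn d0 2 ^^^ bn d1 4 ^^^ bn d2 8).testBit j = [false, d0, d1, d2].getD j false)) ∧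
        (bn d0 1 ^^^ bn d1 4 ^^^ bn d2 8 < 16 ∧
        (∀ j < 4, (bn d0 1 ^^^ bn d1 4 ^^^ bn d2 8).testBit j = [d0, false, d1, d2].getD j false)) ∧
        (bn d0 1 ^^^ bn d1 2 ^^^ bn d2 8 < 16 ∧
        (∀ j < 4, (bn d0 1 ^^^ bn d1 2 ^^^ bn d2 8).testBit j = [d0, d1, false, d2].getD j false)) ∧
        (bn d0 1 ^^^ bn d1 2 ^^^ bn d2 4 < 16 ∧
        (∀ j < 4, (bn d0 1 ^^^ bn d1 2 ^^^ bn d2 4).testBit j = [d0, d1, d2, false].getD j false)) := by
      decide +kernel
    obtain ⟨h64, f0, f1, f2, f3⟩ := key (bb 0 2) (bb 0 3) (bb 1 2) (bb 1 3) (bb 0 1) (bb 2 3)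
    refine ⟨h64, fun i hi => ?_⟩
    have s := fun i hi j hj => (hB i hi j hj).1
    have d := fun i hi => (hB i hi i hi).2
    interval_cases i
    · rw [f0]; refine ⟨(bits _ _ _).1.1, fun j hj => ?_⟩
      rw [(bits _ _ _).1.2 j hj]; interval_cases j
      exacts [(d 0 hi).symm, rfl, rfl, rfl]
    · rw [f1]; refine ⟨(bits _ _ _).2.1.1, fun j hj => ?_⟩
      rw [(bits _ _ _).2.1.2 j hj]; interval_cases j
      exacts [(s 1 (by norm_num) 0 (by norm_num)).symm, (d 1 (by norm_num)).symm, rfl, rfl]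
    · rw [f2]; refine ⟨(bits _ _ _).2.2.1.1, fun j hj => ?_⟩
      rw [(bits _ _ _).2.2.1.2 j hj]; interval_cases j
      exacts [(s 2 (by norm_num) 0 (by norm_num)).symm, (s 2 (by norm_num) 1 (by norm_num)).symm,
        (d 2 (by norm_num)).symm, rfl]
    · rw [f3]; refine ⟨(bits _ _ _).2.2.2.1, fun j hj => ?_⟩
      rw [(bits _ _ _).2.2.2.2 j hj]; interval_cases j
      exacts [(s 3 (by norm_num) 0 (by norm_num)).symm, (s 3 (by norm_num) 1 (by norm_num)).symm,
        (s 3 (by norm_num) 2 (by norm_num)).symm, (d 3 (by norm_num)).symm]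
  have hDrow : ∀ i < 4, D i = ew (frow b i) := by
    intro i hi
    obtain ⟨u, hu, eu⟩ := w_enum _ (hD i hi).2 (hD i hi).1
    rw [← eu]
    congr 1
    refine Nat.eq_of_testBit_eq fun j => ?_
    by_cases hj : j < 4
    · rw [(hb.2 i hi).2 j hj]
      show _ = Bv (D i) (fz (2 ^ j))
      rw [← eu, w_dual u hu _ (hp4 j hj)]
      have : ∀ u < 16, ∀ j < 4, par (Nat.land u (2 ^ j)) = u.testBit j := by decide +kernel
      rw [this u hu j hj]
    · have h16 : 16 ≤ 2 ^ j := Nat.pow_le_pow_right two_pos (not_lt.1 hj) (n := 2)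
      rw [Nat.testBit_lt_two_pow (lt_of_lt_of_le hu h16), Nat.testBit_lt_two_pow (lt_of_lt_of_le (hb.2 i hi).1 h16)]
  have hW : ∀ v < 256, inW v = true → act sX w v = v := by
    intro v hv hi
    have hx := hrep v hv
    have := hact _ hx
    rw [(mem_AA.1 ha).2 _ hx (by rw [hrepc v hv]; exact hi), mul_inv_cancel_right, hrepc v hv] at this
    exact this.symm
  have hall : ∀ v < 256, act sX w v = ap (alphaM b) v := by
    intro v hv
    refine ext8 (fun u _ v _ => act_xor sX w u v) (fun u _ v _ => ap_xor _ u v) (fun k hk => ?_) hv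
    rcases (basis_cases k hk) with h | ⟨i, hi, h⟩
    · rw [hW _ (Nat.pow_lt_pow_right (m := k) (n := 8) (by norm_num) hk) h, alpha_W b hb.1 k hk h]
    · have e1 : D i = ew (frow b i) := hDrow i hi
      rw [← (alpha_read b hb.1 i hi).1] at e1
      rw [h]
      exact Nat.xor_left_injective (x := fz (2 ^ i)) e1
  refine ⟨b, ⟨hb.1, fun x hx => by rw [hact x hx, hall _ (K.c_lt x hx)]⟩, ?_⟩
  by_contra hv
  have hbad := List.all_eq_true.1 alpha_bad b (List.mem_range.2 hb.1)
  rw [Bool.not_eq_true] at hv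
  rw [hv, Bool.false_or, Bool.not_eq_true'] at hbad
  obtain ⟨M, hM, hMv⟩ := conj_spinT w
  have hinv : ∀ v < 256, act sX w.reverse v = act sX w v := by
    intro v hv
    have h2 : ap (alphaM b) (ap (alphaM b) v) = v := by
      rw [ext8 (f := fun v => ap (alphaM b) (ap (alphaM b) v)) (fun u _ v _ => by simp only [ap_xor])
        (fun u _ v _ => ap_xor _ u v) (fun k hk => alpha_mul b hb.1 b hb.1 k hk) hv,
        show Nat.xor b b = 0 from Nat.xor_self b, alpha_id v hv]
    calc act sX w.reverse v = act sX w.reverse (act sX w (act sX w v)) := by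
          rw [hall _ (act_lt w hv), hall v hv, h2]
      _ = act sX w v := act_reverse w (act_lt w hv)
  have hlen : ∀ M ∈ spinT, M.length = 8 := by decide +kernel
  have heq : M = (List.range 8).map fun i => ap (alphaM b) (ap (gen sX 1) (ap (alphaM b) (2 ^ i))) := by
    refine List.ext_getElem (by rw [hlen M (List.contains_iff_mem.1 hM), List.length_map, List.length_range]) fun i h1 h2 => ?_
    rw [List.getElem_map, List.getElem_range]
    have hi : i < 8 := by rwa [hlen M (List.contains_iff_mem.1 hM)] at h1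
    have hp : 2 ^ i < 256 := Nat.pow_lt_pow_right (m := i) (n := 8) (by norm_num) hi
    have e := hMv _ hp
    rw [hinv _ hp, hall _ hp] at e
    have hl1 : ap (gen sX 1) (ap (alphaM b) (2 ^ i)) < 256 := act_lt [1] (alpha_lt b hb.1 i hi)
    rw [hall _ hl1] at e
    rw [← e]
    have hget : ∀ M ∈ spinT, ∀ i < 8, ap M (2 ^ i) = M.getD i 0 := by decide +kernel
    rw [hget M (List.contains_iff_mem.1 hM) i hi, List.getD_eq_getElem _ _ h1]
  rw [← heq, hM] at hbad
  exact Bool.noConfusion hbad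

end Cfsg.Agent.Co2Recog.NA
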