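import Cfsg.Agent.Lib.Co2Recog.NA.Orbits
import Cfsg.Agent.Lib.Co2Recog.NA.Cocycle

/-!
A map of the functions which commutes with the translations and fixes the constant is a translation followed by a
change of constants; composites of the Levi maps.
-/

set_option autoImplicit false
set_option maxRecDepth 100000

namespace Cfsg.Agent.Co2Recog.NA

open Cfsg.Agent.ThRec.Eight (ap ap_xor ap_zero ap_map)

theorem xor_back (u p : ℕ) : u = p ^^^ (u ^^^ p) := by
  rw [Nat.xor_comm u p, ← Nat.xor_assoc, Nat.xor_self, Nat.zero_xor]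

/-- Two maps respecting exclusive or below a power of two agree if they agree on its basis. -/
theorem extN (N : ℕ) {f g : ℕ → ℕ} (hf : ∀ u < 2 ^ N, ∀ v < 2 ^ N, f (u ^^^ v) = f u ^^^ f v)
    (hg : ∀ u < 2 ^ N, ∀ v < 2 ^ N, g (u ^^^ v) = g u ^^^ g v) (h : ∀ k < N, f (2 ^ k) = g (2 ^ k))
    {v : ℕ} (hv : v < 2 ^ N) : f v = g v := by
  have h0 : (0 : ℕ) < 2 ^ N := Nat.pow_pos two_pos
  have z : ∀ {p : ℕ → ℕ}, (∀ u < 2 ^ N, ∀ v < 2 ^ N, p (u ^^^ v) = p u ^^^ p v) → p 0 = 0 := by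
    intro p hp
    have := hp 0 h0 0 h0
    rwa [Nat.xor_self, Nat.xor_self] at this
  suffices key : ∀ n ≤ N, ∀ v < 2 ^ n, f v = g v from key N le_rfl v hv
  intro n
  induction n with
  | zero =>
    intro _ v hv
    have : v = 0 := by simpa using hv
    rw [this, z hf, z hg]
  | succ n ih =>
    intro hn v hv
    by_cases hlt : v < 2 ^ n
    · exact ih (by omega) v hlt
    · have h2 : v ^^^ 2 ^ n < 2 ^ n := by
        refine Nat.lt_pow_two_of_testBit _ fun i hi => ?_
        rw [Nat.testBit_xor, Nat.testBit_two_pow]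
        rcases Nat.eq_or_lt_of_le hi with rfl | hi'
        · have : v.testBit n = true := by
            rw [Nat.testBit_eq_decide_div_mod_eq, decide_eq_true_eq]
            have h1 : v / 2 ^ n = 1 := Nat.div_eq_of_lt_le (by omega) (by rw [pow_succ] at hv; omega)
            rw [h1]
          simp [this]
        · rw [Nat.testBit_lt_two_pow (lt_of_lt_of_le hv (Nat.pow_le_pow_right two_pos hi'))]
          simp [Nat.ne_of_lt hi']
      have h2' : v ^^^ 2 ^ n < 2 ^ N := lt_of_lt_of_le h2 (Nat.pow_le_pow_right two_pos (by omega))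
      have hn' : 2 ^ n < 2 ^ N := Nat.pow_lt_pow_right (m := n) (n := N) (by norm_num) (by omega)
      have e : v = (v ^^^ 2 ^ n) ^^^ 2 ^ n := by simp
      rw [e, hf _ h2' _ hn', hg _ h2' _ hn', ih (by omega) _ h2, h n (by omega)]

/-- Two matrices agreeing on the ten basic functions agree. -/
theorem ap_ext {M N : List ℕ} (h : ∀ k < 10, ap M (2 ^ k) = ap N (2 ^ k)) {v : ℕ} (hv : v < 1024) :
    ap M v = ap N v :=
  extN 10 (fun u _ v _ => ap_xor M u v) (fun u _ v _ => ap_xor N u v) h (v := v) hv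

theorem ap_two_pow : ∀ (M : List ℕ) (i : ℕ), ap M (2 ^ i) = M.getD i 0
  | [], _ => rfl
  | c :: M, 0 => by
    rw [pow_zero, Cfsg.Agent.ThRec.Eight.ap_cons, show (1 : ℕ) / 2 = 0 from rfl, ap_zero]
    exact Nat.xor_zero c
  | c :: M, i + 1 => by
    rw [Cfsg.Agent.ThRec.Eight.ap_cons, Cfsg.Agent.ThRec.Eight.odd_eq,
      Nat.testBit_two_pow_of_ne (Nat.succ_ne_zero i), cond_false, Nat.zero_xor, pow_succ,
      Nat.mul_div_cancel _ two_pos, ap_two_pow M i]
    rfl

theorem ap_comp (M N : List ℕ) (v : ℕ) : ap (comp M N) v = ap M (ap N v) :=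
  ap_map (ap_zero M) (ap_xor M) N v

/-- The polar form of a function. -/
def formN (n : ℕ) : ℕ := Nat.xor (Nat.div n 32) (bn ((Nat.div n 32).testBit 4) 32)

theorem trM_basis : ((List.range 16).all fun x => (List.range 10).all fun k =>
    Nat.blt (ap (trM x) (2 ^ k)) 1024 && Nat.beq (Nat.div (ap (trM x) (2 ^ k)) 32) (Nat.div (2 ^ k) 32) &&
      (List.range 16).all fun y => Nat.beq (ap (trM x) (ap (trM y) (2 ^ k))) (ap (trM (Nat.xor x y)) (2 ^ k))) =
    true := by decide +kernel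

theorem trM_lt {x : ℕ} (hx : x < 16) {n : ℕ} (hn : n < 1024) : ap (trM x) n < 1024 := by
  rw [ap_trM x hn]; exact pull_lt _ _

theorem div32_xor (u v : ℕ) : (u ^^^ v) / 32 = u / 32 ^^^ v / 32 := Nat.xor_div_two_pow (n := 5)

theorem trM_div {x : ℕ} (hx : x < 16) {n : ℕ} (hn : n < 1024) : ap (trM x) n / 32 = n / 32 := by
  refine extN 10 (f := fun n => ap (trM x) n / 32) (g := fun n => n / 32)
    (fun u _ v _ => by simp only [ap_xor, div32_xor]) (fun u _ v _ => div32_xor u v) (fun k hk => ?_) (v := n) hn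
  have := List.all_eq_true.1 (List.all_eq_true.1 trM_basis x (List.mem_range.2 hx)) k (List.mem_range.2 hk)
  simp only [Bool.and_eq_true, Nat.beq_eq] at this
  exact this.1.2

theorem trM_mul {x y : ℕ} (hx : x < 16) (hy : y < 16) {n : ℕ} (hn : n < 1024) :
    ap (trM x) (ap (trM y) n) = ap (trM (x ^^^ y)) n := by
  refine extN 10 (f := fun n => ap (trM x) (ap (trM y) n)) (fun u _ v _ => by simp only [ap_xor])
    (fun u _ v _ => ap_xor _ u v) (fun k hk => ?_) (v := n) hn
  have := List.all_eq_true.1 (List.all_eq_true.1 trM_basis x (List.mem_range.2 hx)) k (List.mem_range.2 hk)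
  simp only [Bool.and_eq_true, List.all_eq_true, List.mem_range, Nat.beq_eq] at this
  exact this.2 y hy

theorem trM_zero {n : ℕ} (hn : n < 1024) : ap (trM 0) n = n := by
  refine extN 10 (g := fun n => n) (fun u _ v _ => ap_xor _ u v) (fun _ _ _ _ => rfl) ?_ (v := n) hn
  decide +kernel

/-! ### The change of constants -/

theorem ap_shiftM (g : ℕ) {n : ℕ} (hn : n < 1024) : ap (shiftM g) n = n ^^^ bn (eta g n) 1 :=
  ap_imgs (f := fun i => Nat.xor i (bn (eta g i) 1))
    (by show 0 ^^^ bn (eta g 0) 1 = 0; rw [eta_zero]; rfl)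
    (fun u v => by
      show (u ^^^ v) ^^^ bn (eta g (u ^^^ v)) 1 = (u ^^^ bn (eta g u) 1) ^^^ (v ^^^ bn (eta g v) 1)
      rw [eta_xor, bn_xor]; ac_rfl) hn

theorem shift_lt (g : ℕ) {n : ℕ} (hn : n < 1024) : ap (shiftM g) n < 1024 := by
  rw [ap_shiftM g hn]
  refine Nat.xor_lt_two_pow (n := 10) hn ?_
  cases eta g n <;> simp [bn]

theorem shift_div (g : ℕ) {n : ℕ} (hn : n < 1024) : ap (shiftM g) n / 32 = n / 32 := by
  rw [ap_shiftM g hn, div32_xor]
  cases eta g n <;> simp [bn]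

theorem shift_invol (g : ℕ) {n : ℕ} (hn : n < 1024) : ap (shiftM g) (ap (shiftM g) n) = n := by
  rw [ap_shiftM g (shift_lt g hn)]
  have : eta g (ap (shiftM g) n) = eta g n := by
    show par (Nat.land g (ap (shiftM g) n / 32)) = par (Nat.land g (n / 32))
    rw [shift_div g hn]
  rw [this, ap_shiftM g hn, Nat.xor_assoc, Nat.xor_self, Nat.xor_zero]

theorem shift_trM (g : ℕ) {x : ℕ} (hx : x < 16) {n : ℕ} (hn : n < 1024) :
    ap (shiftM g) (ap (trM x) n) = ap (trM x) (ap (shiftM g) n) := by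
  have he : eta g (ap (trM x) n) = eta g n := by
    show par (Nat.land g (ap (trM x) n / 32)) = par (Nat.land g (n / 32))
    rw [trM_div hx hn]
  have h1 : ∀ x < 16, ap (trM x) 1 = 1 := by decide +kernel
  rw [ap_shiftM g (trM_lt hx hn), he, ap_shiftM g hn, ap_xor]
  cases eta g n
  · simp [bn, ap_zero]
  · simp [bn, h1 x hx]

theorem shift_low (g : ℕ) {n : ℕ} (hn : n < 32) : ap (shiftM g) n = n := by
  rw [ap_shiftM g (by omega)]
  have : eta g n = false := by
    show par (Nat.land g (n / 32)) = false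
    rw [Nat.div_eq_of_lt hn, show Nat.land g 0 = 0 from Nat.and_zero g]
    rfl
  simp [this, bn]

/-! ### Rigidity -/

theorem fix_const : ((List.range 1024).all fun n => Nat.blt n 2 ||
    !((List.range 4).all fun i => Nat.beq (ap (trM (2 ^ i)) n) n)) = true := by decide +kernel

theorem const_of_fix {n : ℕ} (hn : n < 1024) (h : ∀ i < 4, ap (trM (2 ^ i)) n = n) : n < 2 := by
  have := List.all_eq_true.1 fix_const n (List.mem_range.2 hn)
  have h' : ((List.range 4).all fun i => Nat.beq (ap (trM (2 ^ i)) n) n) = true :=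
    List.all_eq_true.2 fun i hi => Nat.beq_eq ▸ h i (List.mem_range.1 hi)
  rw [h', Bool.not_true, Bool.or_false] at this
  exact of_decide_eq_true (by simpa [Nat.blt_eq] using this)

theorem aff_tab : ∀ k < 10, ∀ i < 4, Nat.xor (ap (trM (2 ^ i)) (2 ^ k)) (2 ^ k) < 32 ∧
    (k < 5 → Nat.xor (ap (trM (2 ^ i)) (2 ^ k)) (2 ^ k) < 2) := by decide +kernel

theorem lin_shift : ∀ v < 16, ∀ k < 4, ap (trM v) (2 ^ (k + 1)) = Nat.xor (2 ^ (k + 1)) (bn (v.testBit k) 1) := by
  decide +kernel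

theorem bits4 : ∀ a b c d : Bool, ∃ v < 16, v.testBit 0 = a ∧ v.testBit 1 = b ∧ v.testBit 2 = c ∧
    v.testBit 3 = d := by decide +kernel

theorem bits5 : ∀ a b c d e : Bool, ∃ g < 32, ∀ k < 5, eta g (2 ^ (k + 5)) = [a, b, c, d, e].getD k false ∧
    eta g (2 ^ k) = false := by decide +kernel

/-- **Rigidity**: a map commuting with the translations and fixing the constant function. -/
theorem rigid (M : List ℕ) (hlt : ∀ n < 1024, ap M n < 1024) (h1 : ap M 1 = 1)
    (hc : ∀ i < 4, ∀ n < 1024, ap M (ap (trM (2 ^ i)) n) = ap (trM (2 ^ i)) (ap M n)) :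
    ∃ v < 16, ∃ g < 32, ∀ n < 1024, ap (trM v) (ap M n) = ap (shiftM g) n := by
  have hp : ∀ k < 10, 2 ^ k < 1024 := fun k hk => Nat.pow_lt_pow_right (m := k) (n := 10) (by norm_num) hk
  have hp4 : ∀ i < 4, 2 ^ i < 16 := fun i hi => Nat.pow_lt_pow_right (m := i) (n := 4) (by norm_num) hi
  have low : ∀ d < 2, ap M d = d := by
    intro d hd
    interval_cases d
    · exact ap_zero M
    · exact h1
  have hfix : ∀ k < 10, ∀ (P : List ℕ), (∀ i < 4, ap P (ap (trM (2 ^ i)) (2 ^ k)) = ap (trM (2 ^ i)) (ap P (2 ^ k))) →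
      ap P (2 ^ k) < 1024 → (∀ i < 4, ap P (Nat.xor (ap (trM (2 ^ i)) (2 ^ k)) (2 ^ k)) =
        Nat.xor (ap (trM (2 ^ i)) (2 ^ k)) (2 ^ k)) → ap P (2 ^ k) ^^^ 2 ^ k < 2 := by
    intro k hk P hP hl ha
    refine const_of_fix (Nat.xor_lt_two_pow (n := 10) hl (hp k hk)) fun i hi => ?_
    have e : ap (trM (2 ^ i)) (2 ^ k) = 2 ^ k ^^^ Nat.xor (ap (trM (2 ^ i)) (2 ^ k)) (2 ^ k) :=
      xor_back (ap (trM (2 ^ i)) (2 ^ k)) (2 ^ k)
    rw [ap_xor, ← hP i hi, e, ap_xor P, ha i hi]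
    generalize Nat.xor (ap (trM (2 ^ i)) (2 ^ k)) (2 ^ k) = d
    rw [Nat.xor_comm (2 ^ k) d, Nat.xor_assoc, ← Nat.xor_assoc d, Nat.xor_self, Nat.zero_xor]
  have hlin : ∀ k < 4, ap M (2 ^ (k + 1)) ^^^ 2 ^ (k + 1) < 2 := fun k hk =>
    hfix (k + 1) (by omega) M (fun i hi => hc i hi _ (hp _ (by omega))) (hlt _ (hp _ (by omega)))
      fun i hi => low _ ((aff_tab (k + 1) (by omega) i hi).2 (by omega))
  obtain ⟨v, hv, v0, v1, v2, v3⟩ := bits4 ((ap M 2 ^^^ 2) == 1) ((ap M 4 ^^^ 4) == 1) ((ap M 8 ^^^ 8) == 1)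
    ((ap M 16 ^^^ 16) == 1)
  let P := comp (trM v) M
  have hP : ∀ n, ap P n = ap (trM v) (ap M n) := fun n => ap_comp _ _ n
  have hP5 : ∀ n < 32, ap P n = n := by
    intro n hn
    refine extN 5 (g := fun n => n) (fun u _ v _ => ap_xor P u v) (fun _ _ _ _ => rfl) (fun k hk => ?_) (v := n) hn
    rw [hP]
    rcases k with _ | k
    · rw [pow_zero, h1]
      exact (by decide +kernel : ∀ x < 16, ap (trM x) 1 = 1) v hv
    · have hk4 : k < 4 := by omega
      have hb : v.testBit k = ((ap M (2 ^ (k + 1)) ^^^ 2 ^ (k + 1)) == 1) := by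
        interval_cases k
        exacts [v0, v1, v2, v3]
      have e : ap M (2 ^ (k + 1)) = 2 ^ (k + 1) ^^^ bn (v.testBit k) 1 := by
        rw [hb]
        rcases (by have := hlin k hk4; omega :
          (ap M (2 ^ (k + 1)) ^^^ 2 ^ (k + 1)) = 0 ∨ (ap M (2 ^ (k + 1)) ^^^ 2 ^ (k + 1)) = 1) with h | h
        · rw [h]; simpa [bn] using Nat.xor_eq_zero_iff.1 h
        · rw [h]
          exact (xor_back _ _).trans (congrArg (2 ^ (k + 1) ^^^ ·) h)
      rw [e, ap_xor, lin_shift v hv k hk4]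
      have h11 : ap (trM v) (bn (v.testBit k) 1) = bn (v.testBit k) 1 := by
        cases v.testBit k
        · exact ap_zero _
        · exact (by decide +kernel : ∀ x < 16, ap (trM x) 1 = 1) v hv
      rw [h11]
      show ((2 : ℕ) ^ (k + 1) ^^^ bn (v.testBit k) 1) ^^^ bn (v.testBit k) 1 = 2 ^ (k + 1)
      rw [Nat.xor_assoc, Nat.xor_self, Nat.xor_zero]
  have hPlt : ∀ n < 1024, ap P n < 1024 := fun n hn => by rw [hP]; exact trM_lt hv (hlt n hn)
  have hPc : ∀ i < 4, ∀ n < 1024, ap P (ap (trM (2 ^ i)) n) = ap (trM (2 ^ i)) (ap P n) := fun i hi n hn => by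
    rw [hP, hP, hc i hi n hn, trM_mul hv (hp4 i hi) (hlt n hn), trM_mul (hp4 i hi) hv (hlt n hn), Nat.xor_comm]
  have hquad : ∀ k < 10, ap P (2 ^ k) ^^^ 2 ^ k < 2 := fun k hk =>
    hfix k hk P (fun i hi => hPc i hi _ (hp k hk)) (hPlt _ (hp k hk)) fun i hi => hP5 _ (aff_tab k hk i hi).1
  obtain ⟨g, hg, hgb⟩ := bits5 ((ap P 32 ^^^ 32) == 1) ((ap P 64 ^^^ 64) == 1) ((ap P 128 ^^^ 128) == 1)
    ((ap P 256 ^^^ 256) == 1) ((ap P 512 ^^^ 512) == 1)
  refine ⟨v, hv, g, hg, fun n hn => ?_⟩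
  rw [← hP]
  refine ap_ext (fun k hk => ?_) hn
  rw [ap_shiftM g (hp k hk)]
  have e : ap P (2 ^ k) = 2 ^ k ^^^ bn ((ap P (2 ^ k) ^^^ 2 ^ k) == 1) 1 := by
    rcases (by have := hquad k hk; omega : (ap P (2 ^ k) ^^^ 2 ^ k) = 0 ∨ (ap P (2 ^ k) ^^^ 2 ^ k) = 1) with h | h
    · rw [h]; simpa [bn] using Nat.xor_eq_zero_iff.1 h
    · rw [h]
      exact (xor_back _ _).trans (congrArg (2 ^ k ^^^ ·) h)
  by_cases hk5 : k < 5
  · rw [(hgb k hk5).2, hP5 _ (Nat.pow_lt_pow_right (m := k) (n := 5) (by norm_num) hk5)]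
    simp [bn]
  · obtain ⟨j, rfl⟩ : ∃ j, k = j + 5 := ⟨k - 5, by omega⟩
    rw [(hgb j (by omega)).1, e]
    have hj : j < 5 := by omega
    interval_cases j <;> rfl

/-! ### The Levi maps -/

theorem levM_split : ((List.range 5).all fun j => (List.range 32).all fun g =>
    comp (levM j 0) (shiftM g) == levM j g) = true := by decide +kernel

theorem levM_eq {j g : ℕ} (hj : j < 5) (hg : g < 32) {n : ℕ} :
    ap (levM j g) n = ap (levM j 0) (ap (shiftM g) n) := by
  rw [← beq_iff_eq.1 (List.all_eq_true.1 (List.all_eq_true.1 levM_split j (List.mem_range.2 hj)) g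
    (List.mem_range.2 hg)), ap_comp]

theorem levM_basis : ((List.range 5).all fun j => (List.range 10).all fun k =>
    Nat.blt (ap (levM j 0) (2 ^ k)) 1024 && Nat.beq (ap (levM j 0) (ap (levM j 0) (2 ^ k))) (2 ^ k) &&
    ((!Nat.blt k 5) || Nat.blt (ap (levM j 0) (2 ^ k)) 32) &&
    (List.range 16).all fun x => Nat.beq (ap (levM j 0) (ap (trM x) (2 ^ k)))
      (ap (trM (levS j x)) (ap (levM j 0) (2 ^ k)))) = true := by decide +kernel

theorem levM_invol {j : ℕ} (hj : j < 5) {n : ℕ} (hn : n < 1024) : ap (levM j 0) (ap (levM j 0) n) = n := by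
  refine extN 10 (f := fun n => ap (levM j 0) (ap (levM j 0) n)) (g := fun n => n)
    (fun u _ v _ => by simp only [ap_xor]) (fun _ _ _ _ => rfl) (fun k hk => ?_) (v := n) hn
  have := List.all_eq_true.1 (List.all_eq_true.1 levM_basis j (List.mem_range.2 hj)) k (List.mem_range.2 hk)
  simp only [Bool.and_eq_true, Nat.beq_eq] at this
  exact this.1.1.2

theorem levM_trM {j : ℕ} (hj : j < 5) {x : ℕ} (hx : x < 16) {n : ℕ} (hn : n < 1024) :
    ap (levM j 0) (ap (trM x) n) = ap (trM (levS j x)) (ap (levM j 0) n) := by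
  refine extN 10 (f := fun n => ap (levM j 0) (ap (trM x) n))
    (g := fun n => ap (trM (levS j x)) (ap (levM j 0) n))
    (fun u _ v _ => by simp only [ap_xor]) (fun u _ v _ => by simp only [ap_xor]) (fun k hk => ?_) (v := n) hn
  have := List.all_eq_true.1 (List.all_eq_true.1 levM_basis j (List.mem_range.2 hj)) k (List.mem_range.2 hk)
  simp only [Bool.and_eq_true, List.all_eq_true, List.mem_range, Nat.beq_eq] at this
  exact this.2 x hx

theorem levM_lt {j g : ℕ} (hj : j < 5) (hg : g < 32) {n : ℕ} (hn : n < 1024) : ap (levM j g) n < 1024 := by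
  rw [levM_eq hj hg, ap_levM j 0 (shift_lt g hn)]
  refine Nat.xor_lt_two_pow (n := 10) (pull_lt _ _) ?_
  cases eta 0 (ap (shiftM g) n) <;> simp [bn]

theorem levS_lt {j x : ℕ} (hj : j < 5) (hx : x < 16) : levS j x < 16 := by
  have := List.all_eq_true.1 (List.all_eq_true.1 levS_ok j (List.mem_range.2 hj)) x (List.mem_range.2 hx)
  simp only [Bool.and_eq_true, Nat.blt_eq] at this
  exact this.1

/-- The composite of the Levi maps along a list, the first letter last. -/
def mW (g : ℕ → ℕ) : List ℕ → List ℕ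
  | [] => idM
  | j :: w => comp (levM j (g j)) (mW g w)

theorem mW_lt (g : ℕ → ℕ) (hg : ∀ j, g j < 32) : ∀ {w : List ℕ}, (∀ j ∈ w, j < 5) → ∀ {n : ℕ}, n < 1024 →
    ap (mW g w) n < 1024
  | [], _, n, hn => by
    rw [show ap (mW g []) n = ap idM n from rfl,
      show ap idM n = ap (trM 0) n from ap_ext (by decide +kernel) hn, trM_zero hn]
    exact hn
  | j :: w, hw, n, hn => by
    rw [show mW g (j :: w) = comp (levM j (g j)) (mW g w) from rfl, ap_comp]
    exact levM_lt (hw j List.mem_cons_self) (hg j) (mW_lt g hg (fun i hi => hw i (List.mem_cons_of_mem _ hi)) hn)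

theorem mW_low (g : ℕ → ℕ) (hg : ∀ j, g j < 32) : ∀ {w : List ℕ}, (∀ j ∈ w, j < 5) → ∀ n < 32,
    ap (mW g w) n = ap (mW (fun _ => 0) w) n ∧ ap (mW g w) n < 32
  | [], _, n, hn => by
    refine ⟨rfl, ?_⟩
    rw [show ap (mW g []) n = ap idM n from rfl,
      show ap idM n = ap (trM 0) n from ap_ext (by decide +kernel) (by omega), trM_zero (by omega)]
    exact hn
  | j :: w, hw, n, hn => by
    have hj := hw j List.mem_cons_self
    obtain ⟨e, hl⟩ := mW_low g hg (fun i hi => hw i (List.mem_cons_of_mem _ hi)) n hn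
    show ap (comp (levM j (g j)) (mW g w)) n = ap (comp (levM j 0) (mW (fun _ => 0) w)) n ∧
      ap (comp (levM j (g j)) (mW g w)) n < 32
    rw [ap_comp, ap_comp, levM_eq hj (hg j), shift_low _ hl, ← e]
    refine ⟨rfl, ?_⟩
    refine lt_of_eq_of_lt (extN 5 (g := fun n => Nat.land (ap (levM j 0) n) 31)
      (fun u _ v _ => ap_xor _ u v) (fun u _ v _ => ?_) (fun k hk => ?_) (v := ap (mW g w) n) hl)
      (Nat.lt_succ_of_le Nat.and_le_right)
    · show (ap (levM j 0) (u ^^^ v)) &&& 31 = (_ &&& 31) ^^^ (_ &&& 31)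
      rw [ap_xor, Nat.and_xor_distrib_right]
    · have := List.all_eq_true.1 (List.all_eq_true.1 levM_basis j (List.mem_range.2 hj)) k
        (List.mem_range.2 (by omega))
      simp only [Bool.and_eq_true, Bool.or_eq_true, Nat.blt_eq, Bool.not_eq_true', Nat.beq_eq] at this
      have h32 : ap (levM j 0) (2 ^ k) < 32 := by
        rcases this.1.2 with h | h
        · exact absurd h (by simp [Nat.blt_eq, hk])
        · exact h
      show _ = _ &&& 31
      exact (Nat.mod_eq_of_lt h32).symm.trans (Nat.and_two_pow_sub_one_eq_mod _ 5).symm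

theorem mW_length (g : ℕ → ℕ) : ∀ w : List ℕ, (mW g w).length = 10
  | [] => rfl
  | j :: w => by show ((mW g w).map _).length = 10; rw [List.length_map, mW_length g w]

theorem mW_idM {g : ℕ → ℕ} {w : List ℕ} (h : ∀ k < 10, ap (mW g w) (2 ^ k) = 2 ^ k) : mW g w = idM := by
  refine List.ext_getElem (by rw [mW_length]; rfl) fun k h1 h2 => ?_
  have hk : k < 10 := by rwa [mW_length] at h1
  rw [← List.getD_eq_getElem _ 0 h1, ← List.getD_eq_getElem _ 0 h2, ← ap_two_pow, ← ap_two_pow, h k hk]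
  exact ((by decide +kernel : ∀ k < 10, ap idM (2 ^ k) = 2 ^ k) k hk).symm

theorem trans_low : ∀ x < 16, (∀ k < 5, ap (trM x) (2 ^ k) = 2 ^ k) → x = 0 := by decide +kernel

end Cfsg.Agent.Co2Recog.NA
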