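import Cfsg.Agent.Lib.Co2Recog.NA.Abel
import Cfsg.Agent.Lib.Co2Recog.NA.Rigid
import Cfsg.Agent.Lib.Co2Recog.Elt

/-!
Coordinates on the centraliser of the elementary subgroup as functions on sixteen points, in which `Q` acts by
translations and lifts of the five Levi transvections act by the Levi maps.
-/

set_option autoImplicit false
set_option maxRecDepth 100000

namespace Cfsg.Agent.Co2Recog.NA

open Cfsg.Agent.ThRec.Eight (act ap ap_xor ap_zero act_xor act_append)

theorem coord_congr {F H : ℕ → Bool} (h : ∀ z < 16, F z = H z) : coord F = coord H := by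
  simp only [coord, h 0 (by norm_num), h 1 (by norm_num), h 2 (by norm_num), h 3 (by norm_num),
    h 4 (by norm_num), h 5 (by norm_num), h 6 (by norm_num), h 8 (by norm_num), h 9 (by norm_num),
    h 10 (by norm_num)]

theorem Bv_symm (u v : ℕ) : Bv u v = Bv v u := by
  simp only [Bv, show Nat.xor u v = Nat.xor v u from Nat.xor_comm u v]
  cases qv (Nat.xor v u) <;> cases qv u <;> cases qv v <;> rfl

theorem form_ok : ((List.range 1024).all fun n => Nat.blt (formN n) 64 && validF (formN n) &&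
    Nat.beq (Nat.land (formN n) 31) (Nat.div n 32) && (val n 0 == n.testBit 0) &&
    (List.range 4).all fun i => (List.range 16).all fun z =>
      val n (Nat.xor z (2 ^ i)) == ((val n z ^^ n.testBit (i + 1)) ^^ par (Nat.land (frow (formN n) i) z))) =
    true := by decide +kernel

theorem num_of : ∀ b < 64, validF b = true → ∀ c l0 l1 l2 l3 : Bool,
    ∃ n < 1024, formN n = b ∧ n / 32 = b % 32 ∧ n.testBit 0 = c ∧ n.testBit 1 = l0 ∧ n.testBit 2 = l1 ∧
      n.testBit 3 = l2 ∧ n.testBit 4 = l3 := by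
  intro b hb hv c l0 l1 l2 l3
  refine ⟨bn c 1 ^^^ bn l0 2 ^^^ bn l1 4 ^^^ bn l2 8 ^^^ bn l3 16 ^^^ (b % 32) * 32, ?_⟩
  revert b c l0 l1 l2 l3
  decide +kernel

theorem valid_zero : ∀ b < 64, validF b = true → b % 32 = 0 → b = 0 := by decide +kernel

theorem par_zero : ∀ i < 16, (∀ z < 16, par (Nat.land i z) = false) → i = 0 := by decide +kernel

theorem low_fn : ∀ c : Bool, ∀ i < 16, bn c 1 ^^^ 2 * i < 32 ∧ ∀ z < 16,
    val (bn c 1 ^^^ 2 * i) z = (c ^^ par (Nat.land i z)) := by decide +kernel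

theorem low_split : ∀ n < 32, ∃ c : Bool, ∃ i < 16, bn c 1 ^^^ 2 * i = n := by decide +kernel

theorem cw_levS : ∀ j < 5, ∀ z < 16, act sX (cw j) (fz z) = fz (levS j z) := by decide +kernel

theorem fz_step : ∀ z < 16, z = 0 ∨ ∃ i < 4, ∃ r < z, z = Nat.xor r (2 ^ i) := by decide +kernel

variable {G : Type*} [Group G] {t : G} {Q : Subgroup G} {K : Coords t Q} {y : G}

theorem AA_inv (P : Pair t Q K y) (hw : ∀ k, tv k ∈ Sp63) {a : G} (ha : a ∈ AA K) : a⁻¹ = a :=
  inv_eq_of_mul_eq_one_right (P.AA_sq hw ha)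

/-- Elements over permutations commuting with the first transvection normalise the centraliser. -/
theorem conj_AA (P : Pair t Q K y) {h : G} (hh : h ∈ Subgroup.centralizer {t})
    (hc : K.π ⟨h, hh⟩ * tv 0 = tv 0 * K.π ⟨h, hh⟩) : h ∈ Subgroup.normalizer (AA K : Set G) := by
  have main : ∀ {h : G} (hh : h ∈ Subgroup.centralizer {t}), K.π ⟨h, hh⟩ * tv 0 = tv 0 * K.π ⟨h, hh⟩ →
      ∀ a ∈ AA K, h⁻¹ * a * h ∈ AA K := by
    intro h hh hc a ha
    refine mem_AA.2 ⟨Subgroup.mem_centralizer_singleton_iff.1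
      (mul_mem (mul_mem (inv_mem hh) (AA_cent ha)) hh), fun e he hW => ?_⟩
    have he' := Setup.na_conj P.S hh he
    have hz : h * y * h⁻¹ ∈ Subgroup.centralizer {t} := mul_mem (mul_mem hh P.mem) (inv_mem hh)
    have hπ : K.π ⟨h * y * h⁻¹, hz⟩ = tv 0 := by
      rw [show (⟨h * y * h⁻¹, hz⟩ : ↥(Subgroup.centralizer ({t} : Set G))) =
        ⟨h, hh⟩ * ⟨y, P.mem⟩ * ⟨h, hh⟩⁻¹ from rfl, map_mul, map_mul, map_inv, P.img, hc, mul_inv_cancel_right]
    have h1 := K.act ⟨h * y * h⁻¹, hz⟩ [0] (by rw [hπ]; exact mul_one _) _ he'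
    simp only at h1
    obtain ⟨d, hd⟩ := Coord.eq_of_c P.S K (Setup.na_conj P.S P.mem he) he (by
      rw [P.yact he]; exact Nat.eq_of_beq_eq_true ((w_fix _ (K.c_lt e he)).symm.trans hW))
    rw [show h * y * h⁻¹ * (h * e * h⁻¹) * (h * y * h⁻¹)⁻¹ = h * (y * e * y⁻¹) * h⁻¹ by group, hd,
      show h * (e * tw t d) * h⁻¹ = (h * e * h⁻¹) * (h * tw t d * h⁻¹) by group,
      Setup.conj_tw P.S (Subgroup.mem_centralizer_singleton_iff.1 hh), K.c_mul _ he' _ (Setup.tw_mem P.S d),
      Coord.c_tw P.S K, Nat.xor_zero] at h1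
    have hW' : inW (K.c (h * e * h⁻¹)) = true := by
      rw [w_fix _ (K.c_lt _ he')]
      show Nat.beq (ap sg0 (K.c (h * e * h⁻¹))) (K.c (h * e * h⁻¹)) = true
      rw [show ap sg0 (K.c (h * e * h⁻¹)) = K.c (h * e * h⁻¹) from h1.symm]
      exact Nat.beq_refl _
    calc h⁻¹ * a * h * e = h⁻¹ * (a * (h * e * h⁻¹)) * h := by group
      _ = h⁻¹ * ((h * e * h⁻¹) * a) * h := by rw [(mem_AA.1 ha).2 _ he' hW']
      _ = e * (h⁻¹ * a * h) := by group
  refine Subgroup.mem_normalizer_iff.2 fun a => ⟨fun ha => ?_, fun ha => ?_⟩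
  · have hc' : K.π (⟨h, hh⟩⁻¹) * tv 0 = tv 0 * K.π (⟨h, hh⟩⁻¹) := by
      rw [map_inv]
      exact (Commute.inv_left hc).eq
    have := main (inv_mem hh) hc' a ha
    rwa [inv_inv] at this
  · have := main hh hc _ ha
    rwa [show h⁻¹ * (h * a * h⁻¹) * h = a by group] at this

theorem q_conj (P : Pair t Q K y) {q : G} (hq : q ∈ Q) {a : G} (ha : a ∈ AA K) : q * a * q⁻¹ ∈ AA K := by
  refine (Subgroup.mem_normalizer_iff.1 (conj_AA P (P.S.le hq) ?_) a).1 ha
  rw [show K.π ⟨q, P.S.le hq⟩ = 1 from (K.ker _).2 hq, one_mul, mul_one]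

/-- A functional on the centraliser not vanishing at `t`. -/
theorem exists_chi [Finite G] (P : Pair t Q K y) (hw : ∀ k, tv k ∈ Sp63) :
    ∃ χ : G → Bool, χ t = true ∧ ∀ a ∈ AA K, ∀ b ∈ AA K, χ (a * b) = (χ a ^^ χ b) := by
  classical
  obtain ⟨M, -, hM⟩ := Finite.exists_le_maximal (α := Subgroup G) (p := fun M => M ≤ AA K ∧ t ∉ M) (a := ⊥)
    ⟨bot_le, fun h => Setup.na_ne P.S (Subgroup.mem_bot.1 h)⟩
  have htA : t ∈ AA K := E_le_AA P.S (Setup.na_mem P.S) (by rw [Coord.c_t P.S K]; rfl)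
  have key : ∀ a ∈ AA K, a ∉ M → a * t ∈ M := by
    intro a ha haM
    let M' : Subgroup G :=
      { carrier := {x | x ∈ M ∨ a * x ∈ M}
        one_mem' := Or.inl M.one_mem
        mul_mem' := by
          intro x z hx hz
          have mx : x ∈ AA K := hx.elim (fun h => hM.1.1 h) (fun h => by
            simpa using mul_mem (inv_mem ha) (hM.1.1 h))
          have mz : z ∈ AA K := hz.elim (fun h => hM.1.1 h) (fun h => by
            simpa using mul_mem (inv_mem ha) (hM.1.1 h))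
          rcases hx with hx | hx <;> rcases hz with hz | hz
          · exact Or.inl (M.mul_mem hx hz)
          · refine Or.inr ?_
            rw [show a * (x * z) = x * (a * z) by rw [← mul_assoc, P.AA_comm hw ha mx, mul_assoc]]
            exact M.mul_mem hx hz
          · refine Or.inr ?_
            rw [← mul_assoc]
            exact M.mul_mem hx hz
          · refine Or.inl ?_
            rw [show x * z = (a * x) * (a * z) by
              rw [mul_assoc a x, ← mul_assoc x a z, P.AA_comm hw mx ha, mul_assoc a x z, ← mul_assoc a a,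
                P.AA_sq hw ha, one_mul]]
            exact M.mul_mem hx hz
        inv_mem' := by
          intro x hx
          have mx : x ∈ AA K := hx.elim (fun h => hM.1.1 h) (fun h => by
            simpa using mul_mem (inv_mem ha) (hM.1.1 h))
          show x⁻¹ ∈ M ∨ a * x⁻¹ ∈ M
          rw [AA_inv P hw mx]
          exact hx }
    have hle : M ≤ M' := fun x hx => Or.inl hx
    have haM' : a ∈ M' := Or.inr (by rw [P.AA_sq hw ha]; exact M.one_mem)
    have hA : M' ≤ AA K := fun x hx => hx.elim (fun h => hM.1.1 h) (fun h => by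
      simpa using mul_mem (inv_mem ha) (hM.1.1 h))
    by_contra hat
    have htM : t ∉ M' := fun h => h.elim hM.1.2 hat
    exact haM (hM.2 ⟨hA, htM⟩ hle haM')
  refine ⟨fun a => decide (a ∉ M), by simp [hM.1.2], fun a ha b hb => ?_⟩
  by_cases h1 : a ∈ M <;> by_cases h2 : b ∈ M
  · simp [h1, h2, M.mul_mem h1 h2]
  · have : a * b ∉ M := fun h => h2 (by simpa using M.mul_mem (M.inv_mem h1) h)
    simp [h1, h2, this]
  · have : a * b ∉ M := fun h => h1 (by simpa using M.mul_mem h (M.inv_mem h2))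
    simp [h1, h2, this]
  · have : a * b ∈ M := by
      have h3 := M.mul_mem (key a ha h1) (key b hb h2)
      rwa [show a * t * (b * t) = a * b by
        rw [mul_assoc, ← mul_assoc t b t, ← (mem_AA.1 hb).1, mul_assoc b t t, Setup.na_sq P.S, mul_one]] at h3
    simp [h1, h2, this]

/-- Coordinates on the centraliser as functions on the sixteen points, `Q` acting by translations. -/
structure Idx (t : G) (Q : Subgroup G) (K : Coords t Q) (idx : G → ℕ) : Prop where
  lt : ∀ a ∈ AA K, idx a < 1024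
  mul : ∀ a ∈ AA K, ∀ b ∈ AA K, idx (a * b) = idx a ^^^ idx b
  inj : ∀ a ∈ AA K, idx a = 0 → a = 1
  surj : ∀ n < 1024, ∃ a ∈ AA K, idx a = n
  one_t : idx t = 1
  form : ∀ a ∈ AA K, ∀ b, Frm K a b → validF b = true → idx a / 32 = b % 32
  transl : ∀ q ∈ Q, ∀ a ∈ AA K, idx (q * a * q⁻¹) = ap (trM (xc (K.c q))) (idx a)

/-- **The coordinates exist.** -/
theorem exists_idx [Finite G] (P : Pair t Q K y) (hw : ∀ k, tv k ∈ Sp63) :
    ∃ idx : G → ℕ, Idx t Q K idx := by
  classical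
  obtain ⟨χ, hχt, hχ⟩ := exists_chi P hw
  have hχd : ∀ d, χ (tw t d) = d := by
    intro d
    cases d
    · have := hχ 1 (one_mem _) 1 (one_mem _)
      rw [one_mul, Bool.xor_self] at this
      exact this
    · exact hχt
  choose qz hqz hqzc using fun z : ℕ => K.c_surj (fz (z % 16)) (fz_facts _ (Nat.mod_lt _ (by norm_num))).1
  have hz16 : ∀ z < 16, K.c (qz z) = fz z := fun z hz => by rw [hqzc, Nat.mod_eq_of_lt hz]
  have htw : ∀ d, tw t d ∈ AA K := fun d =>
    E_le_AA P.S (Setup.tw_mem P.S d) (by rw [Coord.c_tw P.S K]; rfl)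
  have hE : ∀ e ∈ Q, inW (K.c e) = true → ∀ q ∈ Q, χ (q * e * q⁻¹) = (χ e ^^ Bv (K.c q) (K.c e)) := by
    intro e he hW q hq
    rw [Coord.rule P.S K hq he, hχ e (E_le_AA P.S he hW) _ (htw _), hχd]
  have hconj : ∀ q ∈ Q, ∀ q' ∈ Q, xc (K.c q) = xc (K.c q') → ∀ a ∈ AA K, q * a * q⁻¹ = q' * a * q'⁻¹ := by
    intro q hq q' hq' he a ha
    have hm : q'⁻¹ * q ∈ Q := Q.mul_mem (Q.inv_mem hq') hq
    have hW : inW (K.c (q'⁻¹ * q)) = true := by
      rw [w_xc _ (K.c_lt _ hm), K.c_mul _ (Q.inv_mem hq') _ hq, Coord.c_inv P.S K hq', xc_xor, he,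
        Nat.xor_self]
      rfl
    calc q * a * q⁻¹ = q' * ((q'⁻¹ * q) * a) * q⁻¹ := by group
      _ = q' * (a * (q'⁻¹ * q)) * q⁻¹ := by rw [(mem_AA.1 ha).2 _ hm hW]
      _ = q' * a * q'⁻¹ := by group
  let Φ : G → ℕ → Bool := fun a z => χ (qz z * a * (qz z)⁻¹)
  let idx : G → ℕ := fun a => coord (Φ a)
  have hmul : ∀ a ∈ AA K, ∀ b ∈ AA K, idx (a * b) = idx a ^^^ idx b := by
    intro a ha b hb
    rw [← coord_xor]
    refine coord_congr fun z _ => ?_
    show χ (qz z * (a * b) * (qz z)⁻¹) = _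
    rw [show qz z * (a * b) * (qz z)⁻¹ = (qz z * a * (qz z)⁻¹) * (qz z * b * (qz z)⁻¹) by group,
      hχ _ (q_conj P (hqz z) ha) _ (q_conj P (hqz z) hb)]
  have hval : ∀ a ∈ AA K, ∀ b, Frm K a b → validF b = true →
      idx a / 32 = b % 32 ∧ ∀ z < 16, Φ a z = val (idx a) z := by
    intro a ha b hf hv
    have hp4 : ∀ i < 4, 2 ^ i < 16 := fun i hi => Nat.pow_lt_pow_right (m := i) (n := 4) (by norm_num) hi
    let e : ℕ → G := fun i => qz (2 ^ i) * a * (qz (2 ^ i))⁻¹ * a⁻¹
    have heQ : ∀ i, e i ∈ Q := fun i => by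
      show qz (2 ^ i) * a * (qz (2 ^ i))⁻¹ * a⁻¹ ∈ Q
      rw [show qz (2 ^ i) * a * (qz (2 ^ i))⁻¹ * a⁻¹ = qz (2 ^ i) * (a * (qz (2 ^ i))⁻¹ * a⁻¹) by group]
      exact Q.mul_mem (hqz _) (Setup.na_conj P.S (AA_cent ha) (Q.inv_mem (hqz _)))
    have hec : ∀ i < 4, K.c (e i) = ew (frow b i) := by
      intro i hi
      show K.c (qz (2 ^ i) * a * (qz (2 ^ i))⁻¹ * a⁻¹) = _
      rw [show qz (2 ^ i) * a * (qz (2 ^ i))⁻¹ * a⁻¹ = qz (2 ^ i) * (a * (qz (2 ^ i))⁻¹ * a⁻¹) by group,
        K.c_mul _ (hqz _) _ (Setup.na_conj P.S (AA_cent ha) (Q.inv_mem (hqz _))), hf.2 _ (Q.inv_mem (hqz _)),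
        Coord.c_inv P.S K (hqz _), hz16 _ (hp4 i hi), Nat.xor_comm]
      exact (alpha_read b hf.1 i hi).1
    have heW : ∀ i < 4, inW (K.c (e i)) = true := fun i hi => by
      rw [hec i hi]; exact (ew_mem _ (alpha_read b hf.1 i hi).2).1
    obtain ⟨n, hn, hnb, hnd, hn0, l0, l1, l2, l3⟩ := num_of b hf.1 hv (χ a) (χ (e 0)) (χ (e 1)) (χ (e 2)) (χ (e 3))
    have hl : ∀ i < 4, n.testBit (i + 1) = χ (e i) := by
      intro i hi
      interval_cases i
      exacts [l0, l1, l2, l3]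
    have htab := List.all_eq_true.1 form_ok n (List.mem_range.2 hn)
    simp only [Bool.and_eq_true, List.all_eq_true, List.mem_range, beq_iff_eq, Nat.beq_eq] at htab
    obtain ⟨⟨-, h0⟩, hstep⟩ := htab
    have main : ∀ z < 16, Φ a z = val n z := by
      intro z
      induction z using Nat.strong_induction_on with
      | _ z ih =>
        intro hz
        rcases fz_step z hz with rfl | ⟨i, hi, r, hr, rfl⟩
        · rw [h0, hn0]
          show χ (qz 0 * a * (qz 0)⁻¹) = χ a
          rw [hconj _ (hqz 0) 1 Q.one_mem (by rw [hz16 0 (by norm_num), Coord.c_one P.S K]; rfl) a ha, one_mul,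
            inv_one, mul_one]
        · have hr16 : r < 16 := lt_trans hr hz
          rw [hstep i hi r hr16, ← ih r hr hr16, hl i hi, hnb]
          show χ (qz (Nat.xor r (2 ^ i)) * a * (qz (Nat.xor r (2 ^ i)))⁻¹) = _
          rw [hconj _ (hqz _) (qz r * qz (2 ^ i)) (Q.mul_mem (hqz _) (hqz _))
            (by rw [hz16 _ hz, K.c_mul _ (hqz _) _ (hqz _), hz16 r hr16, hz16 _ (hp4 i hi), ← fz_xor]; rfl) a ha,
            show qz r * qz (2 ^ i) * a * (qz r * qz (2 ^ i))⁻¹ =
              (qz r * e i * (qz r)⁻¹) * (qz r * a * (qz r)⁻¹) by simp only [e]; group,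
            hχ _ (q_conj P (hqz r) (E_le_AA P.S (heQ i) (heW i hi))) _ (q_conj P (hqz r) ha),
            hE _ (heQ i) (heW i hi) _ (hqz r), hec i hi, hz16 r hr16, Bv_symm,
            w_dual _ (alpha_read b hf.1 i hi).2 r hr16]
          show _ = ((χ (qz r * a * (qz r)⁻¹) ^^ χ (e i)) ^^ par (Nat.land (frow b i) r))
          cases χ (qz r * a * (qz r)⁻¹) <;> cases χ (e i) <;> cases par (Nat.land (frow b i) r) <;> rfl
    have hidx : idx a = n := by
      rw [show idx a = coord (val n) from coord_congr main, coord_fn hn]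
    rw [hidx]
    exact ⟨hnd, main⟩
  have hlow : ∀ e ∈ Q, inW (K.c e) = true → ∀ i < 16, K.c e = ew i → idx e = bn (χ e) 1 ^^^ 2 * i := by
    intro e he hW i hi hc
    have hl := low_fn (χ e) i hi
    refine Eq.trans (coord_congr fun z hz => ?_) (coord_fn (lt_trans hl.1 (by norm_num)))
    show χ (qz z * e * (qz z)⁻¹) = _
    rw [hE e he hW _ (hqz z), hl.2 z hz, hc, hz16 z hz, Bv_symm, w_dual i hi z hz]
  have ht1 : idx t = 1 := by
    rw [hlow t (Setup.na_mem P.S) (by rw [Coord.c_t P.S K]; rfl) 0 (by norm_num)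
      (by rw [Coord.c_t P.S K]; rfl), hχt]
    rfl
  refine ⟨idx, fun a _ => coord_lt _, hmul, ?_, ?_, ht1, fun a ha b hf hv => (hval a ha b hf hv).1, ?_⟩
  · intro a ha h0
    obtain ⟨b, hf, hv⟩ := P.frm_ok hw ha
    have h32 := (hval a ha b hf hv).1
    rw [h0, Nat.zero_div] at h32
    obtain rfl := valid_zero b hf.1 hv h32.symm
    have hQ := mem_Q_of_frm (K := K) P.S (AA_cent ha) hf
    have hW := AA_inter P.S hQ ha
    obtain ⟨i, hi, ei⟩ := w_enum _ (K.c_lt a hQ) hW
    have h1 := hlow a hQ hW i hi ei.symm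
    rw [h0] at h1
    have key : ∀ c : Bool, ∀ i < 16, 0 = bn c 1 ^^^ 2 * i → c = false ∧ i = 0 := by decide +kernel
    obtain ⟨hc, rfl⟩ := key _ i hi h1
    rcases (K.c_ker a hQ).1 (by rw [← ei]; rfl) with e | e
    · exact e
    · rw [e, hχt] at hc
      exact Bool.noConfusion hc
  · intro n hn
    have htab := List.all_eq_true.1 form_ok n (List.mem_range.2 hn)
    simp only [Bool.and_eq_true, Nat.blt_eq, Nat.beq_eq] at htab
    obtain ⟨⟨⟨⟨hb, hv⟩, h31⟩, -⟩, -⟩ := htab
    obtain ⟨a, ha, hf⟩ := P.exists_form hw hb hv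
    have hd := (hval a ha _ hf hv).1
    rw [← Nat.and_two_pow_sub_one_eq_mod _ 5, show formN n &&& (2 ^ 5 - 1) = n / 32 from h31] at hd
    have hsmall : idx a ^^^ n < 32 := by
      have : (idx a ^^^ n) / 32 = 0 := by rw [div32_xor, hd, Nat.xor_self]
      omega
    obtain ⟨c, i, hi, hci⟩ := low_split _ hsmall
    obtain ⟨e, he, hec, hW⟩ := ew_coord (K := K) P.S hi
    have h1 := hlow e he hW i hi hec
    have heA := E_le_AA P.S he hW
    refine ⟨a * (e * tw t (χ e ^^ c)), mul_mem ha (mul_mem heA (htw _)), ?_⟩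
    rw [hmul _ ha _ (mul_mem heA (htw _)), hmul _ heA _ (htw _), h1]
    have h0 : ∀ d, idx (tw t d) = bn d 1 := by
      intro d
      cases d
      · have := hmul 1 (one_mem _) 1 (one_mem _)
        rw [one_mul, Nat.xor_self] at this
        exact this
      · exact ht1
    rw [h0, Nat.xor_comm (bn (χ e) 1) (2 * i), Nat.xor_assoc (2 * i), ← bn_xor, ← Bool.xor_assoc,
      Bool.xor_self, Bool.false_xor, Nat.xor_comm (2 * i), hci, ← Nat.xor_assoc, Nat.xor_self, Nat.zero_xor]
  · intro q hq a ha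
    obtain ⟨b, hf, hv⟩ := P.frm_ok hw ha
    obtain ⟨hd, hv'⟩ := hval a ha b hf hv
    have hx : xc (K.c q) < 16 := (v_split _ (K.c_lt q hq)).1
    rw [ap_trM _ (coord_lt _)]
    refine coord_congr fun z hz => ?_
    have hzx : Nat.xor z (xc (K.c q)) < 16 := Nat.xor_lt_two_pow (n := 4) hz hx
    show χ (qz z * (q * a * q⁻¹) * (qz z)⁻¹) = val (idx a) (Nat.xor z (xc (K.c q)))
    rw [← hv' _ hzx]
    show _ = χ (qz (Nat.xor z (xc (K.c q))) * a * (qz (Nat.xor z (xc (K.c q))))⁻¹)
    rw [show qz z * (q * a * q⁻¹) * (qz z)⁻¹ = qz z * q * a * (qz z * q)⁻¹ by group,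
      hconj _ (Q.mul_mem (hqz z) hq) (qz (Nat.xor z (xc (K.c q)))) (hqz _) (by
        rw [K.c_mul _ (hqz z) _ hq, xc_xor, hz16 z hz, (fz_facts z hz).2, hz16 _ hzx, (fz_facts _ hzx).2]
        rfl) a ha]

namespace Idx

variable {idx : G → ℕ} (I : Idx t Q K idx)
include I

theorem shift (g : ℕ) : Idx t Q K (fun a => ap (shiftM g) (idx a)) where
  lt a ha := shift_lt g (I.lt a ha)
  mul a ha b hb := by rw [I.mul a ha b hb, ap_xor]
  inj a ha h := by
    refine I.inj a ha ?_
    rw [← shift_invol g (I.lt a ha), h, ap_zero]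
  surj n hn := by
    obtain ⟨a, ha, e⟩ := I.surj _ (shift_lt g hn)
    exact ⟨a, ha, by rw [e, shift_invol g hn]⟩
  one_t := by rw [I.one_t]; exact shift_low g (by norm_num)
  form a ha b hf hv := by rw [shift_div g (I.lt a ha)]; exact I.form a ha b hf hv
  transl q hq a ha := by
    rw [I.transl q hq a ha, shift_trM g (v_split _ (K.c_lt q hq)).1 (I.lt a ha)]

theorem one : idx 1 = 0 := by
  have := I.mul 1 (one_mem _) 1 (one_mem _)
  rwa [one_mul, Nat.xor_self] at this

theorem eq_of (P : Pair t Q K y) (hw : ∀ k, tv k ∈ Sp63) {a b : G} (ha : a ∈ AA K) (hb : b ∈ AA K)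
    (h : idx a = idx b) : a = b := by
  have := I.inj _ (mul_mem ha hb) (by rw [I.mul a ha b hb, h, Nat.xor_self])
  rw [← AA_inv P hw hb, eq_inv_iff_mul_eq_one]
  exact this

end Idx

/-- An element acting on the coordinates by a matrix. -/
structure Acts (t : G) (Q : Subgroup G) (K : Coords t Q) (idx : G → ℕ) (h : G) (M : List ℕ) : Prop where
  norm : h ∈ Subgroup.normalizer (AA K : Set G)
  eq : ∀ a ∈ AA K, idx (h * a * h⁻¹) = ap M (idx a)

namespace Acts

variable {idx : G → ℕ} {h h' : G} {M M' : List ℕ}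

theorem mem (A : Acts t Q K idx h M) {a : G} (ha : a ∈ AA K) : h * a * h⁻¹ ∈ AA K :=
  (Subgroup.mem_normalizer_iff.1 A.norm a).1 ha

theorem mul (A : Acts t Q K idx h M) (A' : Acts t Q K idx h' M') : Acts t Q K idx (h * h') (comp M M') where
  norm := mul_mem A.norm A'.norm
  eq a ha := by
    rw [show h * h' * a * (h * h')⁻¹ = h * (h' * a * h'⁻¹) * h⁻¹ by group, A.eq _ (A'.mem ha), A'.eq a ha,
      ap_comp]

theorem lt (I : Idx t Q K idx) (A : Acts t Q K idx h M) {n : ℕ} (hn : n < 1024) : ap M n < 1024 := by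
  obtain ⟨a, ha, rfl⟩ := I.surj n hn
  rw [← A.eq a ha]
  exact I.lt _ (A.mem ha)

end Acts

theorem Idx.acts_one {idx : G → ℕ} (I : Idx t Q K idx) : Acts t Q K idx 1 idM where
  norm := one_mem _
  eq a ha := by
    rw [one_mul, inv_one, mul_one, show ap idM (idx a) = ap (trM 0) (idx a) from
      ap_ext (by decide +kernel) (I.lt a ha), trM_zero (I.lt a ha)]

theorem Idx.acts_q {idx : G → ℕ} (I : Idx t Q K idx) (P : Pair t Q K y) {q : G} (hq : q ∈ Q) :
    Acts t Q K idx q (trM (xc (K.c q))) where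
  norm := conj_AA P (P.S.le hq) (by rw [show K.π ⟨q, P.S.le hq⟩ = 1 from (K.ker _).2 hq, one_mul, mul_one])
  eq a ha := I.transl q hq a ha

/-- Every normalising element acts by some matrix. -/
theorem exists_mat (P : Pair t Q K y) {idx : G → ℕ} (I : Idx t Q K idx) (hw : ∀ k, tv k ∈ Sp63) {h : G}
    (hn : h ∈ Subgroup.normalizer (AA K : Set G)) : ∃ M, Acts t Q K idx h M := by
  classical
  choose! rep hrep hrepi using I.surj
  have hm : ∀ {a : G}, a ∈ AA K → h * a * h⁻¹ ∈ AA K := fun ha => (Subgroup.mem_normalizer_iff.1 hn _).1 ha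
  let F : ℕ → ℕ := fun n => idx (h * rep n * h⁻¹)
  have hF : ∀ a ∈ AA K, idx (h * a * h⁻¹) = F (idx a) := by
    intro a ha
    have := I.eq_of P hw (hrep _ (I.lt a ha)) ha (hrepi _ (I.lt a ha))
    show _ = idx (h * rep (idx a) * h⁻¹)
    rw [this]
  have hadd : ∀ u < 2 ^ 10, ∀ v < 2 ^ 10, F (u ^^^ v) = F u ^^^ F v := by
    intro u hu v hv
    have e : rep (u ^^^ v) = rep u * rep v :=
      I.eq_of P hw (hrep _ (Nat.xor_lt_two_pow hu hv)) (mul_mem (hrep u hu) (hrep v hv))
        (by rw [hrepi _ (Nat.xor_lt_two_pow hu hv), I.mul _ (hrep u hu) _ (hrep v hv), hrepi u hu, hrepi v hv])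
    show idx (h * rep (u ^^^ v) * h⁻¹) = idx (h * rep u * h⁻¹) ^^^ idx (h * rep v * h⁻¹)
    rw [e, show h * (rep u * rep v) * h⁻¹ = (h * rep u * h⁻¹) * (h * rep v * h⁻¹) by group,
      I.mul _ (hm (hrep u hu)) _ (hm (hrep v hv))]
  refine ⟨imgs F, hn, fun a ha => ?_⟩
  rw [hF a ha]
  refine extN 10 hadd (fun u _ v _ => ap_xor _ u v) (fun k hk => ?_) (v := idx a) (I.lt a ha)
  rw [ap_two_pow, imgs, List.getD_eq_getElem _ _ (by rw [List.length_map, List.length_range]; exact hk),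
    List.getElem_map, List.getElem_range]

theorem cox_comm : ∀ j < 5, key (eW (cw j ++ [0])) = key (eW ([0] ++ cw j)) ∧
    key (eW (cw j ++ cw j)) = key (eW []) := by
  decide +kernel

theorem cw_comm {j : ℕ} (hj : j < 5) : permW (cw j) * tv 0 = tv 0 * permW (cw j) := by
  have := permW_eq_iff.2 (cox_comm j hj).1
  simpa [permW_append, permW] using this

/-- A lift of a Levi transvection acting by a Levi map with some change of constants. -/
theorem exists_lev (P : Pair t Q K y) {idx : G → ℕ} (I : Idx t Q K idx) {j : ℕ} (hj : j < 5) :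
    ∃ h : G, ∃ hh : h ∈ Subgroup.centralizer {t}, K.π ⟨h, hh⟩ = permW (cw j) ∧
      ∃ g < 32, Acts t Q K idx h (levM j g) := by
  obtain ⟨⟨h, hh⟩, eπ⟩ := exists_lift K tv_mem (cw j)
  have hn := conj_AA P hh (by rw [eπ]; exact cw_comm hj)
  obtain ⟨M, A⟩ := exists_mat P I tv_mem hn
  have hlt : ∀ n < 1024, ap M n < 1024 := fun n hn => A.lt I hn
  have h1 : ap M 1 = 1 := by
    have htA : t ∈ AA K := E_le_AA P.S (Setup.na_mem P.S) (by rw [Coord.c_t P.S K]; rfl)
    have := A.eq t htA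
    rw [Subgroup.mem_centralizer_singleton_iff.1 hh, mul_inv_cancel_right, I.one_t] at this
    exact this.symm
  have hint : ∀ x < 16, ∀ n < 1024, ap M (ap (trM x) n) = ap (trM (levS j x)) (ap M n) := by
    intro x hx n hn
    obtain ⟨a, ha, rfl⟩ := I.surj n hn
    obtain ⟨q, hq, hqc⟩ := K.c_surj (fz x) (fz_facts x hx).1
    have hxc : xc (K.c q) = x := by rw [hqc]; exact (fz_facts x hx).2
    have hq' := Setup.na_conj P.S hh hq
    have hxc' : xc (K.c (h * q * h⁻¹)) = levS j x := by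
      rw [K.act ⟨h, hh⟩ (cw j) eπ.symm q hq, hqc, cw_levS j hj x hx]
      exact (fz_facts _ (levS_lt hj hx)).2
    have e1 := A.eq _ ((I.acts_q P hq).mem ha)
    rw [I.transl q hq a ha, hxc, show h * (q * a * q⁻¹) * h⁻¹ = (h * q * h⁻¹) * (h * a * h⁻¹) * (h * q * h⁻¹)⁻¹
      by group, I.transl _ hq' _ (A.mem ha), hxc', A.eq a ha] at e1
    exact e1.symm
  obtain ⟨v, hv, g, hg, hvg⟩ := rigid (comp (levM j 0) M)
    (fun n hn => by rw [ap_comp]; exact levM_lt hj (by norm_num) (hlt n hn))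
    (by rw [ap_comp, h1]; exact (by decide +kernel : ∀ j < 5, ap (levM j 0) 1 = 1) j hj)
    (fun i hi n hn => by
      have hi16 : 2 ^ i < 16 := Nat.pow_lt_pow_right (m := i) (n := 4) (by norm_num) hi
      have hlev : ∀ j < 5, ∀ x < 16, levS j (levS j x) = x := by decide +kernel
      rw [ap_comp, ap_comp, hint _ hi16 n hn, levM_trM hj (levS_lt hj hi16) (hlt n hn), hlev j hj _ hi16])
  obtain ⟨q, hq, hqc⟩ := K.c_surj (fz (levS j v)) (fz_facts _ (levS_lt hj hv)).1
  have hqh : q * h ∈ Subgroup.centralizer {t} := mul_mem (P.S.le hq) hh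
  refine ⟨q * h, hqh, ?_, g, hg, ⟨((I.acts_q P hq).mul A).norm, fun a ha => ?_⟩⟩
  · rw [show (⟨q * h, hqh⟩ : ↥(Subgroup.centralizer ({t} : Set G))) = ⟨q, P.S.le hq⟩ * ⟨h, hh⟩ from rfl, map_mul,
      (K.ker _).2 hq, one_mul, eπ]
  · rw [((I.acts_q P hq).mul A).eq a ha, ap_comp, hqc, (fz_facts _ (levS_lt hj hv)).2, levM_eq hj hg,
      ← hvg _ (I.lt a ha), ap_comp]
    have hM := hlt _ (I.lt a ha)
    have hlev : ∀ j < 5, ∀ x < 16, levS j x < 16 := fun j hj x hx => levS_lt hj hx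
    rw [levM_trM hj hv (levM_lt hj (by norm_num) hM), levM_invol hj hM]

/-- The composite along a list. -/
def prodW (h : ℕ → G) : List ℕ → G
  | [] => 1
  | j :: w => h j * prodW h w

/-- A relation of the permutations holds for the matrices. -/
theorem rel_idM (P : Pair t Q K y) {idx : G → ℕ} (I : Idx t Q K idx) {h : ℕ → G} {g : ℕ → ℕ}
    (hg : ∀ j, g j < 32) (hc : ∀ j < 5, ∃ hh : h j ∈ Subgroup.centralizer {t}, K.π ⟨h j, hh⟩ = permW (cw j))
    (hA : ∀ j < 5, Acts t Q K idx (h j) (levM j (g j))) {w : List ℕ} (hw : ∀ j ∈ w, j < 5)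
    (hπ : permW (w.flatMap cw) = 1) (h0 : mW (fun _ => 0) w = idM) : mW g w = idM := by
  have key : ∀ {w : List ℕ}, (∀ j ∈ w, j < 5) → Acts t Q K idx (prodW h w) (mW g w) ∧
      ∃ hh : prodW h w ∈ Subgroup.centralizer {t}, K.π ⟨prodW h w, hh⟩ = permW (w.flatMap cw) := by
    intro w
    induction w with
    | nil => exact fun _ => ⟨I.acts_one, one_mem _, K.π.map_one⟩
    | cons j w ih =>
      intro hw
      obtain ⟨A, hh, e⟩ := ih fun i hi => hw i (List.mem_cons_of_mem _ hi)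
      obtain ⟨hj, ej⟩ := hc j (hw j List.mem_cons_self)
      refine ⟨(hA j (hw j List.mem_cons_self)).mul A, mul_mem hj hh, ?_⟩
      rw [List.flatMap_cons, permW_append, ← ej, ← e, ← map_mul]
      rfl
  obtain ⟨A, hh, e⟩ := key hw
  have hq : prodW h w ∈ Q := (K.ker ⟨_, hh⟩).1 (e.trans hπ)
  have hall : ∀ n < 1024, ap (mW g w) n = ap (trM (xc (K.c (prodW h w)))) n := by
    intro n hn
    obtain ⟨a, ha, rfl⟩ := I.surj n hn
    rw [← A.eq a ha, I.transl _ hq a ha]
  have hx : xc (K.c (prodW h w)) = 0 := by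
    refine trans_low _ (v_split _ (K.c_lt _ hq)).1 fun k hk => ?_
    have h32 : 2 ^ k < 32 := Nat.pow_lt_pow_right (m := k) (n := 5) (by norm_num) hk
    rw [← hall _ (by omega), (mW_low g hg hw _ h32).1, h0]
    exact (by decide +kernel : ∀ k < 5, ap idM (2 ^ k) = 2 ^ k) k hk
  refine mW_idM fun k hk => ?_
  have := Nat.pow_lt_pow_right (m := k) (n := 10) (a := 2) (by norm_num) hk
  rw [hall _ this, hx, trM_zero this]

/-- The lists of the relations. -/
def relW (j i : ℕ) : List ℕ := cond (Nat.beq (i + 1) j) [j, i, j, i, j, i] [j, i, j, i]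

theorem relW_ok : ∀ j < 5, ∀ i < j, permW ((relW j i).flatMap cw) = 1 := by
  have h : ((List.range 5).all fun j => (List.range j).all fun i =>
      Nat.beq (key (eW ((relW j i).flatMap cw))) (key (eW []))) = true := by
    decide +kernel
  intro j hj i hi
  exact permW_eq_iff.2 (Nat.eq_of_beq_eq_true
    (List.all_eq_true.1 (List.all_eq_true.1 h j (List.mem_range.2 hj)) i (List.mem_range.2 hi)))

theorem relW_zero : ((List.range 5).all fun j => (mW (fun _ => 0) [j, j] == idM) &&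
    (List.range j).all fun i => mW (fun _ => 0) (relW j i) == idM) = true := by decide +kernel

/-- The final coordinates: lifts of the Levi transvections act by the Levi maps. -/
structure Frame (t : G) (Q : Subgroup G) (K : Coords t Q) (idx : G → ℕ) : Prop where
  idx_ok : Idx t Q K idx
  lev : ∀ j < 5, ∃ h : G, ∃ hh : h ∈ Subgroup.centralizer {t}, K.π ⟨h, hh⟩ = permW (cw j) ∧
    Acts t Q K idx h (levM j 0)

/-- **The frame exists.** -/
theorem exists_frame [Finite G] (P : Pair t Q K y) : ∃ idx : G → ℕ, Frame t Q K idx := by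
  classical
  obtain ⟨idx, I⟩ := exists_idx P tv_mem
  choose! h hh hπ g hg hA using fun j (hj : j < 5) => exists_lev P I hj
  let g' : ℕ → ℕ := fun j => if j < 5 then g j else 0
  have hg' : ∀ j, g' j < 32 := fun j => by
    show (if j < 5 then g j else 0) < 32
    split
    · exact hg j ‹_›
    · norm_num
  have hA' : ∀ j < 5, Acts t Q K idx (h j) (levM j (g' j)) := fun j hj => by
    show Acts t Q K idx (h j) (levM j (if j < 5 then g j else 0))
    rw [if_pos hj]
    exact hA j hj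
  have hc : ∀ j < 5, ∃ hh : h j ∈ Subgroup.centralizer {t}, K.π ⟨h j, hh⟩ = permW (cw j) :=
    fun j hj => ⟨hh j hj, hπ j hj⟩
  have hz := relW_zero
  simp only [List.all_eq_true, List.mem_range, Bool.and_eq_true, beq_iff_eq] at hz
  have h2 : ∀ j < 5, comp (levM j (g' j)) (levM j (g' j)) = idM := by
    intro j hj
    have h1 := rel_idM P I hg' hc hA' (w := [j, j]) (by simp [hj])
      ((permW_eq_iff (u := ([j, j] : List ℕ).flatMap cw) (w := [])).2 (by simpa using (cox_comm j hj).2))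
      (hz j hj).1
    refine List.ext_getElem (by simp [comp, levM, imgs, idM]) fun k k1 k2 => ?_
    have hk : k < 10 := by simpa [idM] using k2
    rw [← List.getD_eq_getElem _ 0 k1, ← List.getD_eq_getElem _ 0 k2, ← ap_two_pow, ← ap_two_pow, ← h1]
    show _ = ap (comp (levM j (g' j)) (comp (levM j (g' j)) idM)) (2 ^ k)
    rw [ap_comp, ap_comp, ap_comp, (by decide +kernel : ∀ k < 10, ap idM (2 ^ k) = 2 ^ k) k hk]
  have hr : ∀ j < 5, ∀ i < j, relOK j i (levM j (g' j)) (levM i (g' i)) = true := by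
    intro j hj i hi
    have hi5 : i < 5 := lt_trans hi hj
    have h1 := rel_idM P I hg' hc hA' (w := relW j i)
      (by
        intro k hk
        rcases Bool.eq_false_or_eq_true (Nat.beq (i + 1) j) with e | e <;> rw [relW, e] at hk <;>
          simp at hk <;> omega)
      (relW_ok j hj i hi) ((hz j hj).2 i hi)
    have inv : ∀ {k : ℕ}, k < 5 → ∀ n < 1024, ap (levM k (g' k)) (ap (levM k (g' k)) n) = n := by
      intro k hk n hn
      rw [← ap_comp, h2 k hk, show ap idM n = ap (trM 0) n from ap_ext (by decide +kernel) hn, trM_zero hn]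
    have lk : ∀ {k : ℕ}, k < 5 → ∀ {n : ℕ}, n < 1024 → ap (levM k (g' k)) n < 1024 :=
      fun {k} hk {n} hn => levM_lt hk (hg' _) hn
    have heq : ∀ {A B : List ℕ}, A.length = 10 → B.length = 10 → (∀ n < 1024, ap A n = ap B n) → A = B := by
      intro A B hA hB h
      refine List.ext_getElem (hA.trans hB.symm) fun k k1 k2 => ?_
      rw [← List.getD_eq_getElem _ 0 k1, ← List.getD_eq_getElem _ 0 k2, ← ap_two_pow, ← ap_two_pow]
      exact h _ (Nat.pow_lt_pow_right (m := k) (n := 10) (by norm_num) (by omega))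
    have hlen : ∀ k x, (levM k x).length = 10 := fun k x => by simp [levM, imgs]
    have hid : ∀ n < 1024, ap (mW g' (relW j i)) n = n := fun n hn => by
      rw [h1, show ap idM n = ap (trM 0) n from ap_ext (by decide +kernel) hn, trM_zero hn]
    have hid0 : ∀ n < 1024, ap idM n = n := fun n hn => by
      rw [show ap idM n = ap (trM 0) n from ap_ext (by decide +kernel) hn, trM_zero hn]
    show (cond (Nat.beq (i + 1) j) _ _) = true
    cases hb : Nat.beq (i + 1) j
    · simp only [cond_false, beq_iff_eq]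
      refine heq (by simp [comp, hlen]) (by simp [comp, hlen]) fun n hn => ?_
      rw [ap_comp, ap_comp]
      have := hid (ap (levM i (g' i)) (ap (levM j (g' j)) n)) (lk hi5 (lk hj hn))
      simp only [relW, hb, cond_false, mW, ap_comp] at this
      rw [hid0 _ (lk hi5 (lk hj hn)), inv hi5 _ (lk hj hn), inv hj n hn] at this
      exact this
    · simp only [cond_true, beq_iff_eq]
      refine heq (by simp [comp, hlen]) (by simp [comp, hlen]) fun n hn => ?_
      rw [ap_comp, ap_comp, ap_comp, ap_comp]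
      have := hid (ap (levM i (g' i)) (ap (levM j (g' j)) (ap (levM i (g' i)) n))) (lk hi5 (lk hj (lk hi5 hn)))
      simp only [relW, hb, cond_true, mW, ap_comp] at this
      rw [hid0 _ (lk hi5 (lk hj (lk hi5 hn))), inv hi5 _ (lk hj (lk hi5 hn)), inv hj _ (lk hi5 hn),
        inv hi5 n hn] at this
      exact this
  obtain ⟨g0, hg0, hs⟩ := exists_shift g' hg' h2 hr
  refine ⟨fun a => ap (shiftM g0) (idx a), I.shift g0, fun j hj => ⟨h j, hh j hj, hπ j hj, (hA' j hj).norm,
    fun a ha => ?_⟩⟩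
  show ap (shiftM g0) (idx (h j * a * (h j)⁻¹)) = _
  rw [(hA' j hj).eq a ha, ← hs j hj, ap_comp, ap_comp, shift_invol g0 (I.lt a ha)]

end Cfsg.Agent.Co2Recog.NA
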