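import Cfsg.Agent.Lib.Co2Recog.NA.Frame
import Cfsg.Agent.Lib.Co2Recog.NA.Five

/-!
Some element conjugating `t` to the involution over the first transvection normalises the centraliser of the
elementary subgroup.
-/

set_option autoImplicit false
set_option maxRecDepth 100000

namespace Cfsg.Agent.Co2Recog.NA

open Cfsg.Agent.ThRec.Eight (act ap ap_xor ap_zero act_xor)

/-- The alternating form on the sixteen points. -/
def B4 (x z : ℕ) : Bool :=
  ((x.testBit 0 && z.testBit 1) ^^ (x.testBit 1 && z.testBit 0)) ^^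
    ((x.testBit 2 && z.testBit 3) ^^ (x.testBit 3 && z.testBit 2))

/-- The Levi permutation by images of the unit points. -/
def levL (j : ℕ) : List ℕ := (List.range 4).map fun i => levS j (2 ^ i)

/-- A word in the Levi permutations. -/
def sW : List ℕ → List ℕ
  | [] => [1, 2, 4, 8]
  | j :: w => comp (levL j) (sW w)

/-- The five words whose conjugates are compared. -/
def fuseU : List (List ℕ) := [[0, 1], [2, 3], [1, 2], [0, 2], [1, 3]]

/-- The test applied to a candidate. -/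
def fuseTest (s : List ℕ) : Bool :=
  ((List.range 4).all fun i => Nat.beq (ap s (ap s (2 ^ i))) (2 ^ i)) &&
    fuseU.all fun u => (List.range 4).all fun i =>
      Nat.beq (ap s (ap (sW u) (ap s (ap (sW u.reverse) (2 ^ i)))))
        (ap (sW u) (ap s (ap (sW u.reverse) (ap s (2 ^ i)))))

theorem sigma_table : ((List.range 16).all fun a => (List.range 16).all fun b => (B4 a b != B4 1 2) ||
    (List.range 16).all fun c => (B4 a c != B4 1 4) || (B4 b c != B4 2 4) ||
      (List.range 16).all fun d => (B4 a d != B4 1 8) || (B4 b d != B4 2 8) || (B4 c d != B4 4 8) ||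
        !fuseTest [a, b, c, d] || ([a, b, c, d] == [1, 2, 4, 8])) = true := by decide +kernel

theorem fuseU_ok : ∀ u ∈ fuseU, (∀ j ∈ u, j < 5) ∧ ∀ x < 16, ap (sW u) (ap (sW u.reverse) x) = x ∧
    ap (sW u.reverse) x < 16 := by decide +kernel

theorem xc_cw : ∀ j < 5, ∀ v < 256, xc (act sX (cw j) v) = levS j (xc v) := by decide +kernel

theorem levL_ok : ∀ j < 5, ∀ x < 16, ap (levL j) x = levS j x := by decide +kernel

theorem polar_tab : ((List.range 32).all fun a => (List.range 16).all fun x => (List.range 16).all fun z =>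
    Nat.beq (Nat.xor (Nat.xor (Nat.xor (ap (trM x) (Nat.xor 512 a)) (ap (trM z) (Nat.xor 512 a)))
      (ap (trM (Nat.xor x z)) (Nat.xor 512 a))) (Nat.xor 512 a)) (bn (B4 x z) 1)) = true := by decide +kernel

theorem lev_stab : ∀ j < 5, ∀ a < 32, ∃ v < 16,
    ap (trM v) (ap (levM j 0) (Nat.xor 512 a)) = Nat.xor 512 a := by decide +kernel

theorem five_stab : ∀ a < 32, ∃ v < 16,
    ap (trM v) (ap (mW (fun _ => 0) [0, 1, 2, 3]) (Nat.xor 512 a)) = Nat.xor 512 a := by decide +kernel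

theorem trans_free : ∀ a < 32, ∀ x < 16, ap (trM x) (Nat.xor 512 a) = Nat.xor 512 a → x = 0 := by
  decide +kernel

theorem fiveW_eq : [0, 1, 2, 3].flatMap cw = fiveW := by decide +kernel

variable {G : Type*} [Group G] {t : G} {Q : Subgroup G} {K : Coords t Q} {y : G}

/-- An element of the centraliser of `t` acting on the sixteen points. -/
structure Sig (t : G) (Q : Subgroup G) (K : Coords t Q) (h : G) (s : List ℕ) : Prop where
  mem : h ∈ Subgroup.centralizer {t}
  len : s.length = 4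
  eq : ∀ q ∈ Q, xc (K.c (h * q * h⁻¹)) = ap s (xc (K.c q))

namespace Sig

variable {h h' : G} {s s' : List ℕ}

theorem at_point (A : Sig t Q K h s) {x : ℕ} (hx : x < 16) :
    ∃ q ∈ Q, xc (K.c q) = x ∧ xc (K.c (h * q * h⁻¹)) = ap s x := by
  obtain ⟨q, hq, hc⟩ := K.c_surj (fz x) (fz_facts x hx).1
  have e : xc (K.c q) = x := by rw [hc]; exact (fz_facts x hx).2
  exact ⟨q, hq, e, by rw [A.eq q hq, e]⟩

theorem lt (S : Setup t Q) (A : Sig t Q K h s) {x : ℕ} (hx : x < 16) : ap s x < 16 := by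
  obtain ⟨q, hq, -, e⟩ := A.at_point hx
  rw [← e]
  exact (v_split _ (K.c_lt _ (Setup.na_conj S A.mem hq))).1

theorem mul (S : Setup t Q) (A : Sig t Q K h s) (A' : Sig t Q K h' s') :
    Sig t Q K (h * h') (comp s s') where
  mem := mul_mem A.mem A'.mem
  len := by simp [comp, A'.len]
  eq q hq := by
    rw [show h * h' * q * (h * h')⁻¹ = h * (h' * q * h'⁻¹) * h⁻¹ by group,
      A.eq _ (Setup.na_conj S A'.mem hq), A'.eq q hq, ap_comp]

theorem unique (A : Sig t Q K h s) (A' : Sig t Q K h s') {x : ℕ} (hx : x < 16) : ap s x = ap s' x := by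
  obtain ⟨q, hq, e, e'⟩ := A.at_point hx
  rw [← e', A'.eq q hq, e]

theorem intertwine {idx : G → ℕ} (I : Idx t Q K idx) (P : Pair t Q K y) {M : List ℕ}
    (B : Acts t Q K idx h M) (A : Sig t Q K h s) {x : ℕ} (hx : x < 16) {n : ℕ} (hn : n < 1024) :
    ap M (ap (trM x) n) = ap (trM (ap s x)) (ap M n) := by
  obtain ⟨a, ha, rfl⟩ := I.surj n hn
  obtain ⟨q, hq, e, e'⟩ := A.at_point hx
  have e1 := B.eq _ ((I.acts_q P hq).mem ha)
  rw [I.transl q hq a ha, e, show h * (q * a * q⁻¹) * h⁻¹ = (h * q * h⁻¹) * (h * a * h⁻¹) * (h * q * h⁻¹)⁻¹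
    by group, I.transl _ (Setup.na_conj P.S A.mem hq) _ (B.mem ha), e', B.eq a ha] at e1
  exact e1.symm

end Sig

theorem W_pres (P : Pair t Q K y) {h : G} (hh : h ∈ Subgroup.centralizer {t})
    (hn : h ∈ Subgroup.normalizer (AA K : Set G)) {e : G} (he : e ∈ Q) (hW : inW (K.c e) = true) :
    inW (K.c (h * e * h⁻¹)) = true :=
  AA_inter P.S (Setup.na_conj P.S hh he) ((Subgroup.mem_normalizer_iff.1 hn e).1 (E_le_AA P.S he hW))

theorem exists_sig (P : Pair t Q K y) {h : G} (hh : h ∈ Subgroup.centralizer {t})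
    (hn : h ∈ Subgroup.normalizer (AA K : Set G)) : ∃ s, Sig t Q K h s := by
  obtain ⟨w, hw⟩ := P.words (K.π ⟨h, hh⟩) (by rw [← K.range]; exact ⟨_, rfl⟩)
  have hact : ∀ q ∈ Q, K.c (h * q * h⁻¹) = act sX w (K.c q) := fun q hq => K.act ⟨h, hh⟩ w hw q hq
  refine ⟨(List.range 4).map fun i => xc (act sX w (fz (2 ^ i))), hh, by simp, fun q hq => ?_⟩
  have hv := K.c_lt q hq
  obtain ⟨hx, hW⟩ := v_split _ hv
  obtain ⟨e, he, hec⟩ := K.c_surj _ (lt8 hv (fz_facts _ hx).1)
  have hW' := W_pres P hh hn he (by rw [hec]; exact hW)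
  rw [hact e he, hec, w_xc _ (act_lt w (lt8 hv (fz_facts _ hx).1)), act_xor, xc_xor, Nat.beq_eq] at hW'
  rw [hact q hq, eq_of_xor hW']
  refine extN 4 (f := fun z => xc (act sX w (fz z))) (fun u _ v _ => by simp only [fz_xor, act_xor, xc_xor])
    (fun u _ v _ => ap_xor _ u v) (fun k hk => ?_) (v := xc (K.c q)) hx
  rw [ap_two_pow, List.getD_eq_getElem _ _ (by simpa using hk), List.getElem_map, List.getElem_range]

theorem comm_tv0 (P : Pair t Q K y) {k : G} (hk : k ∈ Subgroup.centralizer {t}) (hc : k * y = y * k) :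
    k ∈ Subgroup.normalizer (AA K : Set G) := by
  refine conj_AA P hk ?_
  rw [← P.img P.mem, ← map_mul, ← map_mul]
  exact congrArg K.π (Subtype.ext hc)

theorem idx_y (P : Pair t Q K y) {idx : G → ℕ} (I : Idx t Q K idx) :
    ∃ a < 32, idx y = Nat.xor 512 a := by
  have hy := P.y_mem tv_mem
  have h := I.form y hy 48 P.y_frm (by decide)
  have hlt := I.lt y hy
  refine ⟨512 ^^^ idx y, ?_, xor_back (idx y) 512 |>.trans ?_⟩
  · have : (512 ^^^ idx y) / 32 = 0 := by rw [div32_xor, h]; rfl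
    omega
  · show 512 ^^^ (idx y ^^^ 512) = 512 ^^^ (512 ^^^ idx y)
    rw [Nat.xor_comm (idx y)]

/-- An element centralising both `y` and an element over a word fixing its function. -/
theorem exists_fix_y (P : Pair t Q K y) {idx : G → ℕ} (I : Idx t Q K idx) {h : G} {M : List ℕ}
    (hh : h ∈ Subgroup.centralizer {t}) (A : Acts t Q K idx h M) {v : ℕ} (hv : v < 16)
    (hfix : ap (trM v) (ap M (idx y)) = idx y) :
    ∃ q ∈ Q, xc (K.c q) = v ∧ (q * h) * y = y * (q * h) := by
  obtain ⟨q, hq, hc⟩ := K.c_surj (fz v) (fz_facts v hv).1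
  have hxc : xc (K.c q) = v := by rw [hc]; exact (fz_facts v hv).2
  refine ⟨q, hq, hxc, ?_⟩
  have B := (I.acts_q P hq).mul A
  have hy := P.y_mem tv_mem
  have := I.eq_of P tv_mem (B.mem hy) hy (by rw [B.eq y hy, ap_comp, hxc, hfix])
  exact mul_inv_eq_iff_eq_mul.1 this

/-- **Transport**: if both conjugates lie over the first transvection, the conjugating element normalises. -/
theorem transport [Finite G] {idx : G → ℕ} (F : Frame t Q K idx) (P : Pair t Q K y) {g : G}
    (hg : g * t * g⁻¹ = y) (P' : Pair t Q K (g⁻¹ * t * g)) : g ∈ Subgroup.normalizer (AA K : Set G) := by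
  classical
  set y' := g⁻¹ * t * g with hy'
  have I := F.idx_ok
  obtain ⟨af, haf, hm⟩ := idx_y P' I
  have hyA := P.y_mem tv_mem
  have ht : g * y' * g⁻¹ = t := by rw [hy']; group
  have hmem : ∀ a ∈ AA K, g⁻¹ * a * g ∈ Subgroup.centralizer {t} ∧ g⁻¹ * a * g * y' = y' * (g⁻¹ * a * g) := by
    intro a ha
    refine ⟨Subgroup.mem_centralizer_singleton_iff.2 ?_, ?_⟩
    · calc g⁻¹ * a * g * t = g⁻¹ * (a * (g * t * g⁻¹)) * g := by group
        _ = g⁻¹ * ((g * t * g⁻¹) * a) * g := by rw [hg, P.AA_comm tv_mem ha hyA]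
        _ = t * (g⁻¹ * a * g) := by group
    · calc g⁻¹ * a * g * y' = g⁻¹ * (a * (g * y' * g⁻¹)) * g := by group
        _ = g⁻¹ * ((g * y' * g⁻¹) * a) * g := by rw [ht, (mem_AA.1 ha).1]
        _ = y' * (g⁻¹ * a * g) := by group
  have hH : ∀ k ∈ Subgroup.centralizer ({t} : Set G), k * y' = y' * k → ∀ a ∈ AA K,
      ∃ b ∈ AA K, k * (g⁻¹ * a * g) * k⁻¹ = g⁻¹ * b * g := by
    intro k hk hky a ha
    have hn : g * k * g⁻¹ ∈ Subgroup.normalizer (AA K : Set G) := by
      refine comm_tv0 P (Subgroup.mem_centralizer_singleton_iff.2 ?_) ?_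
      · calc g * k * g⁻¹ * t = g * k * g⁻¹ * (g * y' * g⁻¹) := by rw [ht]
          _ = g * (k * y') * g⁻¹ := by group
          _ = g * (y' * k) * g⁻¹ := by rw [hky]
          _ = (g * y' * g⁻¹) * (g * k * g⁻¹) := by group
          _ = t * (g * k * g⁻¹) := by rw [ht]
      · calc g * k * g⁻¹ * y = g * k * g⁻¹ * (g * t * g⁻¹) := by rw [hg]
          _ = g * (k * t) * g⁻¹ := by group
          _ = g * (t * k) * g⁻¹ := by rw [Subgroup.mem_centralizer_singleton_iff.1 hk]
          _ = (g * t * g⁻¹) * (g * k * g⁻¹) := by group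
          _ = y * (g * k * g⁻¹) := by rw [hg]
    exact ⟨_, (Subgroup.mem_normalizer_iff.1 hn a).1 ha, by group⟩
  -- elements over the Levi transvections centralising the second involution
  have hk : ∀ j < 5, ∃ k, k * y' = y' * k ∧ Sig t Q K k (levL j) := by
    intro j hj
    obtain ⟨h, hh, hπ, A⟩ := F.lev j hj
    obtain ⟨v, hv, hvm⟩ := lev_stab j hj af haf
    obtain ⟨q, hq, -, hc⟩ := exists_fix_y P' I hh A hv (by rw [hm]; exact hvm)
    refine ⟨q * h, hc, mul_mem (P.S.le hq) hh, by simp [levL], fun x hx => ?_⟩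
    rw [show q * h * x * (q * h)⁻¹ = q * (h * x * h⁻¹) * q⁻¹ by group,
      Coord.rule P.S K hq (Setup.na_conj P.S hh hx), K.c_mul _ (Setup.na_conj P.S hh hx) _
      (Setup.tw_mem P.S _), Coord.c_tw P.S K, Nat.xor_zero, K.act ⟨h, hh⟩ (cw j) hπ.symm x hx,
      xc_cw j hj _ (K.c_lt x hx), levL_ok j hj _ (v_split _ (K.c_lt x hx)).1]
  choose! kk hkk hkS using hk
  have hsig1 : Sig t Q K 1 [1, 2, 4, 8] := ⟨one_mem _, rfl, fun q hq => by
    rw [one_mul, inv_one, mul_one]
    exact ((by decide +kernel : ∀ x < 16, ap [1, 2, 4, 8] x = x) _ (v_split _ (K.c_lt q hq)).1).symm⟩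
  have hprod : ∀ {w : List ℕ}, (∀ j ∈ w, j < 5) →
      prodW kk w * y' = y' * prodW kk w ∧ Sig t Q K (prodW kk w) (sW w) := by
    intro w
    induction w with
    | nil => exact fun _ => ⟨by simp [prodW], hsig1⟩
    | cons j w ih =>
      intro hw
      obtain ⟨e, S'⟩ := ih fun i hi => hw i (List.mem_cons_of_mem _ hi)
      have hj := hw j List.mem_cons_self
      exact ⟨by rw [show prodW kk (j :: w) = kk j * prodW kk w from rfl, mul_assoc, e, ← mul_assoc, hkk j hj,
        mul_assoc], (hkS j hj).mul P.S S'⟩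
  have hsub : ∀ a ∈ AA K, g⁻¹ * a * g ∈ AA K := by
    intro a ha
    obtain ⟨hb, hby⟩ := hmem a ha
    have hbn := comm_tv0 P' hb hby
    obtain ⟨s, hs⟩ := exists_sig P' hb hbn
    obtain ⟨M, hM⟩ := exists_mat P' I tv_mem hbn
    set b := g⁻¹ * a * g with hbdef
    have hb2 : b * b = 1 := by
      rw [hbdef, show g⁻¹ * a * g * (g⁻¹ * a * g) = g⁻¹ * (a * a) * g by group, P.AA_sq tv_mem ha]; group
    have hy'A := P'.y_mem tv_mem
    have hM1 : ap M 1 = 1 := by
      have := hM.eq t (E_le_AA P.S (Setup.na_mem P.S) (by rw [Coord.c_t P.S K]; rfl))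
      rw [Subgroup.mem_centralizer_singleton_iff.1 hb, mul_inv_cancel_right, I.one_t] at this
      exact this.symm
    have hMm : ap M (Nat.xor 512 af) = Nat.xor 512 af := by
      rw [← hm, ← hM.eq y' hy'A, hby, mul_inv_cancel_right]
    have hm' : Nat.xor 512 af < 1024 := Nat.xor_lt_two_pow (n := 10) (by norm_num) (by omega)
    have hB : ∀ x < 16, ∀ z < 16, B4 (ap s x) (ap s z) = B4 x z := by
      intro x hx z hz
      have hxz : x ^^^ z < 16 := lt4 hx hz
      have tab := fun x (hx : x < 16) z (hz : z < 16) => Nat.eq_of_beq_eq_true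
        (List.all_eq_true.1 (List.all_eq_true.1 (List.all_eq_true.1 polar_tab af (List.mem_range.2 haf)) x
          (List.mem_range.2 hx)) z (List.mem_range.2 hz))
      have e := congrArg (ap M) (tab x hx z hz)
      have e2 := tab _ (hs.lt P.S hx) _ (hs.lt P.S hz)
      rw [show (ap M (bn (B4 x z) 1)) = bn (B4 x z) 1 by
        cases B4 x z
        · exact ap_zero M
        · exact hM1] at e
      change ap M (ap (trM x) (Nat.xor 512 af) ^^^ ap (trM z) (Nat.xor 512 af) ^^^
        ap (trM (x ^^^ z)) (Nat.xor 512 af) ^^^ Nat.xor 512 af) = _ at e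
      rw [ap_xor, ap_xor, ap_xor, hs.intertwine I P' hM hx hm', hs.intertwine I P' hM hz hm',
        hs.intertwine I P' hM hxz hm', hMm, ap_xor] at e
      have := e2.symm.trans e
      revert this
      cases B4 (ap s x) (ap s z) <;> cases B4 x z <;> simp [bn]
    have hinv : ∀ x < 16, ap s (ap s x) = x := by
      intro x hx
      have h2 := hs.mul P.S hs
      rw [hb2] at h2
      rw [← ap_comp, ← hsig1.unique h2 hx]
      exact (by decide +kernel : ∀ x < 16, ap [1, 2, 4, 8] x = x) x hx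
    have hcomm : ∀ u ∈ fuseU, ∀ x < 16, ap s (ap (sW u) (ap s (ap (sW u.reverse) x))) =
        ap (sW u) (ap s (ap (sW u.reverse) (ap s x))) := by
      intro u hu x hx
      obtain ⟨hu5, hur⟩ := fuseU_ok u hu
      obtain ⟨e, S'⟩ := hprod hu5
      obtain ⟨c, hc, hkb⟩ := hH _ S'.mem e a ha
      obtain ⟨hd, hdy⟩ := hmem c hc
      obtain ⟨s', hs'⟩ := exists_sig P' hd (comm_tv0 P' hd hdy)
      have hconj : ∀ x < 16, ap s' x = ap (sW u) (ap s (ap (sW u.reverse) x)) := by
        intro x hx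
        obtain ⟨e1, hlt⟩ := hur x hx
        have h1 := (hs'.mul P.S S').unique (s' := comp (sW u) s) (by
          rw [← hkb, inv_mul_cancel_right]
          exact S'.mul P.S hs) hlt
        rw [ap_comp, ap_comp, e1] at h1
        exact h1
      have hbd : b * (g⁻¹ * c * g) = g⁻¹ * c * g * b := by
        rw [hbdef, show g⁻¹ * a * g * (g⁻¹ * c * g) = g⁻¹ * (a * c) * g by group, P.AA_comm tv_mem ha hc]; group
      have h1 := (hs.mul P.S hs').unique (s' := comp s' s) (by rw [hbd]; exact hs'.mul P.S hs) hx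
      rw [ap_comp, ap_comp, hconj x hx, hconj _ (hs.lt P.S hx)] at h1
      exact h1
    have hid : ∀ x < 16, ap s x = x := by
      obtain ⟨a0, a1, a2, a3, rfl⟩ : ∃ a0 a1 a2 a3, s = [a0, a1, a2, a3] := by
        match s, hs.len with
        | [a0, a1, a2, a3], _ => exact ⟨a0, a1, a2, a3, rfl⟩
      have g0 : ∀ i < 4, ap [a0, a1, a2, a3] (2 ^ i) = [a0, a1, a2, a3].getD i 0 := fun i _ => ap_two_pow _ i
      have hp4 : ∀ i < 4, 2 ^ i < 16 := fun i hi => Nat.pow_lt_pow_right (m := i) (n := 4) (by norm_num) hi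
      have l := fun i (hi : i < 4) => hs.lt P.S (hp4 i hi)
      have B := fun i (hi : i < 4) j (hj : j < 4) => hB _ (hp4 i hi) _ (hp4 j hj)
      have l0 := l 0 (by norm_num); have l1 := l 1 (by norm_num); have l2 := l 2 (by norm_num)
      have l3 := l 3 (by norm_num)
      have b01 := B 0 (by norm_num) 1 (by norm_num); have b02 := B 0 (by norm_num) 2 (by norm_num)
      have b12 := B 1 (by norm_num) 2 (by norm_num); have b03 := B 0 (by norm_num) 3 (by norm_num)
      have b13 := B 1 (by norm_num) 3 (by norm_num); have b23 := B 2 (by norm_num) 3 (by norm_num)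
      rw [g0 0 (by norm_num)] at l0 b01 b02 b03
      rw [g0 1 (by norm_num)] at l1 b01 b12 b13
      rw [g0 2 (by norm_num)] at l2 b02 b12 b23
      rw [g0 3 (by norm_num)] at l3 b03 b13 b23
      simp only [List.getD_cons_zero, List.getD_cons_succ, show (2 : ℕ) ^ 0 = 1 from rfl,
        show (2 : ℕ) ^ 1 = 2 from rfl, show (2 : ℕ) ^ 2 = 4 from rfl, show (2 : ℕ) ^ 3 = 8 from rfl]
        at l0 l1 l2 l3 b01 b02 b12 b03 b13 b23
      have t1 := List.all_eq_true.1 (List.all_eq_true.1 sigma_table a0 (List.mem_range.2 l0)) a1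
        (List.mem_range.2 l1)
      rw [bne_eq_false_iff_eq.2 b01, Bool.false_or] at t1
      have t2 := List.all_eq_true.1 t1 a2 (List.mem_range.2 l2)
      rw [bne_eq_false_iff_eq.2 b02, bne_eq_false_iff_eq.2 b12, Bool.false_or, Bool.false_or] at t2
      have t3 := List.all_eq_true.1 t2 a3 (List.mem_range.2 l3)
      have htest : fuseTest [a0, a1, a2, a3] = true := by
        rw [fuseTest, Bool.and_eq_true]
        refine ⟨List.all_eq_true.2 fun i hi => Nat.beq_eq ▸ hinv _
          (Nat.pow_lt_pow_right (m := i) (n := 4) (by norm_num) (List.mem_range.1 hi)),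
          List.all_eq_true.2 fun u hu => List.all_eq_true.2 fun i hi => Nat.beq_eq ▸ hcomm u hu _
          (Nat.pow_lt_pow_right (m := i) (n := 4) (by norm_num) (List.mem_range.1 hi))⟩
      rw [bne_eq_false_iff_eq.2 b03, bne_eq_false_iff_eq.2 b13, bne_eq_false_iff_eq.2 b23, htest,
        Bool.not_true, Bool.false_or, Bool.false_or, Bool.false_or, Bool.false_or, beq_iff_eq] at t3
      rw [t3]
      decide +kernel
    -- trivial on the points: fixes the fixed space
    have hW : ∀ e ∈ Q, inW (K.c e) = true → K.c (b * e * b⁻¹) = K.c e := by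
      intro e he hWe
      have hm1 := Setup.na_conj P.S hb he
      refine eq_of_xor (nondeg _ (lt8 (K.c_lt _ hm1) (K.c_lt e he)) fun k hk => ?_)
      obtain ⟨q, hq, hqc⟩ := K.c_surj (2 ^ k) (Nat.pow_lt_pow_right (m := k) (n := 8) (by norm_num) hk)
      have hm2 := Setup.na_conj P.S hb hq
      rw [← hqc, Coord.Bv_add P.S K (K.c_lt _ hm1) (K.c_lt e he) (K.c_lt q hq)]
      have hd : inW (K.c (b * q * b⁻¹) ^^^ K.c q) = true := by
        rw [w_xc _ (lt8 (K.c_lt _ hm2) (K.c_lt q hq)), xc_xor, hs.eq q hq,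
          hid _ (v_split _ (K.c_lt q hq)).1, Nat.xor_self]
        rfl
      obtain ⟨i, hi, ei⟩ := w_enum _ (K.c_lt _ hm1) (W_pres P' hb hbn he hWe)
      obtain ⟨j, hj, ej⟩ := w_enum _ (lt8 (K.c_lt _ hm2) (K.c_lt q hq)) hd
      have h0 : Bv (K.c (b * e * b⁻¹)) (K.c (b * q * b⁻¹) ^^^ K.c q) = false := by
        rw [← ei, ← ej]; exact (w_sing i hi j hj).2
      rw [Bv_symm _ (K.c (b * q * b⁻¹) ^^^ K.c q), Coord.Bv_add P.S K (K.c_lt _ hm2) (K.c_lt q hq)
        (K.c_lt _ hm1), Bv_symm (K.c (b * q * b⁻¹)), Coord.conj_bil P.S K hb he hq,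
        Bv_symm (K.c q) (K.c (b * e * b⁻¹))] at h0
      rw [Bool.xor_comm]
      exact h0
    obtain ⟨q, hq, hqA⟩ := exists_fix P.S K hb hW
    have hq0 : xc (K.c q) = 0 := by
      refine trans_free af haf _ (v_split _ (K.c_lt q hq)).1 ?_
      rw [← hm, ← I.transl q hq y' hy'A]
      congr 1
      have h1 := P'.AA_comm tv_mem hqA hy'A
      have hby' : b * y' = y' * b := hby
      calc q * y' * q⁻¹ = q * (y' * b) * b⁻¹ * q⁻¹ := by group
        _ = (q * b * y') * (q * b)⁻¹ := by rw [← hby']; group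
        _ = y' := by rw [h1, mul_inv_cancel_right]
    have hqE : q ∈ AA K := E_le_AA P.S hq (by rw [w_xc _ (K.c_lt q hq), hq0]; rfl)
    have := mul_mem (inv_mem hqE) hqA
    rwa [inv_mul_cancel_left] at this
  haveI : Fintype G := Fintype.ofFinite G
  refine Subgroup.mem_normalizer_iff.2 fun x => ?_
  have hle : (AA K).map (MulAut.conj g⁻¹).toMonoidHom ≤ AA K := by
    rintro _ ⟨a, ha, rfl⟩
    simpa [MulAut.conj_apply] using hsub a ha
  have heq : (AA K).map (MulAut.conj g⁻¹).toMonoidHom = AA K :=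
    Subgroup.eq_of_le_of_card_ge hle (by rw [Subgroup.card_map_of_injective (MulAut.conj g⁻¹).injective])
  constructor
  · intro hx
    rw [← heq] at hx
    obtain ⟨a, ha, rfl⟩ := hx
    simpa [MulAut.conj_apply, mul_assoc] using ha
  · intro hx
    simpa [mul_assoc] using hsub _ hx

/-- **Some element conjugating `t` to `y` normalises.** -/
theorem exists_fuse [Finite G] (P : Pair t Q K y) {idx : G → ℕ} (F : Frame t Q K idx) :
    ∃ g : G, g ∈ Subgroup.normalizer (AA K : Set G) ∧ g * t * g⁻¹ = y := by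
  classical
  obtain ⟨g, hg⟩ := isConj_iff.1 P.conj
  set y' := g⁻¹ * t * g with hy'
  have ht : g * y' * g⁻¹ = t := by rw [hy']; group
  have hyC : y' ∈ Subgroup.centralizer {t} := Subgroup.mem_centralizer_singleton_iff.2 <| by
    calc y' * t = g⁻¹ * (t * (g * t * g⁻¹)) * g := by rw [hy']; group
      _ = g⁻¹ * ((g * t * g⁻¹) * t) * g := by rw [hg, (Subgroup.mem_centralizer_singleton_iff.1 P.mem)]
      _ = t * y' := by rw [hy']; group
  have hyne : y' ≠ t := fun e => by
    have e2 : y = t := by rw [← hg]; exact (congrArg (fun a => g * a * g⁻¹) e.symm).trans ht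
    have h1 : K.π ⟨y, P.mem⟩ = 1 := (K.ker _).2 (by rw [show ((⟨y, P.mem⟩ : ↥(Subgroup.centralizer ({t} : Set G))) : G) = t from e2]; exact Setup.na_mem P.S)
    exact (by decide +kernel : (1 : Equiv.Perm (Fin 63)) ≠ tv 0) (h1.symm.trans (P.img P.mem))
  have hyQ : y' ∉ Q := fun h => P.nf ⟨g⁻¹, by rwa [inv_inv], by rwa [inv_inv]⟩
  obtain ⟨I, hlev⟩ := F
  obtain ⟨af, haf, hm⟩ := idx_y P I
  choose! h hh hπ hA using hlev
  have key : ∀ {w : List ℕ}, (∀ j ∈ w, j < 5) → Acts t Q K idx (prodW h w) (mW (fun _ => 0) w) ∧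
      ∃ hh' : prodW h w ∈ Subgroup.centralizer {t}, K.π ⟨prodW h w, hh'⟩ = permW (w.flatMap cw) := by
    intro w
    induction w with
    | nil => exact fun _ => ⟨I.acts_one, one_mem _, K.π.map_one⟩
    | cons j w ih =>
      intro hw
      obtain ⟨A, hh', e⟩ := ih fun i hi => hw i (List.mem_cons_of_mem _ hi)
      have hj := hw j List.mem_cons_self
      refine ⟨(hA j hj).mul A, mul_mem (hh j hj) hh', ?_⟩
      rw [List.flatMap_cons, permW_append, ← hπ j hj, ← e, ← map_mul]
      rfl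
  obtain ⟨A, hn, hnπ⟩ := key (w := [0, 1, 2, 3]) (by simp)
  obtain ⟨v, hv, hvm⟩ := five_stab af haf
  obtain ⟨q, hq, -, hc⟩ := exists_fix_y P I hn A hv (by rw [hm]; exact hvm)
  set n := q * prodW h [0, 1, 2, 3] with hn'
  have hnC : n ∈ Subgroup.centralizer {t} := mul_mem (P.S.le hq) hn
  have hnπ' : K.π ⟨n, hnC⟩ = permW fiveW := by
    rw [show (⟨n, hnC⟩ : ↥(Subgroup.centralizer ({t} : Set G))) = ⟨q, P.S.le hq⟩ * ⟨_, hn⟩ from rfl, map_mul,
      (K.ker _).2 hq, one_mul, hnπ, fiveW_eq]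
  have h5 : 5 ∣ orderOf (⟨n, hnC⟩ : ↥(Subgroup.centralizer ({t} : Set G))) := by
    rw [← five_order, ← hnπ']
    exact orderOf_map_dvd K.π _
  rw [Subgroup.orderOf_mk] at h5
  set z := n ^ (orderOf n / 5) with hz
  have hz5 : orderOf z = 5 := orderOf_pow_orderOf_div (orderOf_pos n).ne' h5
  have hzy : z * y = y * z := (Commute.pow_left (show Commute n y from hc) _).eq
  have hzt : z * t = t * z :=
    (Commute.pow_left (show Commute n t from Subgroup.mem_centralizer_singleton_iff.1 hnC) _).eq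
  set z' := g⁻¹ * z * g with hz'
  have hz'C : z' ∈ Subgroup.centralizer {t} := Subgroup.mem_centralizer_singleton_iff.2 <| by
    calc z' * t = g⁻¹ * (z * (g * t * g⁻¹)) * g := by rw [hz']; group
      _ = g⁻¹ * ((g * t * g⁻¹) * z) * g := by rw [hg, hzy]
      _ = t * z' := by rw [hz']; group
  have hz'y : z' * y' = y' * z' := by
    calc z' * y' = g⁻¹ * (z * t) * g := by rw [hz', hy']; group
      _ = g⁻¹ * (t * z) * g := by rw [hzt]
      _ = y' * z' := by rw [hz', hy']; group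
  have hz'5 : orderOf z' = 5 := by
    rw [← hz5, hz']
    exact (orderOf_injective (MulAut.conj g⁻¹).toMonoidHom (MulAut.conj g⁻¹).injective z ▸ by
      simp [MulAut.conj_apply])
  have hr5 : orderOf (K.π ⟨z', hz'C⟩) = 5 := by
    rcases (Nat.dvd_prime (by norm_num : Nat.Prime 5)).1
      (hz'5 ▸ Subgroup.orderOf_mk z' hz'C ▸ orderOf_map_dvd K.π ⟨z', hz'C⟩) with e | e
    · exfalso
      have hQ : z' ∈ Q := (K.ker ⟨z', hz'C⟩).1 (orderOf_eq_one_iff.1 e)
      haveI : Fintype G := Fintype.ofFinite G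
      have := Subgroup.orderOf_dvd_natCard Q hQ
      rw [hz'5, P.S.card] at this
      norm_num at this
    · exact e
  obtain ⟨c, hc', hcc⟩ := five_transvection (p := K.π ⟨y', hyC⟩) (r := K.π ⟨z', hz'C⟩)
    (by rw [← K.range]; exact ⟨_, rfl⟩) (by rw [← K.range]; exact ⟨_, rfl⟩) hr5
    (by rw [← map_mul, ← map_mul]; exact congrArg K.π (Subtype.ext hz'y.symm))
    (by
      rw [← map_mul]
      refine (congrArg K.π (Subtype.ext ?_)).trans K.π.map_one
      show y' * y' = 1
      rw [hy', show g⁻¹ * t * g * (g⁻¹ * t * g) = g⁻¹ * (t * t) * g by group, Setup.na_sq P.S]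
      group)
    (fun e => hyQ ((K.ker ⟨y', hyC⟩).1 e))
  obtain ⟨⟨d, hd⟩, rfl⟩ := MonoidHom.mem_range.1 (show c ∈ K.π.range by rw [K.range]; exact hc')
  have hdt := Subgroup.mem_centralizer_singleton_iff.1 hd
  have e : (g * d⁻¹) * t * (g * d⁻¹)⁻¹ = y := by
    rw [← hg, show g * d⁻¹ * t * (g * d⁻¹)⁻¹ = g * (d⁻¹ * (t * d)) * g⁻¹ by group, ← hdt]
    group
  have e' : (g * d⁻¹)⁻¹ * t * (g * d⁻¹) = d * y' * d⁻¹ := by rw [hy']; group
  have P' : Pair t Q K ((g * d⁻¹)⁻¹ * t * (g * d⁻¹)) := by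
    refine ⟨P.S, P.words, P.nf, isConj_iff.2 ⟨(g * d⁻¹)⁻¹, by group⟩, ?_, fun hmem => ?_⟩
    · rw [e']; exact mul_mem (mul_mem hd hyC) (inv_mem hd)
    · rw [← hcc, ← map_inv, ← map_mul, ← map_mul]
      exact congrArg K.π (Subtype.ext e')
  exact ⟨g * d⁻¹, transport ⟨I, fun j hj => ⟨h j, hh j hj, hπ j hj, hA j hj⟩⟩ P e P', e⟩

end Cfsg.Agent.Co2Recog.NA
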