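import Cfsg.Agent.Lib.Co2Recog.NA.Norm
import Cfsg.Agent.Lib.SymPres.Coxeter

/-!
A complement of `A` in its normaliser in the centraliser of `t`: translations in `Q` and five involutions in the
class of `y` satisfying the Coxeter relations of the symmetric group of degree six.
-/

set_option autoImplicit false
set_option maxRecDepth 100000

namespace Cfsg.Agent.Co2Recog.NA

open Cfsg.Agent.ThRec.Eight (act ap ap_xor ap_zero)
open Cfsg.Agent.SymCoxeter (Rels adj)

/-- Words moving the first transvection to the five Levi transvections. -/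
def levC : List (List ℕ) :=
  [[3, 4, 2, 3, 1, 2, 6, 5, 4, 3, 2, 1], [2, 3, 1, 2, 0, 1], [3, 4, 2, 3, 1, 2, 0, 1],
    [4, 5, 3, 4, 2, 3, 1, 2, 0, 1], [6, 2, 3, 1, 2, 6, 4, 3, 2, 1]]

theorem levC_ok : ∀ j < 5, key (eW (levC.getD j [] ++ 0 :: (levC.getD j []).reverse)) = key (eW (cw j)) := by
  decide +kernel

theorem cover_tab : ∀ a < 32, ∀ b < 32, ∃ v < 16,
    ap (trM v) (Nat.xor 512 a) = Nat.xor (Nat.xor 512 a) b ∨
      ap (trM v) (Nat.xor 512 a) = Nat.xor (Nat.xor (Nat.xor 512 a) b) 1 := by decide +kernel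

theorem fix_vec : ∀ j < 5, ∀ d0 d1 d2 d3 : Bool, ∃ l < 16, par (Nat.land l (levS j 1)) = d0 ∧
    par (Nat.land l (levS j 2)) = d1 ∧ par (Nat.land l (levS j 4)) = d2 ∧ par (Nat.land l (levS j 8)) = d3 := by
  decide +kernel

theorem levS_facts : ∀ j < 5, (∀ z < 16, levS j (levS j z) = z ∧
    (∀ w < 16, levS j (Nat.xor z w) = Nat.xor (levS j z) (levS j w))) ∧ levS j 0 = 0 := by decide +kernel

theorem braid_words : ((List.range 4).all fun i =>
    Nat.beq (key (eW (cw i ++ (cw (i + 1) ++ cw i)))) (key (eW (cw (i + 1) ++ (cw i ++ cw (i + 1))))) &&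
      (comp (levM i 0) (comp (levM (i + 1) 0) (levM i 0)) ==
        comp (levM (i + 1) 0) (comp (levM i 0) (levM (i + 1) 0))) &&
      (List.range 16).all fun z =>
        Nat.beq (levS i (levS (i + 1) (levS i z))) (levS (i + 1) (levS i (levS (i + 1) z)))) = true := by
  decide +kernel

theorem comm_words : ((List.range 5).all fun j => (List.range j).all fun i => Nat.beq (i + 1) j ||
    (Nat.beq (key (eW (cw j ++ (cw i ++ cw j)))) (key (eW (cw i))) &&
      (comp (levM j 0) (comp (levM i 0) (levM j 0)) == levM i 0) &&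
      (List.range 16).all fun z => Nat.beq (levS j (levS i (levS j z))) (levS i z))) = true := by
  decide +kernel

theorem lev_rel_words : ∀ j < 5, ∀ i < 5,
    (i + 1 = j → key (eW (cw i ++ (cw j ++ cw i))) = key (eW (cw j ++ (cw i ++ cw j))) ∧
      comp (levM i 0) (comp (levM j 0) (levM i 0)) = comp (levM j 0) (comp (levM i 0) (levM j 0)) ∧
      ∀ z < 16, levS i (levS j (levS i z)) = levS j (levS i (levS j z))) ∧
    (i + 1 < j → key (eW (cw j ++ (cw i ++ cw j))) = key (eW (cw i)) ∧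
      comp (levM j 0) (comp (levM i 0) (levM j 0)) = levM i 0 ∧
      ∀ z < 16, levS j (levS i (levS j z)) = levS i z) := by
  intro j hj i _
  refine ⟨?_, fun h => ?_⟩
  · rintro rfl
    have := List.all_eq_true.1 braid_words i (List.mem_range.2 (by omega))
    simp only [Bool.and_eq_true, Nat.beq_eq, beq_iff_eq, List.all_eq_true, List.mem_range] at this
    exact ⟨this.1.1, this.1.2, this.2⟩
  · have := List.all_eq_true.1 (List.all_eq_true.1 comm_words j (List.mem_range.2 hj)) i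
      (List.mem_range.2 (by omega))
    simp only [Bool.or_eq_true, Bool.and_eq_true, Nat.beq_eq, beq_iff_eq, List.all_eq_true, List.mem_range] at this
    rcases this with e | e
    · omega
    · exact ⟨e.1.1, e.1.2, e.2⟩

theorem two_lev : ∃ z < 16, levS 0 (levS 1 z) ≠ z := by decide +kernel

theorem fz_zero : ∀ z < 16, inW (fz z) = true → z = 0 := by decide +kernel

variable {G : Type*} [Group G] {t : G} {Q : Subgroup G} {K : Coords t Q} {y : G} {idx : G → ℕ}

/-- A lift of the sixteen vectors of the singular complement forming a group. -/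
structure Lift (t : G) (Q : Subgroup G) (K : Coords t Q) (xe : ℕ → G) : Prop where
  mem : ∀ z < 16, xe z ∈ Q
  c : ∀ z < 16, K.c (xe z) = fz z
  mul : ∀ z < 16, ∀ w < 16, xe z * xe w = xe (z ^^^ w)

theorem exists_lift16 (S : Setup t Q) (K : Coords t Q) : ∃ xe : ℕ → G, Lift t Q K xe := by
  classical
  choose g hg hgc using fun i : Fin 4 => K.c_surj (fz (2 ^ i.val))
    (fz_facts _ (Nat.pow_lt_pow_right (m := i.val) (n := 4) (by norm_num) i.isLt)).1
  have hp : ∀ i : Fin 4, 2 ^ i.val < 16 := fun i => Nat.pow_lt_pow_right (by norm_num) i.isLt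
  have hcomm : ∀ i j : Fin 4, Commute (g i) (g j) := fun i j =>
    Coord.comm_of S K (hg i) (hg j) (by rw [hgc, hgc]; exact (comp_sing _ (hp i) _ (hp j)).2)
  have hsq : ∀ i : Fin 4, g i * g i = 1 := fun i => by
    rw [K.sq _ (hg i), hgc, (comp_sing _ (hp i) _ (hp i)).1, tw_false]
  let pw : Fin 4 → Bool → G := fun i b => cond b (g i) 1
  have hpm : ∀ i b b', pw i b * pw i b' = pw i (b ^^ b') := fun i b b' => by
    cases b <;> cases b' <;> simp [pw, hsq i]
  have hpc : ∀ i j b b', Commute (pw i b) (pw j b') := fun i j b b' => by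
    cases b <;> cases b' <;> simp [pw, hcomm i j]
  have hpQ : ∀ i b, pw i b ∈ Q ∧ K.c (pw i b) = fz (bn b (2 ^ i.val)) := fun i b => by
    cases b
    · exact ⟨Q.one_mem, (Coord.c_one S K).trans (ap_zero _).symm⟩
    · exact ⟨hg i, hgc i⟩
  refine ⟨fun z => pw 0 (z.testBit 0) * pw 1 (z.testBit 1) * (pw 2 (z.testBit 2) * pw 3 (z.testBit 3)),
    ⟨fun z _ => Q.mul_mem (Q.mul_mem (hpQ 0 _).1 (hpQ 1 _).1) (Q.mul_mem (hpQ 2 _).1 (hpQ 3 _).1),
    fun z hz => ?_, fun z _ w _ => ?_⟩⟩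
  · show K.c (pw 0 (z.testBit 0) * pw 1 (z.testBit 1) * (pw 2 (z.testBit 2) * pw 3 (z.testBit 3))) = fz z
    rw [K.c_mul _ (Q.mul_mem (hpQ 0 _).1 (hpQ 1 _).1) _ (Q.mul_mem (hpQ 2 _).1 (hpQ 3 _).1),
      K.c_mul _ (hpQ 0 _).1 _ (hpQ 1 _).1, K.c_mul _ (hpQ 2 _).1 _ (hpQ 3 _).1, (hpQ 0 _).2, (hpQ 1 _).2,
      (hpQ 2 _).2, (hpQ 3 _).2, ← fz_xor, ← fz_xor, ← fz_xor]
    congr 1
    exact (by decide +kernel : ∀ z < 16, bn (z.testBit 0) 1 ^^^ bn (z.testBit 1) 2 ^^^
      (bn (z.testBit 2) 4 ^^^ bn (z.testBit 3) 8) = z) z hz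
  · simp only [Nat.testBit_xor, ← hpm]
    rw [((hpc 2 0 _ _).mul_right (hpc 2 1 _ _) |>.mul_left
      ((hpc 3 0 _ _).mul_right (hpc 3 1 _ _))).mul_mul_mul_comm, (hpc 1 0 _ _).mul_mul_mul_comm,
      (hpc 3 2 _ _).mul_mul_mul_comm]

namespace Lift

variable {xe : ℕ → G} (L : Lift t Q K xe)
include L

theorem one : xe 0 = 1 := by
  have := L.mul 0 (by norm_num) 0 (by norm_num)
  rw [Nat.xor_self] at this
  exact mul_eq_left.1 this

theorem acts (P : Pair t Q K y) (I : Idx t Q K idx) {z : ℕ} (hz : z < 16) :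
    Acts t Q K idx (xe z) (trM z) := by
  have := I.acts_q P (L.mem z hz)
  rwa [L.c z hz, (fz_facts z hz).2] at this

/-- An element of `Q` centralising the lift and fixing the fixed space is `1` or `t`. -/
theorem kill (S : Setup t Q) {r : G} (hr : r ∈ Q) (hW : inW (K.c r) = true)
    (hc : ∀ z < 16, r * xe z = xe z * r) : r = 1 ∨ r = t := by
  refine (K.c_ker r hr).1 ?_
  obtain ⟨i, hi, ei⟩ := w_enum _ (K.c_lt r hr) hW
  have : i = 0 := par_zero i hi fun z hz => by
    rw [← w_dual i hi z hz, ei, ← L.c z hz]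
    exact Coord.bil_of S K hr (L.mem z hz) (hc z hz)
  rw [← ei, this]
  exact ap_zero _

end Lift

/-- The class of `y` in the centraliser. -/
def InCl (t y a : G) : Prop := ∃ c ∈ Subgroup.centralizer ({t} : Set G), c * y * c⁻¹ = a

theorem InCl.conj {a h : G} (ha : InCl t y a) (hh : h ∈ Subgroup.centralizer {t}) :
    InCl t y (h * a * h⁻¹) := by
  obtain ⟨c, hc, rfl⟩ := ha
  exact ⟨h * c, mul_mem hh hc, by group⟩

theorem InCl.sq (P : Pair t Q K y) {a : G} (ha : InCl t y a) : a * a = 1 := by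
  obtain ⟨c, hc, rfl⟩ := ha
  rw [show c * y * c⁻¹ * (c * y * c⁻¹) = c * (y * y) * c⁻¹ by group, P.ysq]
  group

/-- A lift normalising the lifted sixteen vectors. -/
structure Levi (t : G) (Q : Subgroup G) (K : Coords t Q) (idx : G → ℕ) (xe : ℕ → G) (w : List ℕ) (M : List ℕ)
    (σ : ℕ → ℕ) (k : G) : Prop where
  mem : k ∈ Subgroup.centralizer {t}
  img : ∀ h : k ∈ Subgroup.centralizer {t}, K.π ⟨k, h⟩ = permW w
  act : Acts t Q K idx k M
  conj : ∀ z < 16, σ z < 16 ∧ k * xe z * k⁻¹ = xe (σ z)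

theorem Levi.mul {xe : ℕ → G} {w w' M M' : List ℕ} {σ σ' : ℕ → ℕ} {k k' : G}
    (L : Levi t Q K idx xe w M σ k) (L' : Levi t Q K idx xe w' M' σ' k') :
    Levi t Q K idx xe (w ++ w') (comp M M') (fun z => σ (σ' z)) (k * k') where
  mem := mul_mem L.mem L'.mem
  img h := by
    rw [show (⟨k * k', h⟩ : ↥(Subgroup.centralizer ({t} : Set G))) = ⟨k, L.mem⟩ * ⟨k', L'.mem⟩ from rfl,
      map_mul, L.img, L'.img, permW_append]
  act := L.act.mul L'.act
  conj z hz := by
    obtain ⟨h1, e1⟩ := L'.conj z hz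
    obtain ⟨h2, e2⟩ := L.conj _ h1
    exact ⟨h2, by rw [show k * k' * xe z * (k * k')⁻¹ = k * (k' * xe z * k'⁻¹) * k⁻¹ by group, e1, e2]⟩

/-- Two lifts with the same data differ by `1` or `t`. -/
theorem Levi.same (P : Pair t Q K y) (I : Idx t Q K idx) {xe : ℕ → G} (X : Lift t Q K xe)
    {w w' M M' : List ℕ} {σ σ' : ℕ → ℕ} {k k' : G} (L : Levi t Q K idx xe w M σ k)
    (L' : Levi t Q K idx xe w' M' σ' k') (hw : permW w = permW w') (hM : M = M')
    (hσ : ∀ z < 16, σ z = σ' z) : k' = k ∨ k' = k * t := by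
  set r := k⁻¹ * k' with hr
  have hrC : r ∈ Subgroup.centralizer {t} := mul_mem (inv_mem L.mem) L'.mem
  have hrQ : r ∈ Q := (K.ker ⟨r, hrC⟩).1 (by
    rw [show (⟨r, hrC⟩ : ↥(Subgroup.centralizer ({t} : Set G))) = ⟨k, L.mem⟩⁻¹ * ⟨k', L'.mem⟩ from rfl,
      map_mul, map_inv, L.img, L'.img, hw, inv_mul_cancel])
  have hx : xc (K.c r) = 0 := by
    refine trans_low _ (v_split _ (K.c_lt r hrQ)).1 fun i hi => ?_
    have h32 : 2 ^ i < 1024 := Nat.pow_lt_pow_right (m := i) (n := 10) (by norm_num) (by omega)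
    obtain ⟨a, ha, e⟩ := I.surj _ h32
    rw [← e, ← I.transl r hrQ a ha]
    congr 1
    have e1 : k * a * k⁻¹ = k' * a * k'⁻¹ :=
      I.eq_of P tv_mem (L.act.mem ha) (L'.act.mem ha) (by rw [L.act.eq a ha, L'.act.eq a ha, hM])
    rw [hr, show k⁻¹ * k' * a * (k⁻¹ * k')⁻¹ = k⁻¹ * (k' * a * k'⁻¹) * k by group, ← e1]
    group
  have hW : inW (K.c r) = true := by rw [w_xc _ (K.c_lt r hrQ), hx]; rfl
  have hc : ∀ z < 16, r * xe z = xe z * r := by
    intro z hz
    have e := (L'.conj z hz).2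
    rw [← hσ z hz, ← (L.conj z hz).2] at e
    calc r * xe z = k⁻¹ * (k' * xe z * k'⁻¹) * k' := by rw [hr]; group
      _ = xe z * r := by rw [e, hr]; group
  rcases X.kill P.S hrQ hW hc with e | e
  · left; rw [← mul_one k, ← e, hr]; group
  · right; rw [← e, hr]; group

theorem Lift.levi_one {xe : ℕ → G} (X : Lift t Q K xe) (I : Idx t Q K idx) :
    Levi t Q K idx xe [] idM (fun z => z) 1 where
  mem := one_mem _
  img _ := K.π.map_one
  act := I.acts_one
  conj z hz := ⟨hz, by rw [one_mul, inv_one, mul_one]⟩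

theorem Levi.twist (P : Pair t Q K y) {xe : ℕ → G} (X : Lift t Q K xe) (I : Idx t Q K idx) {w M : List ℕ}
    {σ : ℕ → ℕ} {k : G} (L : Levi t Q K idx xe w M σ k) : Levi t Q K idx xe w M σ (k * t) where
  mem := mul_mem L.mem (P.S.le (Setup.na_mem P.S))
  img h := by
    rw [show (⟨k * t, h⟩ : ↥(Subgroup.centralizer ({t} : Set G))) =
      ⟨k, L.mem⟩ * ⟨t, P.S.le (Setup.na_mem P.S)⟩ from rfl, map_mul, L.img,
      (K.ker ⟨t, _⟩).2 (Setup.na_mem P.S), mul_one]
  act := by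
    refine ⟨mul_mem L.act.norm (Subgroup.le_normalizer (t_mem P)), fun a ha => ?_⟩
    rw [show k * t * a * (k * t)⁻¹ = k * (t * a * t⁻¹) * k⁻¹ by group, ← (mem_AA.1 ha).1, mul_inv_cancel_right,
      L.act.eq a ha]
  conj z hz := by
    refine ⟨(L.conj z hz).1, ?_⟩
    rw [show k * t * xe z * (k * t)⁻¹ = k * (t * xe z * t⁻¹) * k⁻¹ by group,
      ← Setup.na_comm P.S (X.mem z hz), mul_inv_cancel_right, (L.conj z hz).2]

/-- **A normalised lift of each Levi transvection lies in the class of `y`.** -/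
theorem exists_levi [Finite G] (P : Pair t Q K y) (F : Frame t Q K idx) {xe : ℕ → G} (X : Lift t Q K xe)
    {j : ℕ} (hj : j < 5) : ∃ k, InCl t y k ∧ Levi t Q K idx xe (cw j) (levM j 0) (levS j) k := by
  classical
  have I := F.idx_ok
  obtain ⟨h, hh, hπ, A⟩ := F.lev j hj
  obtain ⟨hlev, hlev0⟩ := levS_facts j hj
  have hlt : ∀ z < 16, levS j z < 16 := fun z hz => levS_lt hj hz
  have hd : ∀ i < 4, ∃ d, h * xe (2 ^ i) * h⁻¹ = xe (levS j (2 ^ i)) * tw t d := by
    intro i hi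
    have hp : 2 ^ i < 16 := Nat.pow_lt_pow_right (m := i) (n := 4) (by norm_num) hi
    refine Coord.eq_of_c P.S K (Setup.na_conj P.S hh (X.mem _ hp)) (X.mem _ (hlt _ hp)) ?_
    rw [K.act ⟨h, hh⟩ (cw j) hπ.symm _ (X.mem _ hp), X.c _ hp, X.c _ (hlt _ hp), cw_levS j hj _ hp]
  choose! d hd using hd
  obtain ⟨l, hl, l0, l1, l2, l3⟩ := fix_vec j hj (d 0) (d 1) (d 2) (d 3)
  obtain ⟨e, he, hec, heW⟩ := ew_coord (K := K) P.S hl
  have heA := E_le_AA P.S he heW
  have hgen : ∀ i < 4, (e * h) * xe (2 ^ i) * (e * h)⁻¹ = xe (levS j (2 ^ i)) := by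
    intro i hi
    have hp : 2 ^ i < 16 := Nat.pow_lt_pow_right (m := i) (n := 4) (by norm_num) hi
    have hb : Bv (K.c e) (K.c (xe (levS j (2 ^ i)))) = d i := by
      rw [hec, X.c _ (hlt _ hp), w_dual l hl _ (hlt _ hp)]
      interval_cases i
      exacts [l0, l1, l2, l3]
    rw [show e * h * xe (2 ^ i) * (e * h)⁻¹ = e * (h * xe (2 ^ i) * h⁻¹) * e⁻¹ by group, hd i hi,
      show e * (xe (levS j (2 ^ i)) * tw t (d i)) * e⁻¹ =
        (e * xe (levS j (2 ^ i)) * e⁻¹) * (e * tw t (d i) * e⁻¹) by group,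
      Coord.rule P.S K he (X.mem _ (hlt _ hp)), Setup.conj_tw P.S (Setup.na_comm P.S he), hb, mul_assoc,
      Setup.tw_mul P.S, Bool.xor_self, tw_false, mul_one]
  have hall : ∀ z < 16, (e * h) * xe z * (e * h)⁻¹ = xe (levS j z) := by
    intro z
    induction z using Nat.strong_induction_on with
    | _ z ih =>
      intro hz
      rcases fz_step z hz with rfl | ⟨i, hi, r, hr, rfl⟩
      · rw [hlev0, X.one]; group
      · have hp : 2 ^ i < 16 := Nat.pow_lt_pow_right (m := i) (n := 4) (by norm_num) hi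
        have hr16 : r < 16 := lt_trans hr hz
        show e * h * xe (r ^^^ 2 ^ i) * (e * h)⁻¹ = xe (levS j (Nat.xor r (2 ^ i)))
        rw [← X.mul r hr16 _ hp, (hlev r hr16).2 _ hp,
          show e * h * (xe r * xe (2 ^ i)) * (e * h)⁻¹ = (e * h * xe r * (e * h)⁻¹) * (e * h * xe (2 ^ i) * (e * h)⁻¹)
            by group, ih r hr hr16, hgen i hi, X.mul _ (hlt r hr16) _ (hlt _ hp)]
        rfl
  have hehC : e * h ∈ Subgroup.centralizer {t} := mul_mem (P.S.le he) hh
  have L : Levi t Q K idx xe (cw j) (levM j 0) (levS j) (e * h) := by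
    refine ⟨hehC, fun hk => ?_, ⟨mul_mem (Subgroup.le_normalizer heA) A.norm, fun a ha => ?_⟩,
      fun z hz => ⟨hlt z hz, hall z hz⟩⟩
    · rw [show (⟨e * h, hk⟩ : ↥(Subgroup.centralizer ({t} : Set G))) = ⟨e, P.S.le he⟩ * ⟨h, hh⟩ from rfl,
        map_mul, (K.ker ⟨e, _⟩).2 he, one_mul, hπ]
    · rw [show e * h * a * (e * h)⁻¹ = e * (h * a * h⁻¹) * e⁻¹ by group, P.AA_comm tv_mem heA (A.mem ha),
        mul_inv_cancel_right, A.eq a ha]
  set k := e * h with hk
  -- over the first transvection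
  obtain ⟨⟨c, hc⟩, hcπ⟩ := exists_lift K tv_mem (levC.getD j [])
  set z := c⁻¹ * k * c with hz
  have hzC : z ∈ Subgroup.centralizer {t} := mul_mem (mul_mem (inv_mem hc) L.mem) hc
  have hzπ : K.π ⟨z, hzC⟩ = tv 0 := by
    rw [show (⟨z, hzC⟩ : ↥(Subgroup.centralizer ({t} : Set G))) = ⟨c, hc⟩⁻¹ * ⟨k, L.mem⟩ * ⟨c, hc⟩ from rfl,
      map_mul, map_mul, map_inv, L.img, hcπ, ← permW_eq_iff.2 (levC_ok j hj), permW_append,
      show permW (0 :: (levC.getD j []).reverse) = tv 0 * permW (levC.getD j []).reverse from rfl, permW_reverse]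
    group
  set x := y⁻¹ * z with hx
  have hxC : x ∈ Subgroup.centralizer {t} := mul_mem (inv_mem P.mem) hzC
  have hxQ : x ∈ Q := (K.ker ⟨x, hxC⟩).1 (by
    rw [show (⟨x, hxC⟩ : ↥(Subgroup.centralizer ({t} : Set G))) = ⟨y, P.mem⟩⁻¹ * ⟨z, hzC⟩ from rfl, map_mul,
      map_inv, P.img, hzπ, inv_mul_cancel])
  have hk2 : k * k = 1 ∨ k * k = t := by
    rcases Levi.same P I X (X.levi_one I) (L.mul L)
      (by rw [permW_append]; exact (by simpa [permW_append, permW] using (permW_eq_iff.2 (cox_comm j hj).2).symm))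
      (by
        refine List.ext_getElem (by simp [comp, levM, imgs, idM]) fun i i1 i2 => ?_
        have hi : i < 10 := by simpa [idM] using i1
        rw [← List.getD_eq_getElem _ 0 i1, ← List.getD_eq_getElem _ 0 i2, ← ap_two_pow, ← ap_two_pow, ap_comp,
          levM_invol hj (Nat.pow_lt_pow_right (m := i) (n := 10) (by norm_num) hi)]
        exact (by decide +kernel : ∀ k < 10, ap idM (2 ^ k) = 2 ^ k) i hi)
      (fun z hz => (hlev z hz).1.symm) with e' | e'
    · exact Or.inl e'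
    · exact Or.inr (by rw [e', one_mul])
  have hz2 : ∃ b, z * z = tw t b := by
    rcases hk2 with e' | e'
    · exact ⟨false, by rw [hz, show c⁻¹ * k * c * (c⁻¹ * k * c) = c⁻¹ * (k * k) * c by group, e', tw_false]; group⟩
    · refine ⟨true, ?_⟩
      rw [hz, show c⁻¹ * k * c * (c⁻¹ * k * c) = c⁻¹ * (k * k) * c by group, e', tw_true, mul_assoc,
        ← Subgroup.mem_centralizer_singleton_iff.1 hc, inv_mul_cancel_left]
  obtain ⟨b, hb⟩ := hz2
  have hzy : z = y * x := by rw [hx, mul_inv_cancel_left]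
  have hxW : inW (K.c x) = true := by
    refine sg0_twist _ (K.c_lt x hxQ) ?_
    have hyi : y⁻¹ = y := inv_eq_of_mul_eq_one_right P.ysq
    have e1 : y * x * y⁻¹ = tw t b * x⁻¹ := by
      rw [← hb, hzy, hyi]; group
    rw [← P.yact hxQ, e1, K.c_mul _ (Setup.tw_mem P.S b) _ (Q.inv_mem hxQ), Coord.c_tw P.S K, Nat.zero_xor,
      Coord.c_inv P.S K hxQ, Nat.beq_refl]
  have hxA := E_le_AA P.S hxQ hxW
  have hyA := P.y_mem tv_mem
  obtain ⟨a, ha, hya⟩ := idx_y P I
  have hidx : idx x < 32 := by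
    have := I.form x hxA 0 (frm_Q P.S hxQ) (by decide)
    omega
  obtain ⟨v, hv, hcov⟩ := cover_tab a ha _ hidx
  obtain ⟨q, hq, hqc⟩ := K.c_surj (fz v) (fz_facts v hv).1
  have hq' := I.transl q hq y hyA
  rw [hqc, (fz_facts v hv).2, hya] at hq'
  rcases hcov with hcov | hcov <;> rw [hcov] at hq'
  · have e1 : q * y * q⁻¹ = z := by
      refine I.eq_of P tv_mem (q_conj P hq hyA) (hzy ▸ mul_mem hyA hxA) ?_
      rw [hq', hzy, I.mul y hyA x hxA, hya]
      rfl
    refine ⟨k, ⟨c * q, mul_mem hc (P.S.le hq), ?_⟩, L⟩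
    rw [show c * q * y * (c * q)⁻¹ = c * (q * y * q⁻¹) * c⁻¹ by group, e1, hz]
    group
  · have e1 : q * y * q⁻¹ = z * t := by
      refine I.eq_of P tv_mem (q_conj P hq hyA) (mul_mem (hzy ▸ mul_mem hyA hxA) (t_mem P)) ?_
      rw [hq', I.mul z (hzy ▸ mul_mem hyA hxA) t (t_mem P), I.one_t, hzy, I.mul y hyA x hxA, hya]
      rfl
    refine ⟨k * t, ⟨c * q, mul_mem hc (P.S.le hq), ?_⟩, L.twist P X I⟩
    rw [show c * q * y * (c * q)⁻¹ = c * (q * y * q⁻¹) * c⁻¹ by group, e1, hz,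
      show c * (c⁻¹ * k * c * t) * c⁻¹ = k * (c * t * c⁻¹) by group,
      Subgroup.mem_centralizer_singleton_iff.1 hc, mul_inv_cancel_right]

/-- Two members of the class never differ by `t`. -/
theorem InCl.ne_twist [Finite G] (P : Pair t Q K y) (F : Frame t Q K idx) {a b : G} (ha : InCl t y a)
    (hb : InCl t y b) : b ≠ a * t := by
  obtain ⟨c, hc, rfl⟩ := ha
  obtain ⟨d, hd, rfl⟩ := hb
  intro e
  refine notwist P F (c := c⁻¹ * d) (mul_mem (inv_mem hc) hd) ?_
  calc c⁻¹ * d * y * (c⁻¹ * d)⁻¹ = c⁻¹ * (d * y * d⁻¹) * c := by group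
    _ = y * (c⁻¹ * (t * c)) := by rw [e]; group
    _ = y * t := by rw [← Subgroup.mem_centralizer_singleton_iff.1 hc, inv_mul_cancel_left]

/-- **The five involutions satisfy the Coxeter relations.** -/
theorem exists_rels [Finite G] (P : Pair t Q K y) (F : Frame t Q K idx) {xe : ℕ → G} (X : Lift t Q K xe) :
    ∃ s : ℕ → G, Rels s 5 ∧ ∀ j < 5, Levi t Q K idx xe (cw j) (levM j 0) (levS j) (s j) := by
  classical
  have I := F.idx_ok
  choose! s hs hL using fun j (hj : j < 5) => exists_levi P F X hj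
  have inv : ∀ j < 5, (s j)⁻¹ = s j := fun j hj => inv_eq_of_mul_eq_one_right ((hs j hj).sq P)
  refine ⟨s, ⟨fun i hi => (hs i hi).sq P, fun i hi => ?_, fun i j hij hj => ?_⟩, hL⟩
  · have hi5 : i < 5 := by omega
    obtain ⟨h1, h2, h3⟩ := (lev_rel_words (i + 1) hi i hi5).1 rfl
    have La := (hL i hi5).mul ((hL (i + 1) hi).mul (hL i hi5))
    have Lb := (hL (i + 1) hi).mul ((hL i hi5).mul (hL (i + 1) hi))
    have ha : InCl t y (s i * (s (i + 1) * s i)) := by
      have := (hs (i + 1) hi).conj (h := s i) (hL i hi5).mem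
      rwa [inv i hi5, mul_assoc] at this
    have hb : InCl t y (s (i + 1) * (s i * s (i + 1))) := by
      have := (hs i hi5).conj (h := s (i + 1)) (hL (i + 1) hi).mem
      rwa [inv (i + 1) hi, mul_assoc] at this
    rcases Levi.same P I X La Lb (permW_eq_iff.2 h1) h2 h3 with e | e
    · rw [mul_assoc, mul_assoc]; exact e.symm
    · exact absurd e (InCl.ne_twist P F ha hb)
  · have hi5 : i < 5 := by omega
    obtain ⟨h1, h2, h3⟩ := (lev_rel_words j hj i hi5).2 hij
    have La := (hL j hj).mul ((hL i hi5).mul (hL j hj))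
    have ha : InCl t y (s j * (s i * s j)) := by
      have := (hs i hi5).conj (h := s j) (hL j hj).mem
      rwa [inv j hj, mul_assoc] at this
    rcases Levi.same P I X La (hL i hi5) (permW_eq_iff.2 h1) h2 h3 with e | e
    · calc s i * s j = s j * (s i * s j) * s j := by rw [← e]
        _ = s j * s i := by rw [mul_assoc, mul_assoc, (hs j hj).sq P, mul_one]
    · exact absurd e (InCl.ne_twist P F ha (hs i hi5))

end Cfsg.Agent.Co2Recog.NA
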