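import Cfsg.Agent.Lib.Co2Recog.NA.Fuse
import Cfsg.Agent.Lib.Co2Recog.NA.Stab

/-!
The conjugates of `t` under the normaliser of `A` are the 77 distinguished functions; hence the elements of the
normaliser act as symmetries of that set, and `y` is not conjugate to `y t` in the centraliser.
-/

set_option autoImplicit false
set_option maxRecDepth 100000

namespace Cfsg.Agent.Co2Recog.NA

open Cfsg.Agent.ThRec.Eight (ap ap_xor ap_zero)

theorem seven_bits : ∀ b0 b1 b2 b3 b4 b5 b6 : Bool, ∃ m < 128, m.testBit 0 = b0 ∧ m.testBit 1 = b1 ∧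
    m.testBit 2 = b2 ∧ m.testBit 3 = b3 ∧ m.testBit 4 = b4 ∧ m.testBit 5 = b5 ∧ m.testBit 6 = b6 := by
  intro b0 b1 b2 b3 b4 b5 b6
  refine ⟨bn b0 1 ^^^ bn b1 2 ^^^ bn b2 4 ^^^ bn b3 8 ^^^ bn b4 16 ^^^ bn b5 32 ^^^ bn b6 64, ?_⟩
  revert b0 b1 b2 b3 b4 b5 b6
  decide +kernel

theorem low_orbs : (mem 1 == [1]) = true ∧ (orb 0).1 = 0 ∧ (orb 1).1 = 1 ∧ (orb 2).1 = 2 ∧
    (∀ a < 32, ((mem 8).contains (Nat.xor 512 a) || (mem 9).contains (Nat.xor 512 a)) = true) ∧
    (∀ a < 32, (inS (Nat.xor 512 a) && inS (Nat.xor (Nat.xor 512 a) 1)) = false) := by decide +kernel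

theorem all_length : ((List.range 10).flatMap mem).length = 1024 := by decide +kernel

theorem all_nodup : ((List.range 10).flatMap mem).Nodup := by
  classical
  suffices hc : ((List.range 10).flatMap mem).toFinset.card = ((List.range 10).flatMap mem).length by
    rw [List.card_toFinset] at hc
    exact (List.dedup_sublist _).eq_of_length hc ▸ List.nodup_dedup _
  have h : ((List.range 10).flatMap mem).toFinset = Finset.range 1024 := by
    ext x
    rw [List.mem_toFinset, List.mem_flatMap, Finset.mem_range]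
    constructor
    · rintro ⟨o, ho, hx⟩
      have h := List.all_eq_true.1 orb_ok o ho
      rw [Bool.and_eq_true] at h
      simpa [Nat.blt_eq] using List.all_eq_true.1 h.2 x hx
    · intro hx
      obtain ⟨o, ho, h⟩ := exists_orb hx
      exact ⟨o, List.mem_range.2 ho, h⟩
  rw [h, Finset.card_range, all_length]

theorem cond_sublist {p : ℕ → Bool} {f : ℕ → List ℕ} :
    ∀ l : List ℕ, (l.flatMap fun j => cond (p j) (f j) []).Sublist (l.flatMap f)
  | [] => List.Sublist.refl _
  | j :: l => by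
    simp only [List.flatMap_cons]
    cases p j
    · exact (cond_sublist l).trans (List.sublist_append_right _ _)
    · exact (List.Sublist.refl _).append (cond_sublist l)

theorem opt_nodup (m : ℕ) : (optL m).Nodup := by
  have h1 : ((List.range 7).flatMap fun j => mem (j + 3)) = (List.range' 3 7).flatMap mem := by
    rw [show List.range' 3 7 = (List.range 7).map (· + 3) from rfl, List.flatMap_map]
  have hsub : ([1] ++ (List.range' 3 7).flatMap mem).Sublist ((List.range 10).flatMap mem) := by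
    rw [show List.range 10 = [0, 1, 2] ++ List.range' 3 7 from rfl, List.flatMap_append]
    refine List.Sublist.append ?_ (List.Sublist.refl _)
    rw [← beq_iff_eq.1 low_orbs.1]
    simp only [List.flatMap_cons, List.flatMap_nil, List.append_nil]
    exact (List.sublist_append_left (mem 1) _).trans (List.sublist_append_right _ _)
  refine all_nodup.sublist (List.Sublist.trans ?_ hsub)
  rw [← h1]
  exact List.Sublist.cons_cons 1 (cond_sublist _)

theorem foldl_lor : ∀ (l : List ℕ) (a x : ℕ),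
    (l.foldl (fun a x => Nat.lor a (2 ^ x)) a).testBit x = (a.testBit x || l.contains x)
  | [], a, x => by simp
  | b :: l, a, x => by
    rw [List.foldl_cons, foldl_lor l, show Nat.lor a (2 ^ b) = a ||| 2 ^ b from rfl, Nat.testBit_or,
      Nat.testBit_two_pow, List.contains_cons, Bool.or_assoc]
    congr 2
    by_cases h : b = x
    · subst h; simp
    · simp [h, Ne.symm h]

theorem optB_iff (m x : ℕ) : (optB m).testBit x = true ↔ x ∈ optL m := by
  rw [optB, foldl_lor, Nat.zero_testBit, Bool.false_or]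
  simp

variable {G : Type*} [Group G] {t : G} {Q : Subgroup G} {K : Coords t Q} {y : G} {idx : G → ℕ}

/-- The conjugates of `t` under the normaliser, as functions. -/
def InOrb (t : G) (Q : Subgroup G) (K : Coords t Q) (idx : G → ℕ) (n : ℕ) : Prop :=
  ∃ g ∈ Subgroup.normalizer (AA K : Set G), idx (g * t * g⁻¹) = n

theorem t_mem (P : Pair t Q K y) : t ∈ AA K := E_le_AA P.S (Setup.na_mem P.S) (by rw [Coord.c_t P.S K]; rfl)

theorem InOrb.conj (P : Pair t Q K y) {h : G} {M : List ℕ} (A : Acts t Q K idx h M) {n : ℕ}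
    (hn : InOrb t Q K idx n) : InOrb t Q K idx (ap M n) := by
  obtain ⟨g, hg, rfl⟩ := hn
  refine ⟨h * g, mul_mem A.norm hg, ?_⟩
  rw [show h * g * t * (h * g)⁻¹ = h * (g * t * g⁻¹) * h⁻¹ by group,
    A.eq _ ((Subgroup.mem_normalizer_iff.1 hg t).1 (t_mem P))]

theorem exists_gen (P : Pair t Q K y) (F : Frame t Q K idx) {k : ℕ} (hk : k < 9) :
    ∃ h : G, h ∈ Subgroup.centralizer {t} ∧ Acts t Q K idx h (genM k) := by
  rw [genM]
  by_cases h4 : k < 4
  · rw [show Nat.blt k 4 = true by simpa [Nat.blt_eq] using h4, cond_true]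
    have hx : 2 ^ k < 16 := Nat.pow_lt_pow_right (m := k) (n := 4) (by norm_num) h4
    obtain ⟨q, hq, hc⟩ := K.c_surj (fz (2 ^ k)) (fz_facts _ hx).1
    have hA := F.idx_ok.acts_q P hq
    rw [hc, (fz_facts _ hx).2] at hA
    exact ⟨q, P.S.le hq, hA⟩
  · rw [show Nat.blt k 4 = false by rw [Bool.eq_false_iff]; intro h; exact h4 (by simpa [Nat.blt_eq] using h), cond_false]
    obtain ⟨h, hh, -, A⟩ := F.lev (k - 4) (by omega)
    exact ⟨h, hh, A⟩

theorem InOrb.orbit (P : Pair t Q K y) (F : Frame t Q K idx) {o : ℕ} (ho : o < 10) {x : ℕ} (hx : x ∈ mem o) :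
    x < 1024 ∧ (InOrb t Q K idx x ↔ InOrb t Q K idx (orb o).1) := by
  have hok := List.all_eq_true.1 orb_ok o (List.mem_range.2 ho)
  rw [Bool.and_eq_true] at hok
  refine orb_prop (P := fun x => x < 1024 ∧ (InOrb t Q K idx x ↔ InOrb t Q K idx (orb o).1)) ?_ ho ?_ x hx
  · intro k hk x ⟨hlt, hx⟩
    obtain ⟨h, -, A⟩ := exists_gen P F hk
    refine ⟨A.lt F.idx_ok hlt, ⟨fun h' => hx.1 ?_, fun h' => InOrb.conj P A (hx.2 h')⟩⟩
    have := InOrb.conj P A h'
    rwa [gen_inv hk hlt] at this
  · exact ⟨by simpa [Nat.blt_eq] using List.all_eq_true.1 hok.2 _ List.mem_cons_self, Iff.rfl⟩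

theorem acts_bij [Finite G] (P : Pair t Q K y) (I : Idx t Q K idx) {h : G} {M : List ℕ}
    (A : Acts t Q K idx h M) {u v : ℕ} (hu : u < 1024) (hv : v < 1024) (e : ap M u = ap M v) : u = v := by
  obtain ⟨a, ha, rfl⟩ := I.surj u hu
  obtain ⟨b, hb, rfl⟩ := I.surj v hv
  rw [← A.eq a ha, ← A.eq b hb] at e
  have := I.eq_of P tv_mem (A.mem ha) (A.mem hb) e
  rw [conj_injective this]
where
  conj_injective {h a b : G} (e : h * a * h⁻¹ = h * b * h⁻¹) : a = b := by simpa using e

/-- **The conjugates are the 77.** -/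
theorem inOrb_iff [Finite G] (P : Pair t Q K y) (F : Frame t Q K idx) {n : ℕ} (hn : n < 1024) :
    InOrb t Q K idx n ↔ inS n = true := by
  classical
  obtain ⟨-, h0, h1, h2, hy, -⟩ := low_orbs
  have I := F.idx_ok
  let B : ℕ → Bool := fun j => decide (InOrb t Q K idx (orb (j + 3)).1)
  obtain ⟨m, hm, b0, b1, b2, b3, b4, b5, b6⟩ := seven_bits (B 0) (B 1) (B 2) (B 3) (B 4) (B 5) (B 6)
  have hbit : ∀ j < 7, m.testBit j = B j := by
    intro j hj
    interval_cases j
    exacts [b0, b1, b2, b3, b4, b5, b6]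
  have hone : InOrb t Q K idx 1 := ⟨1, one_mem _, by rw [one_mul, inv_one, mul_one, I.one_t]⟩
  have hno0 : ¬ InOrb t Q K idx 0 := by
    rintro ⟨g, hg, e⟩
    have := I.inj _ ((Subgroup.mem_normalizer_iff.1 hg t).1 (t_mem P)) e
    exact Setup.na_ne P.S (by simpa using this)
  have hno2 : ¬ InOrb t Q K idx 2 := by
    rintro ⟨g, hg, e⟩
    have ha := (Subgroup.mem_normalizer_iff.1 hg t).1 (t_mem P)
    obtain ⟨b, hf, hv⟩ := P.frm_ok tv_mem ha
    have h32 := I.form _ ha b hf hv
    rw [e] at h32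
    obtain rfl := valid_zero b hf.1 hv h32.symm
    refine P.nf ⟨g, mem_Q_of_frm (K := K) P.S (AA_cent ha) hf, fun e' => ?_⟩
    rw [e', I.one_t] at e
    omega
  have hmem : ∀ x < 1024, (InOrb t Q K idx x ↔ x ∈ optL m) := by
    intro x hx
    obtain ⟨o, ho, hxo⟩ := exists_orb hx
    rw [(InOrb.orbit P F ho hxo).2]
    have hopt : ∀ z, z ∈ optL m ↔ z ∈ mem 1 ∨ ∃ j < 7, m.testBit j = true ∧ z ∈ mem (j + 3) := by
      intro z
      rw [optL, List.mem_cons, List.mem_flatMap, beq_iff_eq.1 low_orbs.1, List.mem_singleton]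
      refine or_congr_right ⟨?_, ?_⟩
      · rintro ⟨j, hj, hz⟩
        cases hb : m.testBit j <;> rw [hb] at hz
        · exact absurd hz (List.not_mem_nil)
        · exact ⟨j, List.mem_range.1 hj, hb, hz⟩
      · rintro ⟨j, hj, hb, hz⟩
        exact ⟨j, List.mem_range.2 hj, by rw [hb]; exact hz⟩
    have huniq : ∀ o' < 10, x ∈ mem o' → o' = o := by
      intro o' ho' hx'
      by_contra hne
      have hd : ∀ a < 10, ∀ b < 10, a < b → List.Disjoint (mem a) (mem b) := by
        intro a ha b hb hab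
        have := List.pairwise_iff_getElem.1 (List.nodup_flatMap.1 all_nodup).2 a b (by simpa using ha)
          (by simpa using hb) hab
        simpa [Function.onFun] using this
      rcases Nat.lt_or_gt_of_ne hne with h | h
      · exact hd o' ho' o ho h hx' hxo
      · exact hd o ho o' ho' h hxo hx'
    constructor
    · intro h
      rw [hopt]
      rcases (by omega : o = 0 ∨ o = 1 ∨ o = 2 ∨ 3 ≤ o) with rfl | rfl | rfl | h3
      · exact absurd (h0 ▸ h) hno0
      · exact Or.inl hxo
      · exact absurd (h2 ▸ h) hno2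
      · refine Or.inr ⟨o - 3, by omega, ?_, by rwa [Nat.sub_add_cancel h3]⟩
        rw [hbit _ (by omega)]
        simp only [B, decide_eq_true_eq, Nat.sub_add_cancel h3]
        exact h
    · intro h
      rcases (hopt x).1 h with h | ⟨j, hj, hb, h⟩
      · rw [← huniq 1 (by norm_num) h, h1]; exact hone
      · rw [← huniq _ (by omega) h]
        rw [hbit j hj] at hb
        exact of_decide_eq_true hb
  have hBm : ∀ x < 1024, ((optB m).testBit x = true ↔ InOrb t Q K idx x) := fun x hx => by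
    rw [optB_iff, hmem x hx]
  have hLlt : ∀ x ∈ optL m, x < 1024 := by
    intro x hx
    rcases List.mem_cons.1 hx with rfl | hx
    · norm_num
    · obtain ⟨j, hj, hx⟩ := List.mem_flatMap.1 hx
      cases hb : m.testBit j <;> rw [hb] at hx
      · exact absurd hx (List.not_mem_nil)
      · exact (InOrb.orbit P F (by have := List.mem_range.1 hj; omega) hx).1
  -- invariance of the counts
  have hinv : ∀ g ∈ Subgroup.normalizer (AA K : Set G), ∃ M, ap M 1 = idx (g * t * g⁻¹) ∧
      (∀ v < 1024, ap M v < 1024) ∧ (∀ v < 1024, cF (optL m) (optB m) (ap M v) = cF (optL m) (optB m) v) ∧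
      ((optL m).map (ap M)).Perm (optL m) := by
    intro g hg
    obtain ⟨M, A⟩ := exists_mat P I tv_mem hg
    obtain ⟨M', A'⟩ := exists_mat P I tv_mem (inv_mem hg)
    have hlt : ∀ v < 1024, ap M v < 1024 := fun v hv => A.lt I hv
    have hback : ∀ v < 1024, ap M' (ap M v) = v ∧ ap M (ap M' v) = v := by
      intro v hv
      obtain ⟨a, ha, rfl⟩ := I.surj v hv
      constructor
      · rw [← A.eq a ha, ← A'.eq _ (A.mem ha)]; congr 1; group
      · rw [← A'.eq a ha, ← A.eq _ (A'.mem ha)]; congr 1; group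
    have hiff : ∀ v < 1024, (InOrb t Q K idx (ap M v) ↔ InOrb t Q K idx v) := fun v hv =>
      ⟨fun h => (hback v hv).1 ▸ InOrb.conj P A' h, InOrb.conj P A⟩
    have hperm : ((optL m).map (ap M)).Perm (optL m) := by
      refine List.perm_of_nodup_nodup_toFinset_eq ?_ (opt_nodup m) ?_
      · exact (opt_nodup m).map_on fun a ha b hb e => by
          rw [← (hback a (hLlt a ha)).1, e, (hback b (hLlt b hb)).1]
      · ext x
        simp only [List.mem_toFinset, List.mem_map]
        constructor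
        · rintro ⟨v, hv, rfl⟩
          exact (hmem _ (hlt v (hLlt v hv))).1 ((hiff v (hLlt v hv)).2 ((hmem v (hLlt v hv)).2 hv))
        · intro hx
          have hx' := hLlt x hx
          have hv := A'.lt I hx'
          exact ⟨ap M' x, (hmem _ hv).1 ((hiff _ hv).1 ((hback x hx').2.symm ▸ (hmem x hx').2 hx)),
            (hback x hx').2⟩
    refine ⟨M, by rw [← I.one_t, ← A.eq t (t_mem P)], hlt, fun v hv => ?_, hperm⟩
    show ((optL m).filter fun b => (optB m).testBit (Nat.xor (ap M v) b)).length =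
      ((optL m).filter fun b => (optB m).testBit (Nat.xor v b)).length
    rw [← List.countP_eq_length_filter, ← List.countP_eq_length_filter, ← hperm.countP_eq, List.countP_map]
    refine List.countP_congr fun b hb => ?_
    have hvb : v ^^^ b < 1024 := lt10 hv (hLlt b hb)
    show (optB m).testBit (ap M v ^^^ ap M b) = true ↔ (optB m).testBit (v ^^^ b) = true
    rw [← ap_xor, hBm _ (hlt _ hvb), hBm _ hvb, hiff _ hvb]
  have hcount : ∀ j < 7, m.testBit j = true →
      cF (optL m) (optB m) (orb (j + 3)).1 = cF (optL m) (optB m) 1 ∧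
      cG (optL m) (optB m) (orb (j + 3)).1 = cG (optL m) (optB m) 1 := by
    intro j hj hb
    rw [hbit j hj] at hb
    obtain ⟨g, hg, e⟩ := of_decide_eq_true hb
    obtain ⟨M, hM, hlt, hcf, hperm⟩ := hinv g hg
    rw [e] at hM
    rw [← hM]
    refine ⟨hcf 1 (by norm_num), ?_⟩
    show ((optL m).map fun b => cF (optL m) (optB m) (Nat.xor (ap M 1) b)).sum =
      ((optL m).map fun b => cF (optL m) (optB m) (Nat.xor 1 b)).sum
    rw [← (hperm.map fun b => cF (optL m) (optB m) (Nat.xor (ap M 1) b)).sum_eq, List.map_map]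
    refine congrArg List.sum (List.map_congr_left fun b hb => ?_)
    show cF _ _ (ap M 1 ^^^ ap M b) = cF _ _ (1 ^^^ b)
    rw [← ap_xor, hcf _ (lt10 (by norm_num) (hLlt b hb))]
  have hyB : InOrb t Q K idx (idx y) := by
    obtain ⟨g, hg, e⟩ := exists_fuse P F
    exact ⟨g, hg, by rw [e]⟩
  obtain ⟨a, ha, hya⟩ := idx_y P I
  rw [hya] at hyB
  have hp : passes m = true := by
    simp only [passes, Bool.and_eq_true, Bool.or_eq_true, List.all_eq_true, List.mem_range, Bool.not_eq_true',
      Nat.beq_eq]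
    refine ⟨⟨?_, fun j hj => ?_⟩, fun j hj => ?_⟩
    · rcases Bool.or_eq_true_iff.1 (hy a ha) with h | h
      · left
        rw [hbit 5 (by norm_num)]
        exact decide_eq_true ((InOrb.orbit P F (o := 8) (by norm_num) (by simpa using h)).2.1 hyB)
      · right
        rw [hbit 6 (by norm_num)]
        exact decide_eq_true ((InOrb.orbit P F (o := 9) (by norm_num) (by simpa using h)).2.1 hyB)
    · cases hb : m.testBit j
      · exact Or.inl rfl
      · exact Or.inr (hcount j hj hb).1
    · have hj' : j < 7 := by simp at hj; omega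
      cases hb : m.testBit j
      · exact Or.inl rfl
      · exact Or.inr (hcount j hj' hb).2
  have h66 := List.all_eq_true.1 passes_only m (List.mem_range.2 hm)
  rw [hp, Bool.not_true, Bool.false_or, Nat.beq_eq] at h66
  subst h66
  rw [← hBm n hn, Nat.eq_of_beq_eq_true opt_66.1]
  rfl

/-- **Symmetry**: the elements of the normaliser preserve the 77. -/
theorem acts_keep [Finite G] (P : Pair t Q K y) (F : Frame t Q K idx) {h : G} {M : List ℕ}
    (A : Acts t Q K idx h M) {n : ℕ} (hn : n < 1024) : inS (ap M n) = inS n := by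
  rw [Bool.eq_iff_iff, ← inOrb_iff P F (A.lt F.idx_ok hn), ← inOrb_iff P F hn]
  refine ⟨fun hh => ?_, InOrb.conj P A⟩
  obtain ⟨M', A'⟩ := exists_mat P F.idx_ok tv_mem (inv_mem A.norm)
  obtain ⟨a, ha, rfl⟩ := F.idx_ok.surj n hn
  have := InOrb.conj P A' hh
  rwa [← A.eq a ha, ← A'.eq _ (A.mem ha), show h⁻¹ * (h * a * h⁻¹) * h⁻¹⁻¹ = a by group] at this

/-- An element fixing `t` acts by a word in the nine generators. -/
theorem exists_gen_word [Finite G] (P : Pair t Q K y) (F : Frame t Q K idx) {h : G} {M : List ℕ}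
    (A : Acts t Q K idx h M) (ht : h * t = t * h) :
    ∃ w : List ℕ, (∀ k ∈ w, k < 9) ∧ ∀ n < 1024, ap M n = wact w n := by
  have I := F.idx_ok
  exact exists_word
    ⟨fun i hi => A.lt I hi, fun u _ v _ => ap_xor M u v, fun u hu v hv e => acts_bij P I A hu hv e,
      by rw [← I.one_t, ← A.eq t (t_mem P), ht, mul_inv_cancel_right],
      fun i hi => acts_keep P F A hi⟩

/-- **No twist**: `y` is not conjugate to `y t` in the centraliser of `t`. -/
theorem notwist [Finite G] (P : Pair t Q K y) (F : Frame t Q K idx) {c : G}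
    (hc : c ∈ Subgroup.centralizer {t}) : c * y * c⁻¹ ≠ y * t := by
  intro e
  have I := F.idx_ok
  have hyA := P.y_mem tv_mem
  have hn : c ∈ Subgroup.normalizer (AA K : Set G) := by
    refine conj_AA P hc ?_
    have h1 : K.π ⟨c, hc⟩ * K.π ⟨y, P.mem⟩ * (K.π ⟨c, hc⟩)⁻¹ = K.π ⟨y, P.mem⟩ := by
      rw [← map_mul, ← map_inv, ← map_mul]
      calc K.π (⟨c, hc⟩ * ⟨y, P.mem⟩ * ⟨c, hc⟩⁻¹) = K.π (⟨y, P.mem⟩ * ⟨t, P.S.le (Setup.na_mem P.S)⟩) :=
            congrArg K.π (Subtype.ext e)
        _ = _ := by rw [map_mul, (K.ker ⟨t, _⟩).2 (Setup.na_mem P.S), mul_one]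
    rw [← P.img P.mem]
    exact mul_inv_eq_iff_eq_mul.1 h1
  obtain ⟨M, A⟩ := exists_mat P I tv_mem hn
  obtain ⟨a, ha, hya⟩ := idx_y P I
  have h1 := A.eq y hyA
  rw [e, I.mul y hyA t (t_mem P), I.one_t, hya] at h1
  have hlt : Nat.xor 512 a < 1024 := Nat.xor_lt_two_pow (n := 10) (by norm_num) (by omega)
  have hy : inS (Nat.xor 512 a) = true := by
    rw [← inOrb_iff P F hlt, ← hya]
    obtain ⟨g, hg, e⟩ := exists_fuse P F
    exact ⟨g, hg, by rw [e]⟩
  have h2 := acts_keep P F A hlt
  rw [← h1, hy] at h2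
  have := low_orbs.2.2.2.2.2 a ha
  rw [hy, Bool.true_and] at this
  exact Bool.noConfusion (this.symm.trans h2)

end Cfsg.Agent.Co2Recog.NA
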