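import Cfsg.Agent.Lib.Co2Recog.NA.Space
import Mathlib

/-!
Orbits of the generated group on the 1024 functions, and the test which singles out the set of 77.
-/

set_option autoImplicit false
set_option maxRecDepth 100000

namespace Cfsg.Agent.Co2Recog.NA

open Cfsg.Agent.ThRec.Eight (ap ap_xor ap_zero)

/-- A word in the generators applied to a function, the first letter last. -/
def wact : List ℕ → ℕ → ℕ
  | [], i => i
  | k :: w, i => ap (genM k) (wact w i)

/-- Each new member is the image of a member already listed under a generator. -/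
def chainOK : List (ℕ × ℕ × ℕ) → ℕ → Bool
  | [], _ => true
  | (x, k, y) :: r, seen => Nat.blt k 9 && seen.testBit x && Nat.beq (ap (genM k) x) y &&
      chainOK r (Nat.lor seen (2 ^ y))

/-- An orbit of the table. -/
def orb (o : ℕ) : ℕ × List (ℕ × ℕ × ℕ) := orbData.getD o (0, [])

/-- Its members. -/
def mem (o : ℕ) : List ℕ := (orb o).1 :: (orb o).2.map fun e => e.2.2

theorem orb_ok : ((List.range 10).all fun o => chainOK (orb o).2 (2 ^ (orb o).1) &&
    (mem o).all fun x => Nat.blt x 1024) = true := by decide +kernel

theorem gen_invol : ((List.range 9).all fun k => (List.range 10).all fun b =>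
    Nat.beq (ap (genM k) (ap (genM k) (2 ^ b))) (2 ^ b) && Nat.blt ((genM k).getD b 0) 1024) = true := by
  decide +kernel

theorem chain_sound {P : ℕ → Prop} (hP : ∀ k < 9, ∀ x, P x → P (ap (genM k) x)) :
    ∀ (r : List (ℕ × ℕ × ℕ)) (seen : ℕ), (∀ x, seen.testBit x = true → P x) → chainOK r seen = true →
      ∀ e ∈ r, P e.2.2
  | [], _, _, _ => fun e he => (List.not_mem_nil he).elim
  | (x, k, y) :: r, seen, hs, hc => by
    simp only [chainOK, Bool.and_eq_true, Nat.beq_eq] at hc
    obtain ⟨⟨⟨hk, hx⟩, hy⟩, hr⟩ := hc
    have hy' : P y := hy ▸ hP k (by simpa [Nat.blt_eq] using hk) x (hs x hx)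
    intro e he
    rcases List.mem_cons.1 he with rfl | he
    · exact hy'
    · refine chain_sound hP r _ (fun z hz => ?_) hr e he
      rw [show Nat.lor seen (2 ^ y) = seen ||| 2 ^ y from rfl, Nat.testBit_or, Bool.or_eq_true] at hz
      rcases hz with hz | hz
      · exact hs z hz
      · rw [Nat.testBit_two_pow] at hz
        exact of_decide_eq_true hz ▸ hy'

/-- An invariant property passes from the first member to the whole orbit. -/
theorem orb_prop {P : ℕ → Prop} (hP : ∀ k < 9, ∀ x, P x → P (ap (genM k) x)) {o : ℕ} (ho : o < 10)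
    (h : P (orb o).1) : ∀ x ∈ mem o, P x := by
  have hc := List.all_eq_true.1 orb_ok o (List.mem_range.2 ho)
  rw [Bool.and_eq_true] at hc
  intro x hx
  rcases List.mem_cons.1 hx with rfl | hx
  · exact h
  · obtain ⟨e, he, rfl⟩ := List.mem_map.1 hx
    refine chain_sound hP _ _ (fun z hz => ?_) hc.1 e he
    rw [Nat.testBit_two_pow] at hz
    exact of_decide_eq_true hz ▸ h

/-- The members of all orbits, one bit each. -/
def allMask : ℕ := ((List.range 10).flatMap mem).foldl (fun m x => Nat.lor m (2 ^ x)) 0

theorem cover : ((List.range 1024).all fun i => (List.range 10).any fun o => (mem o).contains i) = true := by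
  decide +kernel

theorem exists_orb {i : ℕ} (hi : i < 1024) : ∃ o < 10, i ∈ mem o := by
  have h := List.all_eq_true.1 cover i (List.mem_range.2 hi)
  obtain ⟨o, ho, h⟩ := List.any_eq_true.1 h
  exact ⟨o, List.mem_range.1 ho, by simpa using h⟩

/-- The union of the orbits chosen by a mask, together with the first function. -/
def optL (m : ℕ) : List ℕ := 1 :: (List.range 7).flatMap fun j => cond (m.testBit j) (mem (j + 3)) []

/-- The same as bits. -/
def optB (m : ℕ) : ℕ := (optL m).foldl (fun a x => Nat.lor a (2 ^ x)) 0

/-- The number of members moved into the set by a function. -/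
def cF (L : List ℕ) (B x : ℕ) : ℕ := (L.filter fun b => B.testBit (Nat.xor x b)).length

/-- The number of pairs of members moved into the set by a function. -/
def cG (L : List ℕ) (B x : ℕ) : ℕ := (L.map fun b => cF L B (Nat.xor x b)).sum

/-- A choice of orbits passes the test. -/
def passes (m : ℕ) : Bool :=
  (m.testBit 5 || m.testBit 6) &&
    (List.range 7).all (fun j => !m.testBit j || Nat.beq (cF (optL m) (optB m) (orb (j + 3)).1)
      (cF (optL m) (optB m) 1)) &&
    ([5, 6].all fun j => !m.testBit j || Nat.beq (cG (optL m) (optB m) (orb (j + 3)).1)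
      (cG (optL m) (optB m) 1))

theorem passes_only : ((List.range 128).all fun m => !passes m || Nat.beq m 66) = true := by decide +kernel

theorem opt_66 : Nat.beq (optB 66) sMask = true ∧ (optL 66).length = 77 ∧ s77.length = 77 ∧
    (s77.all fun x => inS x && Nat.blt x 1024) = true ∧
    ((List.range 1024).all fun x => !inS x || s77.contains x) = true := by decide +kernel

theorem orb_reps : (List.range 10).map (fun o => (orb o).1) = [0, 1, 2, 32, 33, 36, 192, 193, 512, 513] :=
  by decide +kernel

end Cfsg.Agent.Co2Recog.NA
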