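import Cfsg.Agent.Lib.Co2Recog.NA.Data
import Cfsg.Agent.Lib.ThRec.ModuleLin

/-!
The space of 1024 functions of degree at most two on sixteen points with polar forms in a hyperplane,
written as ten-bit numbers, and the linear maps on it coming from permutations of the points.
-/

set_option autoImplicit false
set_option maxRecDepth 100000

namespace Cfsg.Agent.Co2Recog.NA

open Cfsg.Agent.ThRec.Eight (ap ap_xor ap_zero ap_map)

/-- The values of a function, as a set of points. -/
def fn (i : ℕ) : ℕ := ap mon i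

/-- The value of a function at a point. -/
def val (i z : ℕ) : Bool := (fn i).testBit z

/-- One bit as a number. -/
def bn (b : Bool) (w : ℕ) : ℕ := cond b w 0

/-- The number of a function given by its values. -/
def coord (F : ℕ → Bool) : ℕ :=
  bn (F 0) 1 ^^^ bn (F 0 ^^ F 1) 2 ^^^ bn (F 0 ^^ F 2) 4 ^^^ bn (F 0 ^^ F 4) 8 ^^^ bn (F 0 ^^ F 8) 16 ^^^
    bn ((F 0 ^^ F 1) ^^ (F 4 ^^ F 5)) 32 ^^^ bn ((F 0 ^^ F 1) ^^ (F 8 ^^ F 9)) 64 ^^^
    bn ((F 0 ^^ F 2) ^^ (F 4 ^^ F 6)) 128 ^^^ bn ((F 0 ^^ F 2) ^^ (F 8 ^^ F 10)) 256 ^^^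
    bn ((F 0 ^^ F 1) ^^ (F 2 ^^ F 3)) 512

/-- A function moved by a map of the points. -/
def pull (σ : ℕ → ℕ) (i : ℕ) : ℕ := coord fun z => val i (σ z)

/-- The parity of a number below 32. -/
def par (m : ℕ) : Bool :=
  (((m.testBit 0 ^^ m.testBit 1) ^^ m.testBit 2) ^^ m.testBit 3) ^^ m.testBit 4

/-- A functional on the polar forms, paired with a function. -/
def eta (g i : ℕ) : Bool := par (Nat.land g (Nat.div i 32))

/-- The images of the ten basic functions. -/
def imgs (f : ℕ → ℕ) : List ℕ := (List.range 10).map fun k => f (2 ^ k)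

/-- A translation of the points. -/
def trM (x : ℕ) : List ℕ := imgs (pull fun z => Nat.xor z x)

/-- A Levi permutation of the points. -/
def levS (j z : ℕ) : ℕ := (levP.getD j []).getD z 0

/-- A Levi map with a change of constants given by a functional on the polar forms. -/
def levM (j g : ℕ) : List ℕ := imgs fun i => Nat.xor (pull (levS j) i) (bn (eta g i) 1)

/-- The nine generators: four translations and five Levi maps. -/
def genM (k : ℕ) : List ℕ := cond (Nat.blt k 4) (trM (2 ^ k)) (levM (k - 4) 0)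

/-- Membership in the distinguished set. -/
def inS (i : ℕ) : Bool := sMask.testBit i

theorem coord_val : ((List.range 1024).all fun i => Nat.beq (coord (val i)) i) = true := by
  decide +kernel

theorem coord_fn {i : ℕ} (hi : i < 1024) : coord (val i) = i :=
  Nat.eq_of_beq_eq_true (List.all_eq_true.1 coord_val i (List.mem_range.2 hi))

theorem coord_lt (F : ℕ → Bool) : coord F < 1024 := by
  have h : ∀ (b : Bool) (w : ℕ), w < 1024 → bn b w < 2 ^ 10 := by
    intro b w hw
    cases b
    · exact Nat.pow_pos two_pos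
    · exact hw
  unfold coord
  repeat' first
    | exact h _ _ (by norm_num)
    | apply Nat.xor_lt_two_pow (n := 10)

theorem val_xor (i j z : ℕ) : val (i ^^^ j) z = (val i z ^^ val j z) := by
  rw [val, fn, ap_xor, Nat.testBit_xor]; rfl

theorem val_zero (z : ℕ) : val 0 z = false := by
  rw [val, fn, ap_zero, Nat.zero_testBit]

theorem val_one : ∀ z < 16, val 1 z = true := by decide +kernel

theorem bn_xor (b c : Bool) (w : ℕ) : bn (b ^^ c) w = bn b w ^^^ bn c w := by
  cases b <;> cases c <;> simp [bn]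

theorem coord_xor (F H : ℕ → Bool) : coord (fun z => F z ^^ H z) = coord F ^^^ coord H := by
  have e2 : ∀ a b c d : Bool, ((a ^^ b) ^^ (c ^^ d)) = ((a ^^ c) ^^ (b ^^ d)) := by decide
  have e4 : ∀ a b c d e f g h : Bool, (((a ^^ b) ^^ (c ^^ d)) ^^ ((e ^^ f) ^^ (g ^^ h))) =
      (((a ^^ c) ^^ (e ^^ g)) ^^ ((b ^^ d) ^^ (f ^^ h))) := by decide
  simp only [coord, e2 (F 0) (H 0), e4 (F 0) (H 0), bn_xor]
  ac_rfl

theorem pull_lt (σ : ℕ → ℕ) (i : ℕ) : pull σ i < 1024 := coord_lt _

theorem pull_xor (σ : ℕ → ℕ) (i j : ℕ) : pull σ (i ^^^ j) = pull σ i ^^^ pull σ j := by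
  unfold pull
  rw [← coord_xor]
  congr 1
  funext z
  exact val_xor i j (σ z)

theorem pull_zero (σ : ℕ → ℕ) : pull σ 0 = 0 := by
  have h := pull_xor σ 0 0
  rwa [Nat.xor_self, Nat.xor_self] at h

theorem par_xor (a b : ℕ) : par (a ^^^ b) = (par a ^^ par b) := by
  simp only [par, Nat.testBit_xor]
  cases a.testBit 0 <;> cases a.testBit 1 <;> cases a.testBit 2 <;> cases a.testBit 3 <;>
    cases a.testBit 4 <;> cases b.testBit 0 <;> cases b.testBit 1 <;> cases b.testBit 2 <;>
    cases b.testBit 3 <;> cases b.testBit 4 <;> rfl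

theorem eta_xor (g i j : ℕ) : eta g (i ^^^ j) = (eta g i ^^ eta g j) := by
  have h1 : Nat.div (i ^^^ j) 32 = Nat.div i 32 ^^^ Nat.div j 32 := by
    show (i ^^^ j) / 2 ^ 5 = i / 2 ^ 5 ^^^ j / 2 ^ 5
    exact Nat.xor_div_two_pow
  unfold eta
  rw [h1, show Nat.land g (Nat.div i 32 ^^^ Nat.div j 32) =
    Nat.land g (Nat.div i 32) ^^^ Nat.land g (Nat.div j 32) from Nat.and_xor_distrib_left, par_xor]

theorem eta_zero (g : ℕ) : eta g 0 = false := by
  have h := eta_xor g 0 0
  rw [Nat.xor_self, Bool.xor_self] at h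
  exact h

/-- A map which respects exclusive or is given by its images of the ten basic functions. -/
theorem ap_imgs {f : ℕ → ℕ} (h0 : f 0 = 0) (hx : ∀ u v, f (u ^^^ v) = f u ^^^ f v) {i : ℕ}
    (hi : i < 1024) : ap (imgs f) i = f i := by
  have hid : ((List.range 1024).all fun v =>
      Nat.beq (ap ((List.range 10).map fun k => 2 ^ k) v) v) = true := by decide +kernel
  rw [imgs, show (List.range 10).map (fun k => f (2 ^ k)) = ((List.range 10).map fun k => 2 ^ k).map f
    from by rw [List.map_map]; rfl, ap_map h0 hx,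
    Nat.eq_of_beq_eq_true (List.all_eq_true.1 hid i (List.mem_range.2 hi))]

theorem ap_trM (x : ℕ) {i : ℕ} (hi : i < 1024) : ap (trM x) i = pull (fun z => Nat.xor z x) i :=
  ap_imgs (pull_zero _) (pull_xor _) hi

theorem ap_levM (j g : ℕ) {i : ℕ} (hi : i < 1024) :
    ap (levM j g) i = pull (levS j) i ^^^ bn (eta g i) 1 :=
  ap_imgs (f := fun i => Nat.xor (pull (levS j) i) (bn (eta g i) 1))
    (by show pull (levS j) 0 ^^^ bn (eta g 0) 1 = 0
        rw [pull_zero, eta_zero]; rfl)
    (fun u v => by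
      show pull (levS j) (u ^^^ v) ^^^ bn (eta g (u ^^^ v)) 1 =
        (pull (levS j) u ^^^ bn (eta g u) 1) ^^^ (pull (levS j) v ^^^ bn (eta g v) 1)
      rw [pull_xor, eta_xor, bn_xor]; ac_rfl) hi

/-- Two additive predicates agreeing on the basic functions agree. -/
theorem bool_ext {f g : ℕ → Bool} (hf : ∀ u v, f (u ^^^ v) = (f u ^^ f v))
    (hg : ∀ u v, g (u ^^^ v) = (g u ^^ g v)) (h : ∀ k < 10, f (2 ^ k) = g (2 ^ k)) {i : ℕ}
    (hi : i < 1024) : f i = g i := by
  have z : ∀ {p : ℕ → Bool}, (∀ u v, p (u ^^^ v) = (p u ^^ p v)) → bn (p 0) 1 = 0 := by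
    intro p hp
    have := hp 0 0
    rw [Nat.xor_self, Bool.xor_self] at this
    rw [this]; rfl
  have e : ∀ {p : ℕ → Bool}, (∀ u v, p (u ^^^ v) = (p u ^^ p v)) →
      ap (imgs fun i => bn (p i) 1) i = bn (p i) 1 := fun {p} hp =>
    ap_imgs (f := fun i => bn (p i) 1) (z hp)
      (fun u v => by show bn (p (u ^^^ v)) 1 = _; rw [hp, bn_xor]) hi
  have hl : imgs (fun i => bn (f i) 1) = imgs (fun i => bn (g i) 1) :=
    List.map_congr_left fun k hk => by simp only [h k (List.mem_range.1 hk)]
  have := e hg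
  rw [← hl, e hf] at this
  cases hfi : f i <;> cases hgi : g i <;> rw [hfi, hgi] at this <;> first | rfl | simp [bn] at this

theorem trans_val : ∀ k < 10, ∀ x < 16, ∀ z < 16,
    val (pull (fun w => Nat.xor w x) (2 ^ k)) z = val (2 ^ k) (Nat.xor z x) := by decide +kernel

theorem val_trans {i x z : ℕ} (hi : i < 1024) (hx : x < 16) (hz : z < 16) :
    val (pull (fun w => Nat.xor w x) i) z = val i (z ^^^ x) :=
  bool_ext (f := fun i => val (pull (fun w => Nat.xor w x) i) z) (g := fun i => val i (z ^^^ x))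
    (fun u v => by simp only [pull_xor, val_xor]) (fun u v => val_xor u v _)
    (fun k hk => trans_val k hk x hx z hz) hi

theorem levS_ok : ((List.range 5).all fun j => (List.range 16).all fun z => Nat.blt (levS j z) 16 &&
    ((List.range 16).all fun w => Nat.beq (levS j (Nat.xor z w)) (Nat.xor (levS j z) (levS j w)))) = true := by
  decide +kernel

theorem lev_val : ∀ k < 10, ∀ j < 5, ∀ z < 16,
    val (pull (levS j) (2 ^ k)) z = val (2 ^ k) (levS j z) := by decide +kernel

theorem val_lev {i j z : ℕ} (hi : i < 1024) (hj : j < 5) (hz : z < 16) :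
    val (pull (levS j) i) z = val i (levS j z) :=
  bool_ext (f := fun i => val (pull (levS j) i) z) (g := fun i => val i (levS j z))
    (fun u v => by simp only [pull_xor, val_xor]) (fun u v => val_xor u v _)
    (fun k hk => lev_val k hk j hj z hz) hi

end Cfsg.Agent.Co2Recog.NA
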