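import Cfsg.Agent.Lib.Co2Recog.Setup
import Cfsg.Agent.Lib.Co2Recog.NA.Space

/-!
The spin module cut by the transvection of the first letter: its fixed space, a singular complement, and the five
Levi transvections.
-/

set_option autoImplicit false
set_option maxRecDepth 100000

namespace Cfsg.Agent.Co2Recog.NA

open Cfsg.Agent.ThRec.Eight (act ap)

/-- The first transvection on the spin module. -/
def sg0 : List ℕ := sX.getD 0 []

/-- Membership in its fixed space. -/
def inW (v : ℕ) : Bool := Nat.beq (Nat.land v 85) 0

/-- The point of the sixteen belonging to a vector. -/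
def xc (v : ℕ) : ℕ :=
  bn (v.testBit 0) 1 ^^^ bn (v.testBit 6) 2 ^^^ bn (v.testBit 2) 4 ^^^ bn (v.testBit 4) 8

/-- The vector of the singular complement over a point. -/
def fz (z : ℕ) : ℕ := ap [1, 64, 4, 16] z

/-- The vector of the fixed space belonging to a functional. -/
def ew (i : ℕ) : ℕ := ap [128, 2, 32, 8] i

theorem w_fix : ∀ v < 256, inW v = Nat.beq (ap sg0 v) v := by decide +kernel

theorem w_enum : ∀ v < 256, inW v = true → ∃ i < 16, ew i = v := by decide +kernel

theorem ew_mem : ∀ i < 16, inW (ew i) = true ∧ ew i < 256 := by decide +kernel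

theorem fz_facts : ∀ z < 16, fz z < 256 ∧ xc (fz z) = z := by decide +kernel

theorem w_sing : ∀ i < 16, ∀ j < 16, qv (ew i) = false ∧ Bv (ew i) (ew j) = false := by decide +kernel

theorem w_dual : ∀ i < 16, ∀ z < 16, Bv (ew i) (fz z) = par (Nat.land i z) := by decide +kernel

theorem comp_sing : ∀ x < 16, ∀ z < 16, qv (fz x) = false ∧ Bv (fz x) (fz z) = false := by decide +kernel

theorem w_perp : ∀ v < 256, (∀ i < 4, Bv v (ew (2 ^ i)) = false) → inW v = true := by decide +kernel

theorem v_split : ∀ v < 256, xc v < 16 ∧ inW (Nat.xor v (fz (xc v))) = true := by decide +kernel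

theorem w_xc : ∀ v < 256, inW v = Nat.beq (xc v) 0 := by decide +kernel

theorem nondeg : ∀ v < 256, (∀ k < 8, Bv v (2 ^ k) = false) → v = 0 := by decide +kernel

theorem sg0_lt : ∀ v < 256, ap sg0 v < 256 := by decide +kernel

/-- The functions of a functional on the fixed space. -/
theorem dual_vec : ∀ l < 16, ∃ u < 256, ∀ i < 16, Bv u (ew i) = par (Nat.land l i) := by decide +kernel

/-- An involution over the first letter differs from a given one by an element of the fixed space. -/
theorem sg0_twist : ∀ v < 256, Nat.beq (ap sg0 v) v = true → inW v = true := by decide +kernel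

end Cfsg.Agent.Co2Recog.NA
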