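import Cfsg.Agent.Lib.Co2Recog.NA.Levi
import Cfsg.Agent.Lib.Solvable.Gaschutz

/-!
The normaliser of `A` splits over `A`.
-/

set_option autoImplicit false
set_option maxRecDepth 100000

namespace Cfsg.Agent.Co2Recog.NA

open Cfsg.Agent.ThRec.Eight (act ap ap_xor ap_zero)
open Cfsg.Agent.SymCoxeter (Rels adj)

theorem centreless6 {σ : Equiv.Perm (Fin 6)} (h : ∀ τ, σ * τ = τ * σ) : σ = 1 := by
  refine Equiv.ext fun a => ?_
  by_contra ha
  obtain ⟨b, hb, hb'⟩ := (by decide : ∀ a c : Fin 6, ∃ b, b ≠ a ∧ b ≠ c) a (σ a)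
  have e := congrArg (fun p : Equiv.Perm (Fin 6) => p a) (h (Equiv.swap a b))
  simp only [Equiv.Perm.mul_apply, Equiv.swap_apply_left] at e
  rw [Equiv.swap_apply_of_ne_of_ne (fun h => ha (by simpa using h)) (fun h => hb' h.symm)] at e
  exact hb (σ.injective e)

theorem adj_even : Equiv.Perm.sign (adj 5 0 * adj 5 1) = 1 := by
  rw [map_mul, adj, adj, dif_pos (by norm_num), dif_pos (by norm_num), Equiv.Perm.sign_swap (by decide),
    Equiv.Perm.sign_swap (by decide)]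
  rfl

variable {G : Type*} [Group G] {t : G} {Q : Subgroup G} {K : Coords t Q} {y : G} {idx : G → ℕ}

/-- The elements acting trivially on the coordinates lie in `A`. -/
theorem mem_AA_of_trivial (P : Pair t Q K y) (I : Idx t Q K idx) {n : G} {M : List ℕ}
    (A : Acts t Q K idx n M) (h : ∀ v < 1024, ap M v = v) : n ∈ AA K := by
  have hfix : ∀ a ∈ AA K, n * a = a * n := fun a ha =>
    mul_inv_eq_iff_eq_mul.1 (I.eq_of P tv_mem (A.mem ha) ha (by rw [A.eq a ha, h _ (I.lt a ha)]))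
  exact mem_AA.2 ⟨hfix t (t_mem P), fun e he hW => hfix e (E_le_AA P.S he hW)⟩

theorem acts_AA (P : Pair t Q K y) (I : Idx t Q K idx) {a : G} (ha : a ∈ AA K) :
    Acts t Q K idx a idM where
  norm := Subgroup.le_normalizer ha
  eq b hb := by
    rw [P.AA_comm tv_mem ha hb, mul_inv_cancel_right, ← I.acts_one.eq b hb, one_mul, inv_one, mul_one]

theorem AA_xc (P : Pair t Q K y) {a q : G} (ha : a ∈ AA K) (hq : q ∈ Q) :
    xc (K.c (a * q * a⁻¹)) = xc (K.c q) := by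
  have hm := Setup.na_conj P.S (AA_cent ha) hq
  have := AA_move P.S ha hq
  rw [K.c_mul _ hm _ (Q.inv_mem hq), Coord.c_inv P.S K hq, w_xc _ (lt8 (K.c_lt _ hm) (K.c_lt q hq)),
    Nat.beq_eq, xc_xor] at this
  exact eq_of_xor this

theorem idM_fix {v : ℕ} (hv : v < 1024) : ap idM v = v := by
  rw [show ap idM v = ap (trM 0) v from ap_ext (by decide +kernel) hv, trM_zero hv]

/-- **A complement in the normaliser inside the centraliser of `t`.** -/
theorem exists_local [Finite G] (P : Pair t Q K y) (F : Frame t Q K idx) :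
    ∃ K0 : Subgroup G, K0 ≤ Subgroup.normalizer (AA K : Set G) ∧ K0 ≤ Subgroup.centralizer {t} ∧
      (∀ k ∈ K0, k ∈ AA K → k = 1) ∧
      ∀ n ∈ Subgroup.normalizer (AA K : Set G), n * t = t * n → ∃ k ∈ K0, n * k⁻¹ ∈ AA K := by
  classical
  have I := F.idx_ok
  obtain ⟨xe, X⟩ := exists_lift16 P.S K
  obtain ⟨s, hs, hL⟩ := exists_rels P F X
  obtain ⟨φ, hφ, hrange⟩ := SymCoxeter.exists_hom 5 s hs
  have xinv : ∀ z < 16, (xe z)⁻¹ = xe z := fun z hz => inv_eq_of_mul_eq_one_right (by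
    rw [X.mul z hz z hz, Nat.xor_self, X.one])
  let X0 : Subgroup G :=
    { carrier := {g | ∃ z < 16, xe z = g}
      one_mem' := ⟨0, by norm_num, X.one⟩
      mul_mem' := by
        rintro _ _ ⟨z, hz, rfl⟩ ⟨w, hw, rfl⟩
        exact ⟨z ^^^ w, lt4 hz hw, (X.mul z hz w hw).symm⟩
      inv_mem' := by
        rintro _ ⟨z, hz, rfl⟩
        exact ⟨z, hz, (xinv z hz).symm⟩ }
  have hR : φ.range ≤ Subgroup.normalizer (AA K : Set G) ⊓ Subgroup.centralizer {t} ⊓
      Subgroup.normalizer (X0 : Set G) := by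
    rw [hrange, SymCoxeter.gen, Subgroup.closure_le]
    rintro _ ⟨j, hj, rfl⟩
    have L := hL j hj
    refine ⟨⟨L.act.norm, L.mem⟩, Subgroup.mem_normalizer_iff.2 fun g => ?_⟩
    have conj1 : ∀ g ∈ X0, s j * g * (s j)⁻¹ ∈ X0 := by
      rintro _ ⟨z, hz, rfl⟩
      obtain ⟨h1, e⟩ := L.conj z hz
      exact ⟨_, h1, e.symm⟩
    refine ⟨conj1 g, fun hg => ?_⟩
    have := conj1 _ hg
    rwa [inv_eq_of_mul_eq_one_right (hs.sq j hj), show s j * (s j * g * s j) * s j = (s j * s j) * g * (s j * s j)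
      by group, hs.sq j hj, one_mul, mul_one] at this
  have hXN : X0 ≤ Subgroup.normalizer (AA K : Set G) := by
    rintro _ ⟨z, hz, rfl⟩
    exact (X.acts P I hz).norm
  have hXC : X0 ≤ Subgroup.centralizer {t} := by
    rintro _ ⟨z, hz, rfl⟩
    exact P.S.le (X.mem z hz)
  have hsplit : ∀ k, k ∈ X0 ⊔ φ.range ↔ ∃ a ∈ X0, ∃ b ∈ φ.range, k = a * b := fun k =>
    SolvBasic.mem_sup_iff_of_le_normalizer (fun g hg => (hR hg).2)
  have hC : ∀ σ, φ σ ∈ Subgroup.centralizer {t} := fun σ => (hR ⟨σ, rfl⟩).1.2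
  have hN : ∀ σ, φ σ ∈ Subgroup.normalizer (AA K : Set G) := fun σ => (hR ⟨σ, rfl⟩).1.1
  -- the permutations trivial on the sixteen points
  let N0 : Subgroup (Equiv.Perm (Fin 6)) :=
    { carrier := {σ | ∀ q ∈ Q, xc (K.c (φ σ * q * (φ σ)⁻¹)) = xc (K.c q)}
      one_mem' := fun q _ => by rw [map_one, one_mul, inv_one, mul_one]
      mul_mem' := by
        intro a b ha hb q hq
        rw [map_mul, show φ a * φ b * q * (φ a * φ b)⁻¹ = φ a * (φ b * q * (φ b)⁻¹) * (φ a)⁻¹ by group,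
          ha _ (Setup.na_conj P.S (hC b) hq), hb q hq]
      inv_mem' := by
        intro a ha q hq
        have hm : φ a⁻¹ * q * (φ a⁻¹)⁻¹ ∈ Q := Setup.na_conj P.S (hC _) hq
        rw [← ha _ hm, map_inv]
        congr 2
        group }
  have hnormal : N0.Normal := ⟨fun a ha τ q hq => by
    obtain ⟨st, hst⟩ := exists_sig P (hC τ) (hN τ)
    have hm : φ τ⁻¹ * q * (φ τ⁻¹)⁻¹ ∈ Q := Setup.na_conj P.S (hC _) hq
    have hm2 : φ a * (φ τ⁻¹ * q * (φ τ⁻¹)⁻¹) * (φ a)⁻¹ ∈ Q := Setup.na_conj P.S (hC _) hm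
    rw [map_mul, map_mul, show φ τ * φ a * φ τ⁻¹ * q * (φ τ * φ a * φ τ⁻¹)⁻¹ =
      φ τ * (φ a * (φ τ⁻¹ * q * (φ τ⁻¹)⁻¹) * (φ a)⁻¹) * (φ τ)⁻¹ by group, hst.eq _ hm2, ha _ hm,
      ← hst.eq _ hm]
    congr 2
    rw [map_inv]; group⟩
  have h01 : adj 5 0 * adj 5 1 ∉ N0 := by
    intro h
    obtain ⟨z, hz, hne⟩ := two_lev
    have L := (hL 0 (by norm_num)).mul (hL 1 (by norm_num))
    have := h _ (X.mem z hz)
    rw [map_mul, hφ 0 (by norm_num), hφ 1 (by norm_num), (L.conj z hz).2, X.c _ (L.conj z hz).1, X.c z hz,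
      (fz_facts _ (L.conj z hz).1).2, (fz_facts z hz).2] at this
    exact hne this
  have hN0 : ∀ σ ∈ N0, σ = 1 := by
    haveI : IsSimpleGroup ↥(alternatingGroup (Fin 6)) := alternatingGroup.isSimpleGroup (by simp)
    haveI := hnormal
    rcases (Subgroup.Normal.subgroupOf hnormal (alternatingGroup (Fin 6))).eq_bot_or_eq_top with e | e
    · intro σ hσ
      refine centreless6 fun τ => ?_
      have h1 : σ * τ * σ⁻¹ * τ⁻¹ ∈ N0 := by
        rw [show σ * τ * σ⁻¹ * τ⁻¹ = σ * (τ * σ⁻¹ * τ⁻¹) by group]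
        exact N0.mul_mem hσ (hnormal.conj_mem _ (N0.inv_mem hσ) τ)
      have h2 : σ * τ * σ⁻¹ * τ⁻¹ ∈ alternatingGroup (Fin 6) := by
        rw [Equiv.Perm.mem_alternatingGroup, map_mul, map_mul, map_mul, map_inv, map_inv,
          mul_comm (Equiv.Perm.sign σ) (Equiv.Perm.sign τ), mul_inv_cancel_right, mul_inv_cancel]
      have h3 : (⟨_, h2⟩ : ↥(alternatingGroup (Fin 6))) ∈ N0.subgroupOf (alternatingGroup (Fin 6)) := h1
      rw [e, Subgroup.mem_bot] at h3
      exact mul_inv_eq_iff_eq_mul.1 (mul_inv_eq_one.1 (congrArg Subtype.val h3))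
    · exfalso
      have h3 : (⟨adj 5 0 * adj 5 1, Equiv.Perm.mem_alternatingGroup.2 adj_even⟩ :
          ↥(alternatingGroup (Fin 6))) ∈ N0.subgroupOf (alternatingGroup (Fin 6)) := e ▸ Subgroup.mem_top _
      exact h01 h3
  refine ⟨X0 ⊔ φ.range, sup_le hXN fun g hg => (hR hg).1.1, sup_le hXC fun g hg => (hR hg).1.2, ?_, ?_⟩
  · intro k hk hkA
    obtain ⟨_, ⟨z, hz, rfl⟩, _, ⟨σ, rfl⟩, rfl⟩ := (hsplit k).1 hk
    have hσ : σ ∈ N0 := by
      intro q hq
      have hm := Setup.na_conj P.S (hC σ) hq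
      rw [← AA_xc P hkA hq, show xe z * φ σ * q * (xe z * φ σ)⁻¹ = xe z * (φ σ * q * (φ σ)⁻¹) * (xe z)⁻¹ by group,
        Coord.rule P.S K (X.mem z hz) hm, K.c_mul _ hm _ (Setup.tw_mem P.S _), Coord.c_tw P.S K, Nat.xor_zero]
    rw [hN0 σ hσ, map_one, mul_one] at hkA ⊢
    have := AA_inter P.S (X.mem z hz) hkA
    rw [X.c z hz] at this
    rw [fz_zero z hz this, X.one]
  · intro n hn hnt
    obtain ⟨M, A⟩ := exists_mat P I tv_mem hn
    obtain ⟨w, hw, hM⟩ := exists_gen_word P F A hnt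
    have key : ∀ w : List ℕ, (∀ k ∈ w, k < 9) →
        ∃ g ∈ X0 ⊔ φ.range, ∃ M, Acts t Q K idx g M ∧ ∀ v < 1024, ap M v = wact w v := by
      intro w
      induction w with
      | nil => exact fun _ => ⟨1, one_mem _, idM, I.acts_one, fun v hv => idM_fix hv⟩
      | cons k w ih =>
        intro hw
        obtain ⟨g, hg, M, A, hM⟩ := ih fun i hi => hw i (List.mem_cons_of_mem _ hi)
        have hk := hw k List.mem_cons_self
        obtain ⟨h, hh, Ah⟩ : ∃ h ∈ X0 ⊔ φ.range, Acts t Q K idx h (genM k) := by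
          rw [genM]
          by_cases h4 : k < 4
          · rw [show Nat.blt k 4 = true by simpa [Nat.blt_eq] using h4, cond_true]
            have hx : 2 ^ k < 16 := Nat.pow_lt_pow_right (m := k) (n := 4) (by norm_num) h4
            exact ⟨xe (2 ^ k), Subgroup.mem_sup_left ⟨_, hx, rfl⟩, X.acts P I hx⟩
          · rw [show Nat.blt k 4 = false by rw [Bool.eq_false_iff]; intro h; exact h4 (by simpa [Nat.blt_eq] using h),
              cond_false]
            exact ⟨s (k - 4), Subgroup.mem_sup_right ⟨adj 5 (k - 4), hφ _ (by omega)⟩, (hL (k - 4) (by omega)).act⟩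
        exact ⟨h * g, mul_mem hh hg, _, Ah.mul A, fun v hv => by rw [ap_comp, hM v hv]; rfl⟩
    obtain ⟨g, hg, M', A', hM'⟩ := key w hw
    refine ⟨g, hg, ?_⟩
    obtain ⟨M'', A''⟩ := exists_mat P I tv_mem (inv_mem A'.norm)
    refine mem_AA_of_trivial P I (A.mul A'') fun v hv => ?_
    obtain ⟨a, ha, rfl⟩ := I.surj v hv
    rw [ap_comp, ← A''.eq a ha, hM _ (I.lt _ (A''.mem ha)), ← hM' _ (I.lt _ (A''.mem ha)),
      ← A'.eq _ (A''.mem ha)]
    congr 1
    group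

/-- **The normaliser splits.** -/
theorem exists_split [Finite G] (P : Pair t Q K y) (F : Frame t Q K idx) :
    ∃ H : Subgroup G, H ≤ Subgroup.normalizer (AA K : Set G) ∧ (∀ h ∈ H, h ∈ AA K → h = 1) ∧
      ∀ n ∈ Subgroup.normalizer (AA K : Set G), ∃ h ∈ H, n * h⁻¹ ∈ AA K := by
  classical
  have I := F.idx_ok
  obtain ⟨K0, hKN, hKC, hK1, hK2⟩ := exists_local P F
  set N := Subgroup.normalizer (AA K : Set G)
  have hAN : AA K ≤ N := Subgroup.le_normalizer
  haveI : ((AA K).subgroupOf N).Normal := Subgroup.normal_subgroupOf_of_le_normalizer le_rfl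
  haveI : IsMulCommutative ↥((AA K).subgroupOf N) :=
    ⟨⟨fun a b => Subtype.ext (Subtype.ext (P.AA_comm tv_mem a.2 b.2))⟩⟩
  have hcardA : Nat.card ↥((AA K).subgroupOf N) = 1024 := by
    rw [Nat.card_congr (Subgroup.subgroupOfEquivOfLe hAN).toEquiv]
    let f : ↥(AA K) → Fin 1024 := fun a => ⟨idx a, I.lt a a.2⟩
    rw [Nat.card_eq_of_bijective f ⟨fun a b e => Subtype.ext (I.eq_of P tv_mem a.2 b.2 (congrArg Fin.val e)),
      fun n => by obtain ⟨a, ha, e⟩ := I.surj n n.isLt; exact ⟨⟨a, ha⟩, Fin.ext e⟩⟩, Nat.card_fin]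
  have hindex : ((Subgroup.centralizer {t}).subgroupOf N).index = 77 := by
    have hmem : ∀ n : ↥N, idx ((n : G) * t * (n : G)⁻¹) ∈ s77.toFinset := fun n => by
      have hlt := I.lt _ ((Subgroup.mem_normalizer_iff.1 n.2 t).1 (t_mem P))
      rw [List.mem_toFinset, mem_s77 hlt, ← inOrb_iff P F hlt]
      exact ⟨n, n.2, rfl⟩
    have hker : ∀ a b : ↥N, a⁻¹ * b ∈ (Subgroup.centralizer {t}).subgroupOf N ↔
        idx ((a : G) * t * (a : G)⁻¹) = idx ((b : G) * t * (b : G)⁻¹) := by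
      intro a b
      rw [Subgroup.mem_subgroupOf, Subgroup.mem_centralizer_singleton_iff]
      push_cast
      constructor
      · intro e
        congr 1
        calc (a : G) * t * (a : G)⁻¹ = (a : G) * (t * ((a : G)⁻¹ * b)) * (b : G)⁻¹ := by group
          _ = (b : G) * t * (b : G)⁻¹ := by rw [← e]; group
      · intro e
        have e2 := I.eq_of P tv_mem ((Subgroup.mem_normalizer_iff.1 a.2 t).1 (t_mem P))
          ((Subgroup.mem_normalizer_iff.1 b.2 t).1 (t_mem P)) e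
        calc (a : G)⁻¹ * b * t = (a : G)⁻¹ * ((b : G) * t * (b : G)⁻¹) * b := by group
          _ = t * ((a : G)⁻¹ * b) := by rw [← e2]; group
    let f : ↥N ⧸ (Subgroup.centralizer {t}).subgroupOf N → ↥(s77.toFinset) :=
      Quotient.lift (fun n => ⟨idx ((n : G) * t * (n : G)⁻¹), hmem n⟩) fun a b h =>
        Subtype.ext ((hker a b).1 (QuotientGroup.leftRel_apply.1 h))
    rw [Subgroup.index, Nat.card_eq_of_bijective f ⟨?_, ?_⟩, Nat.card_eq_finsetCard,
      List.toFinset_card_of_nodup (by decide +kernel), opt_66.2.2.1]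
    · rintro ⟨a⟩ ⟨b⟩ h
      exact QuotientGroup.eq.2 ((hker a b).2 (congrArg Subtype.val h))
    · rintro ⟨x, hx⟩
      rw [List.mem_toFinset] at hx
      obtain ⟨g, hg, e⟩ := (inOrb_iff P F (s77_lt hx)).2 ((mem_s77 (s77_lt hx)).1 hx)
      exact ⟨QuotientGroup.mk ⟨g, hg⟩, Subtype.ext e⟩
  have hAC : AA K ≤ Subgroup.centralizer {t} := fun a ha => AA_cent ha
  obtain ⟨H, hH⟩ := SolvGaschutz.existence (K := (AA K).subgroupOf N)
    (U := (Subgroup.centralizer {t}).subgroupOf N) (A := K0.subgroupOf N)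
    (fun x hx => hAC hx) (by rw [hcardA, hindex]; decide +kernel) (fun x hx => hKC hx)
    (by
      refine Subgroup.eq_bot_iff_forall _ |>.2 fun x hx => Subtype.ext (hK1 _ hx.1 hx.2))
    (by
      refine le_antisymm (sup_le (fun x hx => hAC hx) fun x hx => hKC hx) fun x hx => ?_
      obtain ⟨k, hk, hxk⟩ := hK2 _ x.2 (Subgroup.mem_centralizer_singleton_iff.1 hx)
      have : x = (⟨(x : G) * k⁻¹, hAN hxk⟩ : ↥N) * ⟨k, hKN hk⟩ := Subtype.ext (by simp)
      rw [this]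
      exact mul_mem (Subgroup.mem_sup_left hxk) (Subgroup.mem_sup_right hk))
  refine ⟨H.map N.subtype, Subgroup.map_subtype_le H, ?_, fun n hn => ?_⟩
  · rintro _ ⟨h, hh, rfl⟩ hA
    have := hH.disjoint
    rw [Subgroup.disjoint_def] at this
    exact congrArg Subtype.val (this hA hh)
  · obtain ⟨⟨a, h⟩, e⟩ := hH.2 (⟨n, hn⟩ : ↥N)
    refine ⟨((h : ↥N) : G), ⟨h, h.2, rfl⟩, ?_⟩
    have e' : ((a : ↥N) : G) * ((h : ↥N) : G) = n := congrArg Subtype.val e
    rw [← e', mul_inv_cancel_right]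
    exact a.2

end Cfsg.Agent.Co2Recog.NA
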